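import Cfsg.Agent.Lib.OstromWagner.Slopes
import Mathlib.LinearAlgebra.Projectivization.Basic
import Mathlib.LinearAlgebra.FiniteDimensional.Basic
import Mathlib.LinearAlgebra.Dimension.Free
import Mathlib.LinearAlgebra.Dimension.Constructions
import Mathlib.Algebra.Field.Shrink
import Mathlib.Algebra.Ring.Shrink

/-!
# A finite Moufang plane is coordinatised by a field
-/

set_option autoImplicit false
set_option linter.unusedSectionVars false

namespace CfsgLib.OstromWagner

open Configuration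

/-- The linear form with three given coefficients. -/
def form3 {F : Type*} [Field F] (a b c : F) : (Fin 3 → F) →ₗ[F] F where
  toFun v := a * v 0 + b * v 1 + c * v 2
  map_add' v w := by simp only [Pi.add_apply]; ring
  map_smul' r v := by simp only [Pi.smul_apply, smul_eq_mul, RingHom.id_apply]; ring

theorem form3_apply {F : Type*} [Field F] (a b c : F) (v : Fin 3 → F) :
    form3 a b c v = a * v 0 + b * v 1 + c * v 2 := rfl

theorem finrank_ker_form3 {F : Type*} [Field F] {a b c : F}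
    (h : ∃ v : Fin 3 → F, form3 a b c v ≠ 0) :
    Module.finrank F (LinearMap.ker (form3 a b c)) = 2 := by
  obtain ⟨v, hv⟩ := h
  have hr : LinearMap.range (form3 a b c) = ⊤ := by
    refine LinearMap.range_eq_top.2 fun y => ⟨(y / form3 a b c v) • v, ?_⟩
    rw [map_smul, smul_eq_mul, div_mul_cancel₀ y hv]
  have h1 := LinearMap.finrank_range_add_finrank_ker (form3 a b c)
  rw [hr, finrank_top, Module.finrank_self, Module.finrank_fin_fun] at h1
  omega

universe u v w

variable {G : Type u} {P : Type v} {L : Type w} [Group G] [MulAction G P] [MulAction G L]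
  [Membership P L] [IsCollAction G P L] [ProjectivePlane P L] [Finite P] [Finite L]
  [FaithfulSMul G P]

/-- Coordinates from a field of slopes. -/
theorem desarguesian_of_slopes {F : Type} [Field F] (hM : Moufang G P L) {l : L} {b : P}
    (hb : b ∈ l) (τ : F → F → G) (R : {c : P // c ∈ l ∧ c ≠ b} → F)
    (hadd : ∀ x y x' y', τ (x + x') (y + y') = τ x y * τ x' y')
    (hmem : ∀ x y, τ x y ∈ elGroup G P l)
    (hsurj : ∀ g ∈ elGroup G P l, ∃ x y, τ x y = g)
    (hinj : ∀ x y, τ x y = 1 → x = 0 ∧ y = 0) (hR : Function.Bijective R)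
    (hslope : ∀ x y (c : {c : P // c ∈ l ∧ c ≠ b}), τ x y ∈ elCentre G c.1 l ↔ y = R c * x)
    (hvert : ∀ x y, τ x y ∈ elCentre G b l ↔ x = 0) :
    ∃ φ : P ≃ Projectivization F (Fin 3 → F),
      (∀ m : L, ∃ W : Submodule F (Fin 3 → F), Module.finrank F W = 2 ∧
          ∀ p : P, p ∈ m ↔ (φ p).submodule ≤ W) ∧
      (∀ W : Submodule F (Fin 3 → F), Module.finrank F W = 2 →
          ∃ m : L, ∀ p : P, p ∈ m ↔ (φ p).submodule ≤ W) := by
  classical
  obtain ⟨o, ho⟩ := exists_off (P := P) l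
  let α : F × F → {p : P // p ∉ l} := fun z => ⟨τ z.1 z.2 • o, elGroup_off (hmem z.1 z.2) ho⟩
  have hα1 : Function.Injective α := by
    rintro ⟨x, y⟩ ⟨x', y'⟩ h
    have e : τ x y • o = τ x' y' • o := congrArg Subtype.val h
    have h' : τ x y = τ x' y' * τ (x - x') (y - y') := by
      rw [← hadd, add_sub_cancel, add_sub_cancel]
    rw [h', mul_smul] at e
    have := hinj _ _ (elGroup_free (hmem _ _) ho (MulAction.injective _ e))
    exact Prod.ext (sub_eq_zero.1 this.1) (sub_eq_zero.1 this.2)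
  have hα2 : Function.Surjective α := fun p => by
    obtain ⟨g, hg, hgp⟩ := hM l o p.1 ho p.2
    obtain ⟨x, y, rfl⟩ := hsurj g hg
    exact ⟨(x, y), Subtype.ext hgp⟩
  let αe := Equiv.ofBijective α ⟨hα1, hα2⟩
  let vec : P → (Fin 3 → F) := fun p =>
    if hp : p ∈ l then (if hpb : p = b then ![0, 0, 1] else ![0, 1, R ⟨p, hp, hpb⟩])
    else ![1, (αe.symm ⟨p, hp⟩).1, (αe.symm ⟨p, hp⟩).2]
  have vec_b : vec b = ![0, 0, 1] := by simp [vec, hb]
  have vec_on : ∀ c : {c : P // c ∈ l ∧ c ≠ b}, vec c.1 = ![0, 1, R c] := fun c => by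
    simp [vec, c.2.1, c.2.2]
  have vec_off : ∀ x y, vec (α (x, y)).1 = ![1, x, y] := fun x y => by
    have h2 : αe.symm (α (x, y)) = (x, y) := αe.symm_apply_apply (x, y)
    simp only [vec, dif_neg (α (x, y)).2, Subtype.coe_eta, h2]
  have cases3 : ∀ p : P, p = b ∨ (∃ c : {c : P // c ∈ l ∧ c ≠ b}, c.1 = p) ∨
      ∃ x y, (α (x, y)).1 = p := by
    intro p
    by_cases hp : p ∈ l
    · by_cases hpb : p = b
      · exact Or.inl hpb
      · exact Or.inr (Or.inl ⟨⟨p, hp, hpb⟩, rfl⟩)
    · obtain ⟨⟨x, y⟩, hxy⟩ := hα2 ⟨p, hp⟩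
      exact Or.inr (Or.inr ⟨x, y, congrArg Subtype.val hxy⟩)
  have hne : ∀ p, vec p ≠ 0 := by
    intro p h
    rcases cases3 p with rfl | ⟨c, rfl⟩ | ⟨x, y, rfl⟩
    · rw [vec_b] at h; simpa using congrFun h 2
    · rw [vec_on] at h; simpa using congrFun h 1
    · rw [vec_off] at h; simpa using congrFun h 0
  let φ₀ : P → Projectivization F (Fin 3 → F) := fun p => Projectivization.mk F (vec p) (hne p)
  have hφinj : Function.Injective φ₀ := by
    intro p q h
    obtain ⟨r, hr⟩ := (Projectivization.mk_eq_mk_iff' F _ _ (hne p) (hne q)).1 h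
    rcases cases3 p with rfl | ⟨c, rfl⟩ | ⟨x, y, rfl⟩ <;>
      rcases cases3 q with rfl | ⟨d, rfl⟩ | ⟨x', y', rfl⟩ <;>
      simp only [vec_b, vec_on, vec_off] at hr <;>
      have h0 := congrFun hr 0 <;> have h1 := congrFun hr 1 <;> have h2 := congrFun hr 2 <;>
      simp at h0 h1 h2
    · rfl
    all_goals first
      | (subst h1; rw [one_mul] at h2; exact congrArg Subtype.val (hR.1 h2.symm))
      | (subst h0; rw [one_mul] at h1 h2; rw [h1, h2])
      | (exfalso; subst h0; simp at h1 h2)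
      | (exfalso; subst h1; simp at h2)
      | skip
  have hφsurj : Function.Surjective φ₀ := by
    intro z
    induction z using Projectivization.ind with
    | h v hv =>
      suffices ∃ p, ∃ r : F, r • v = vec p by
        obtain ⟨p, r, hr⟩ := this
        exact ⟨p, (Projectivization.mk_eq_mk_iff' F _ _ (hne p) hv).2 ⟨r, hr⟩⟩
      by_cases h0 : v 0 = 0
      · by_cases h1 : v 1 = 0
        · have h2 : v 2 ≠ 0 := fun h2 => hv (funext fun i => by fin_cases i <;> assumption)
          refine ⟨b, (v 2)⁻¹, ?_⟩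
          rw [vec_b]
          funext i; fin_cases i <;> simp [h0, h1, h2]
        · obtain ⟨c, hc⟩ := hR.2 ((v 1)⁻¹ * v 2)
          refine ⟨c.1, (v 1)⁻¹, ?_⟩
          rw [vec_on, hc]
          funext i; fin_cases i <;> simp [h0, h1]
      · refine ⟨(α ((v 0)⁻¹ * v 1, (v 0)⁻¹ * v 2)).1, (v 0)⁻¹, ?_⟩
        rw [vec_off]
        funext i; fin_cases i <;> simp [h0]
  let φ := Equiv.ofBijective φ₀ ⟨hφinj, hφsurj⟩
  have hsub : ∀ (p : P) (W : Submodule F (Fin 3 → F)), (φ p).submodule ≤ W ↔ vec p ∈ W := by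
    intro p W
    show (Projectivization.mk F (vec p) (hne p)).submodule ≤ W ↔ _
    rw [Projectivization.submodule_mk, Submodule.span_singleton_le_iff_mem]
  have hlines : ∀ m : L, ∃ W : Submodule F (Fin 3 → F), Module.finrank F W = 2 ∧
      ∀ p : P, p ∈ m ↔ (φ p).submodule ≤ W := by
    intro m
    suffices ∃ A B C : F, (∃ v, form3 A B C v ≠ 0) ∧ ∀ p, p ∈ m ↔ form3 A B C (vec p) = 0 by
      obtain ⟨A, B, C, h1, h2⟩ := this
      exact ⟨_, finrank_ker_form3 h1, fun p => by rw [hsub, LinearMap.mem_ker]; exact h2 p⟩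
    by_cases hml : m = l
    · subst hml
      refine ⟨1, 0, 0, ⟨![1, 0, 0], by simp [form3_apply]⟩, fun p => ?_⟩
      rcases cases3 p with rfl | ⟨c, rfl⟩ | ⟨x, y, rfl⟩
      · simp [form3_apply, vec_b, hb]
      · simp [form3_apply, vec_on, c.2.1]
      · simp [form3_apply, vec_off, (α (x, y)).2]
    obtain ⟨c, hcm, hcl⟩ := exists_point_on P m l
    obtain ⟨X, hXm, hXc, -⟩ := exists_third_point m c c
    have hXl : X ∉ l := fun e => hXc (point_unique hml hXm e hcm hcl)
    obtain ⟨⟨x₀, y₀⟩, hX⟩ := hα2 ⟨X, hXl⟩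
    have hX' : τ x₀ y₀ • o = X := congrArg Subtype.val hX
    have hline : ∀ x y, (α (x, y)).1 ∈ m ↔ τ (x - x₀) (y - y₀) ∈ elCentre G c l := by
      intro x y
      rw [tc_iff (hmem _ _) hcl hXl hXm hcm]
      have : τ (x - x₀) (y - y₀) • X = (α (x, y)).1 := by
        rw [← hX', ← mul_smul, ← hadd, sub_add_cancel, sub_add_cancel]
      rw [this]
    have hon : ∀ p : P, p ∈ l → (p ∈ m ↔ p = c) := fun p hp =>
      ⟨fun h => point_unique hml h hp hcm hcl, fun h => h ▸ hcm⟩
    by_cases hcb : c = b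
    · subst hcb
      refine ⟨-x₀, 1, 0, ⟨![0, 1, 0], by simp [form3_apply]⟩, fun p => ?_⟩
      rcases cases3 p with rfl | ⟨d, rfl⟩ | ⟨x, y, rfl⟩
      · simp [form3_apply, vec_b, hcm]
      · rw [hon _ d.2.1]
        simp [form3_apply, vec_on, d.2.2]
      · rw [hline, hvert]
        simp [form3_apply, vec_off, sub_eq_zero, neg_add_eq_zero, eq_comm]
    · let cc : {c : P // c ∈ l ∧ c ≠ b} := ⟨c, hcl, hcb⟩
      refine ⟨R cc * x₀ - y₀, -R cc, 1, ⟨![0, 0, 1], by simp [form3_apply]⟩, fun p => ?_⟩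
      rcases cases3 p with rfl | ⟨d, rfl⟩ | ⟨x, y, rfl⟩
      · rw [hon _ hb]
        simp [form3_apply, vec_b, Ne.symm hcb]
      · rw [hon _ d.2.1]
        simp only [form3_apply, vec_on, Matrix.cons_val]
        constructor
        · intro h
          rw [show d = cc from Subtype.ext h]
          ring
        · intro h
          exact congrArg Subtype.val (hR.1 (show R d = R cc by linear_combination h))
      · rw [hline, hslope _ _ cc]
        simp only [form3_apply, vec_off, Matrix.cons_val]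
        constructor <;> intro h <;> linear_combination h
  refine ⟨φ, hlines, fun W hW => ?_⟩
  haveI : FiniteDimensional F W := FiniteDimensional.finiteDimensional_submodule W
  let bs := Module.finBasisOfFinrankEq F W hW
  have hb0 : ∀ i, ((bs i : W) : Fin 3 → F) ≠ 0 := fun i h => bs.ne_zero i (Subtype.ext h)
  obtain ⟨p, hp⟩ := φ.surjective (Projectivization.mk F _ (hb0 0))
  obtain ⟨q, hq⟩ := φ.surjective (Projectivization.mk F _ (hb0 1))
  obtain ⟨m, hpm, hqm⟩ := exists_line_through L p q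
  obtain ⟨W', hW', hm⟩ := hlines m
  refine ⟨m, fun r => ?_⟩
  have h0 := (hm p).1 hpm
  have h1 := (hm q).1 hqm
  rw [hp, Projectivization.submodule_mk, Submodule.span_singleton_le_iff_mem] at h0
  rw [hq, Projectivization.submodule_mk, Submodule.span_singleton_le_iff_mem] at h1
  have hle : W ≤ W' := by
    intro x hx
    have := congrArg Subtype.val (bs.sum_repr ⟨x, hx⟩)
    rw [Fin.sum_univ_two] at this
    rw [show x = _ from this.symm]
    exact W'.add_mem (W'.smul_mem _ h0) (W'.smul_mem _ h1)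
  rw [Submodule.eq_of_le_of_finrank_eq hle (hW.trans hW'.symm)]
  exact hm r

/-- A finite Moufang plane is Desarguesian. -/
theorem desarguesian_of_moufang [Finite G] (hM : Moufang G P L) :
    ∃ (F : Type) (_ : Field F) (_ : Fintype F) (φ : P ≃ Projectivization F (Fin 3 → F)),
      (∀ m : L, ∃ W : Submodule F (Fin 3 → F), Module.finrank F W = 2 ∧
          ∀ p : P, p ∈ m ↔ (φ p).submodule ≤ W) ∧
      (∀ W : Submodule F (Fin 3 → F), Module.finrank F W = 2 →
          ∃ m : L, ∀ p : P, p ∈ m ↔ (φ p).submodule ≤ W) := by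
  obtain ⟨p₁, p₂, p₃, l, l₂, l₃, -⟩ := @ProjectivePlane.exists_config P L _ _
  obtain ⟨a, ha, -, -⟩ := exists_third_point l p₁ p₁
  obtain ⟨b, hb, hba, -⟩ := exists_third_point l a a
  obtain ⟨e, he, hea, heb⟩ := exists_third_point l a b
  obtain ⟨K, _, _, τ, R, hadd, hmem, hsurj, hinj, hR, hslope, hvert⟩ :=
    exists_slopes hM ha hb he hba.symm hea heb
  haveI : Small.{0} K := Countable.toSmall K
  let σ : Shrink.{0} K ≃+* K := Shrink.ringEquiv K
  haveI : Finite (Shrink.{0} K) := Finite.of_equiv K σ.symm.toEquiv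
  obtain ⟨φ, h1, h2⟩ := desarguesian_of_slopes hM hb (fun x y => τ (σ x) (σ y))
    (fun c => σ.symm (R c)) (fun x y x' y' => by simp only [map_add, hadd]) (fun x y => hmem _ _)
    (fun g hg => by
      obtain ⟨x, y, h⟩ := hsurj g hg
      exact ⟨σ.symm x, σ.symm y, by simp [h]⟩)
    (fun x y h => by simpa using hinj _ _ h) (σ.symm.bijective.comp hR)
    (fun x y c => by
      rw [hslope]
      conv_rhs => rw [← σ.injective.eq_iff, map_mul, RingEquiv.apply_symm_apply])
    (fun x y => by rw [hvert]; simp)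
  exact ⟨Shrink.{0} K, inferInstance, Fintype.ofFinite _, φ, h1, h2⟩

end CfsgLib.OstromWagner
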