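import Mathlib

/-!
# Counting lemmas for the homology lemma

* `card_eq_of_partner`: the component sizes of a two-directional elation group decomposed by
  commuting homologies: one of them equals the order of the plane.
* `mul_inverted_of_comm`: coprime decomposition in an abelian group of odd order under an involution.
-/

namespace CfsgLib.OW

/-- If `t = 1 + ∑ (e i - 1)`, `e i * e (φ i) = t`, `e i * e j ≤ t` for `i ≠ j` and `e i < t`,
then some `e i` equals the number of indices minus one. -/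
theorem exists_eq_card_sub_one {ι : Type*} [Fintype ι] [Nonempty ι] (e : ι → ℕ) (φ : ι → ι)
    (t : ℕ) (hmul : ∀ i, e i * e (φ i) = t)
    (hle : ∀ i j, i ≠ j → e i * e j ≤ t) (hlt : ∀ i, e i < t)
    (hsum : t = 1 + ∑ i, (e i - 1)) : ∃ i, e i = Fintype.card ι - 1 := by
  classical
  obtain ⟨i₀, -, hmax⟩ := Finset.exists_max_image (Finset.univ : Finset ι) e Finset.univ_nonempty
  have htpos : 0 < t := lt_of_le_of_lt (Nat.zero_le _) (hlt i₀)
  have hpos : ∀ i, 0 < e i := fun i => Nat.pos_of_ne_zero fun h => by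
    have := hmul i; rw [h, zero_mul] at this; omega
  have htwo : ∀ i, 2 ≤ e i := fun i => by
    have h1 := hmul i
    have h2 := hlt (φ i)
    have h3 := hpos i
    by_contra hc
    have : e i = 1 := by omega
    rw [this, one_mul] at h1; omega
  set j₀ := φ i₀
  have hothers : ∀ k, k ≠ i₀ → e k = e j₀ := fun k hk => by
    have h1 : e k ≤ e j₀ := by
      have := hle i₀ k hk.symm
      rw [← hmul i₀] at this
      exact Nat.le_of_mul_le_mul_left this (hpos i₀)
    refine le_antisymm h1 (Nat.le_of_mul_le_mul_right ?_ (hpos i₀))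
    calc e j₀ * e i₀ = e k * e (φ k) := by rw [mul_comm, hmul i₀, hmul k]
      _ ≤ e k * e i₀ := Nat.mul_le_mul_left _ (hmax _ (Finset.mem_univ _))
  have hsplit : ∑ i, (e i - 1) = (e i₀ - 1) + (Fintype.card ι - 1) * (e j₀ - 1) := by
    rw [← Finset.add_sum_erase _ _ (Finset.mem_univ i₀),
      Finset.sum_congr rfl (fun k hk => by rw [hothers k (Finset.ne_of_mem_erase hk)]),
      Finset.sum_const, Finset.card_erase_of_mem (Finset.mem_univ i₀), Finset.card_univ,
      smul_eq_mul]
  refine ⟨i₀, ?_⟩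
  have h1 := hmul i₀
  rw [hsum, hsplit] at h1
  obtain ⟨a, ha⟩ : ∃ a, e i₀ = a + 1 := ⟨e i₀ - 1, by have := hpos i₀; omega⟩
  obtain ⟨b, hb⟩ : ∃ b, e j₀ = b + 2 := ⟨e j₀ - 2, by have := htwo j₀; omega⟩
  rw [ha, hb] at h1
  simp only [Nat.add_sub_cancel, show b + 2 - 1 = b + 1 by omega] at h1
  have h2 : (a + 1) * (b + 1) = (Fintype.card ι - 1) * (b + 1) := by
    have : (a + 1) * (b + 2) = (a + 1) * (b + 1) + (a + 1) := by ring
    omega
  rw [ha]
  exact Nat.eq_of_mul_eq_mul_right (Nat.succ_pos b) h2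

variable {G : Type*} [Group G]

/-- Coprime decomposition: `x` of odd order commuting with its conjugate under `f` is the product
of an element fixed by `f` and an element inverted by `f`, both in `⟨x, f x⟩`. -/
theorem exists_fixed_mul_inverted (f : G →* G) (hf : ∀ y, f (f y) = y) (x : G)
    (hx : Odd (orderOf x)) (hc : Commute x (f x)) :
    ∃ c i, x = c * i ∧ f c = c ∧ f i = i⁻¹ ∧
      c ∈ Subgroup.closure ({x, f x} : Set G) ∧ i ∈ Subgroup.closure ({x, f x} : Set G) := by
  obtain ⟨k, hk⟩ := hx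
  have hmx : x ∈ Subgroup.closure ({x, f x} : Set G) := Subgroup.subset_closure (Or.inl rfl)
  have hmf : f x ∈ Subgroup.closure ({x, f x} : Set G) := Subgroup.subset_closure (Or.inr rfl)
  refine ⟨(x * f x) ^ (k + 1), (x * (f x)⁻¹) ^ (k + 1), ?_, ?_, ?_, pow_mem (mul_mem hmx hmf) _,
    pow_mem (mul_mem hmx (inv_mem hmf)) _⟩
  · rw [hc.mul_pow, hc.inv_right.mul_pow, inv_pow]
    have h1 : ((f x) ^ (k + 1)) * (x ^ (k + 1) * ((f x) ^ (k + 1))⁻¹) = x ^ (k + 1) := by
      rw [← mul_assoc, (hc.pow_pow (k + 1) (k + 1)).symm.eq, mul_inv_cancel_right]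
    rw [mul_assoc, h1, ← pow_add, show k + 1 + (k + 1) = orderOf x + 1 by omega, pow_succ,
      pow_orderOf_eq_one, one_mul]
  · rw [map_pow, map_mul, hf, hc.eq]
  · rw [map_pow, map_mul, map_inv, hf, ← inv_pow]
    congr 1
    rw [mul_inv_rev, inv_inv]

end CfsgLib.OW
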