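import Mathlib

/-!
# A polarity of a finite projective plane has an absolute point

In matrix form: a symmetric incidence matrix `A` of a plane of order `n` satisfies `A ^ k = J`
for `k ≥ 2` modulo a prime `ℓ ∣ n`, so `A.trace = 0` would give `1 = (A ^ ℓ).trace = 0`.
-/

namespace CfsgLib.OW
open Configuration Matrix

variable {P L : Type*} [Membership P L] [Fintype P] [Fintype L] [ProjectivePlane P L]

theorem exists_absolute_of_sym (φ : P → L) (hφ : Function.Injective φ)
    (hsym : ∀ x y : P, y ∈ φ x → x ∈ φ y) : ∃ x : P, x ∈ φ x := by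
  classical
  by_contra hno
  push Not at hno
  set n := ProjectivePlane.order P L with hn
  obtain ⟨ℓ, hℓ, hdvd⟩ := Nat.exists_prime_and_dvd (n := n) (by
    have := ProjectivePlane.one_lt_order P L; omega)
  have : Fact ℓ.Prime := ⟨hℓ⟩
  have hn0 : (n : ZMod ℓ) = 0 := (ZMod.natCast_eq_zero_iff n ℓ).mpr hdvd
  let A : Matrix P P (ZMod ℓ) := Matrix.of fun x y => if y ∈ φ x then 1 else 0
  let J : Matrix P P (ZMod ℓ) := Matrix.of fun _ _ => 1
  have hrow : ∀ x : P, (Finset.univ.filter (fun y => y ∈ φ x)).card = n + 1 := by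
    intro x
    have h := ProjectivePlane.pointCount_eq P (φ x)
    simp only [pointCount, Nat.card_eq_fintype_card] at h
    rw [← h, Fintype.card_subtype]
  have hAA : A * A = J := by
    ext x z
    simp only [Matrix.mul_apply, A, J, Matrix.of_apply]
    have hiff : ∀ y, (z ∈ φ y) ↔ (y ∈ φ z) := fun y => ⟨hsym y z, hsym z y⟩
    rw [Finset.sum_congr rfl (fun y _ => show (if y ∈ φ x then (1 : ZMod ℓ) else 0) * (if z ∈ φ y then 1 else 0) = if y ∈ φ z ∧ y ∈ φ x then 1 else 0 by
      by_cases h1 : y ∈ φ x <;> by_cases h2 : y ∈ φ z <;> simp [h1, h2, hiff y]), Finset.sum_boole]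
    rcases eq_or_ne x z with rfl | hne
    · simp only [and_self]
      rw [hrow x]; simp [hn0]
    · obtain ⟨y, hy, huniq⟩ := HasPoints.existsUnique_point P L (φ x) (φ z) (fun h => hne (hφ h))
      rw [show (Finset.univ.filter (fun w => w ∈ φ z ∧ w ∈ φ x)) = {y} by
        ext w; simp only [Finset.mem_filter, Finset.mem_univ, true_and, Finset.mem_singleton]
        exact ⟨fun h => huniq w ⟨h.2, h.1⟩, fun h => h ▸ ⟨hy.2, hy.1⟩⟩]
      simp
  have hAJ : A * J = J := by
    ext x z
    simp only [Matrix.mul_apply, A, J, Matrix.of_apply, mul_one]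
    rw [Finset.sum_boole, hrow x]; simp [hn0]
  have hpow : ∀ k, A ^ (k + 2) = J := by
    intro k
    induction k with
    | zero => rw [pow_two, hAA]
    | succ k ih => rw [pow_succ', ih, hAJ]
  have htrA : A.trace = 0 := by
    simp [Matrix.trace, A, hno]
  have htrJ : J.trace = (1 : ZMod ℓ) := by
    simp only [Matrix.trace, Matrix.diag, J, Matrix.of_apply, Finset.sum_const, Finset.card_univ,
      nsmul_eq_mul, mul_one]
    rw [ProjectivePlane.card_points P L]; push_cast; simp [← hn, hn0]
  have h := ZMod.trace_pow_card A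
  obtain ⟨k, hk⟩ := Nat.exists_eq_add_of_le hℓ.two_le
  rw [htrA, zero_pow hℓ.ne_zero, show A ^ ℓ = J from (congrArg (A ^ ·) (hk.trans (add_comm 2 k))).trans (hpow k), htrJ] at h
  exact one_ne_zero h

end CfsgLib.OW
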