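import Cfsg.Agent.Lib.OstromWagner.Moufang
import Cfsg.Agent.Lib.OstromWagner.Polarity
import Cfsg.Agent.Lib.OstromWagner.Counting

/-!
# Planes in which every pair of points and of lines is fixed by an involutory homology

If the order of the plane is odd, every involution of `G` is a perspectivity and every two points
and every two lines are fixed by an involution, then the order is a prime power `q ^ k` and `G`
contains an elation of order `q`.
-/

set_option autoImplicit false
set_option linter.unusedSectionVars false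

namespace CfsgLib.OstromWagner

open Configuration

theorem even_card_of_involutive {X : Type*} [Finite X] (f : X → X) (hf : ∀ x, f (f x) = x)
    (h : ∀ x, f x ≠ x) : Even (Nat.card X) := by
  classical
  have := Fintype.ofFinite X
  rw [Nat.card_eq_fintype_card, ← ZMod.natCast_eq_zero_iff_even]
  have hs := Finset.sum_involution (s := (Finset.univ : Finset X)) (f := fun _ => (1 : ZMod 2))
    (fun x _ => f x) (fun _ _ => by decide) (fun x _ _ => h x) (fun _ _ => Finset.mem_univ _)
    (fun x _ => hf x)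
  simpa using hs

variable {G P L : Type*} [Group G] [Membership P L] [MulAction G P] [MulAction G L]

theorem isPersp_one (c : P) (l : L) : IsPersp (1 : G) c l :=
  ⟨fun p _ => one_smul G p, fun m _ => one_smul G m⟩

/-- The perspectivities with a given centre and axis. -/
def perspGroup (G : Type*) [Group G] [MulAction G P] [MulAction G L] (c : P) (l : L) :
    Subgroup G where
  carrier := {g | IsPersp g c l}
  one_mem' := isPersp_one c l
  mul_mem' := fun h h' => ⟨fun p hp => by rw [mul_smul, h'.1 p hp, h.1 p hp],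
    fun m hm => by rw [mul_smul, h'.2 m hm, h.2 m hm]⟩
  inv_mem' := fun h => ⟨fun p hp => inv_smul_eq_iff.2 (h.1 p hp).symm,
    fun m hm => inv_smul_eq_iff.2 (h.2 m hm).symm⟩

theorem mem_perspGroup {g : G} {c : P} {l : L} : g ∈ perspGroup G c l ↔ IsPersp g c l := Iff.rfl

/-- An involutory homology. -/
structure IsHom (h : G) (c : P) (l : L) : Prop where
  persp : IsPersp h c l
  off : c ∉ l
  sq : h * h = 1
  ne_one : h ≠ 1

theorem IsHom.dual {h : G} {c : P} {l : L} (H : IsHom h c l) :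
    IsHom (P := Configuration.Dual L) (L := Configuration.Dual P) h l c :=
  ⟨H.persp.dual, H.off, H.sq, H.ne_one⟩

theorem IsHom.inv_eq {h : G} {c : P} {l : L} (H : IsHom h c l) : h⁻¹ = h :=
  inv_eq_of_mul_eq_one_right H.sq

variable [IsCollAction G P L] [ProjectivePlane P L] [Finite P] [Finite L] [FaithfulSMul G P]

theorem IsHom.conj {h : G} {c : P} {l : L} (H : IsHom h c l) (k : G) :
    IsHom (k * h * k⁻¹) (k • c) (k • l) := by
  refine ⟨H.persp.conj k, fun hc => H.off ((smul_mem_smul k c l).1 hc), ?_, ?_⟩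
  · rw [show k * h * k⁻¹ * (k * h * k⁻¹) = k * (h * h) * k⁻¹ by group, H.sq]; group
  · intro e
    apply H.ne_one
    calc h = k⁻¹ * (k * h * k⁻¹) * k := by group
      _ = 1 := by rw [e]; group

theorem IsHom.fixed_point {h : G} {c : P} {l : L} (H : IsHom h c l) {p : P} (hp : h • p = p) :
    p = c ∨ p ∈ l := by
  by_contra hc
  push Not at hc
  exact H.ne_one (H.persp.eq_one hc.2 hc.1 hp)

theorem IsHom.fixed_line {h : G} {c : P} {l : L} (H : IsHom h c l) {m : L} (hm : h • m = m) :
    m = l ∨ c ∈ m :=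
  IsHom.fixed_point (P := Configuration.Dual L) (L := Configuration.Dual P) H.dual hm

/-- Every involution is an involutory homology. -/
def InvHom (G P L : Type*) [Group G] [Membership P L] [MulAction G P] [MulAction G L] : Prop :=
  ∀ t : G, t * t = 1 → t ≠ 1 → ∃ (c : P) (l : L), IsHom t c l

theorem InvHom.dual (hH : InvHom G P L) :
    InvHom G (Configuration.Dual L) (Configuration.Dual P) := fun t ht h1 => by
  obtain ⟨c, l, h⟩ := hH t ht h1
  exact ⟨l, c, h.dual⟩

/-- In a plane of odd order an involutory perspectivity is a homology. -/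
theorem isHom_of_odd (hodd : Odd (ord P L)) {t : G} {c : P} {l : L} (h : IsPersp t c l)
    (ht : t * t = 1) (h1 : t ≠ 1) : IsHom t c l := by
  refine ⟨h, fun hcl => ?_, ht, h1⟩
  have hmove : ∀ p : P, p ∉ l → t • p ≠ p := fun p hp hf =>
    h1 (h.eq_one hp (fun e => hp (e ▸ hcl)) hf)
  have hoff : ∀ p : P, p ∉ l → t • p ∉ l := fun p hp hm => by
    have := h.1 _ hm
    rw [← mul_smul, ht, one_smul] at this
    exact hp (this ▸ hm)
  have hev := even_card_of_involutive
    (fun p : {p : P // p ∉ l} => (⟨t • p.1, hoff p.1 p.2⟩ : {p : P // p ∉ l}))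
    (fun p => Subtype.ext (by show t • t • p.1 = p.1; rw [← mul_smul, ht, one_smul]))
    (fun p e => hmove p.1 p.2 (congrArg Subtype.val e))
  rw [card_off_line, Nat.even_pow] at hev
  exact Nat.not_even_iff_odd.2 hodd hev.1

/-- Two commuting homologies in polar position, and their product. -/
theorem comm_product (hH : InvHom G P L) {h h' : G} {C X : P} {a m : L} (Ha : IsHom h C a)
    (Hm : IsHom h' X m) (hX : X ∈ a) (hC : C ∈ m) :
    h * h' = h' * h ∧
      ∃ (Q : P) (k : L), IsHom (h * h') Q k ∧ Q ∈ a ∧ Q ∈ m ∧ C ∈ k ∧ X ∈ k := by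
  obtain ⟨Q, hQa, hQm⟩ := exists_point_on P a m
  have ham : a ≠ m := fun e => Ha.off (e ▸ hC)
  have hCX : C ≠ X := fun e => Hm.off (e ▸ hC)
  have f1 : h' • C = C := Hm.persp.1 C hC
  have f2 : h' • a = a := Hm.persp.2 a hX
  have f3 : h • X = X := Ha.persp.1 X hX
  have f4 : h • m = m := Ha.persp.2 m hC
  set d := h' * h * h'⁻¹ * h⁻¹ with hd
  have hd1 : IsPersp d C a := by
    have := Ha.persp.conj h'
    rw [f1, f2] at this
    exact this.mul Ha.persp.inv
  have hd2 : IsPersp d X m := by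
    have h5 := Hm.persp.inv.conj h
    rw [f3, f4] at h5
    have := Hm.persp.mul h5
    rwa [show h' * (h * h'⁻¹ * h⁻¹) = d by rw [hd]; group] at this
  have hd0 : d = 1 := by
    by_contra hne
    exact ham (hd1.axis_unique hd2 hne)
  have hcomm : h * h' = h' * h :=
    calc h * h' = d * (h * h') := by rw [hd0, one_mul]
      _ = h' * h := by rw [hd]; group
  refine ⟨hcomm, ?_⟩
  have ht : h * h' * (h * h') = 1 := by
    calc h * h' * (h * h') = h * h' * (h' * h) := by rw [← hcomm]
      _ = h * (h' * h') * h := by group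
      _ = 1 := by rw [Hm.sq, mul_one, Ha.sq]
  have hne : h * h' ≠ 1 := fun e => by
    have : h = h' := by
      rw [← Hm.inv_eq]; exact eq_inv_of_mul_eq_one_left e
    exact ham (Ha.persp.axis_unique (this ▸ Hm.persp) Ha.ne_one)
  obtain ⟨c, k, Hk⟩ := hH _ ht hne
  have hfC : (h * h') • C = C := by rw [mul_smul, f1, Ha.persp.smul_centre]
  have hfX : (h * h') • X = X := by rw [mul_smul, Hm.persp.smul_centre, f3]
  have hfQ : (h * h') • Q = Q := by rw [mul_smul, Hm.persp.1 Q hQm, Ha.persp.1 Q hQa]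
  have hQX : Q ≠ X := fun e => Hm.off (e ▸ hQm)
  have hQC : Q ≠ C := fun e => Ha.off (e ▸ hQa)
  have hcQ : c = Q := by
    by_contra hcQ
    have hQk : Q ∈ k := (Hk.fixed_point hfQ).resolve_left fun e => hcQ e.symm
    rcases Hk.fixed_point hfX with e | hXk
    · -- centre `X`, axis `m`
      rcases Hk.fixed_point hfC with e' | hCk
      · exact hCX (e'.trans e.symm)
      have hkm : k = m := line_unique hQC hQk hCk hQm hC
      have haxis : ∀ p : P, p ∈ m → h • p = p := fun p hp => by
        have := Hk.persp.1 p (hkm.symm ▸ hp)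
        rwa [mul_smul, Hm.persp.1 p hp] at this
      obtain ⟨c', hc'⟩ := exists_centre haxis
      exact ham (Ha.persp.axis_unique hc' Ha.ne_one)
    · have hka : k = a := line_unique hQX hQk hXk hQa hX
      have haxis : ∀ p : P, p ∈ a → h' • p = p := fun p hp => by
        have := Hk.persp.1 p (hka.symm ▸ hp)
        rw [hcomm, mul_smul, Ha.persp.1 p hp] at this
        exact this
      obtain ⟨c', hc'⟩ := exists_centre haxis
      exact ham.symm (Hm.persp.axis_unique hc' Hm.ne_one)
  subst hcQ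
  exact ⟨c, k, Hk, hQa, hQm, (Hk.fixed_point hfC).resolve_left hQC.symm,
    (Hk.fixed_point hfX).resolve_left hQX.symm⟩

/-- Every two points are fixed by an involution. -/
def PairFixed (G P : Type*) [Group G] [MulAction G P] : Prop :=
  ∀ a b : P, a ≠ b → ∃ t : G, t * t = 1 ∧ t ≠ 1 ∧ t • a = a ∧ t • b = b

/-- Every line is the axis of an involutory homology. -/
theorem exists_hom_axis (hodd : Odd (ord P L)) (hH : InvHom G P L) (hpts : PairFixed G P) (l : L) :
    ∃ (g : G) (c : P), IsHom g c l := by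
  classical
  by_contra hno
  push Not at hno
  -- the involution of a pair on `l`
  have hpair : ∀ x y : P, x ∈ l → y ∈ l → x ≠ y → ∃ (t : G) (c : P) (m : L), IsHom t c m ∧
      t • x = x ∧ t • y = y ∧ t • l = l ∧ ((c = x ∧ y ∈ m) ∨ (c = y ∧ x ∈ m)) ∧
      ∀ z : P, z ∈ l → t • z = z → z = x ∨ z = y := by
    intro x y hx hy hxy
    obtain ⟨t, ht, h1, hfx, hfy⟩ := hpts x y hxy
    obtain ⟨c, m, Hm⟩ := hH t ht h1
    have hml : m ≠ l := fun e => hno t c (e ▸ Hm)
    have hl : t • l = l := fixed_line_of_points hxy hx hy hfx hfy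
    refine ⟨t, c, m, Hm, hfx, hfy, hl, ?_, ?_⟩
    · rcases Hm.fixed_point hfx with e | hxm
      · refine Or.inl ⟨e.symm, (Hm.fixed_point hfy).resolve_left fun e' => hxy (e.trans e'.symm)⟩
      · refine Or.inr ⟨?_, hxm⟩
        rcases Hm.fixed_point hfy with e | hym
        · exact e.symm
        · exact absurd (line_unique hxy hxm hym hx hy) hml
    · intro z hz hfz
      by_contra hzxy
      push Not at hzxy
      rcases Hm.fixed_point hfx with ex | hxm <;> rcases Hm.fixed_point hfy with ey | hym <;>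
        rcases Hm.fixed_point hfz with ez | hzm
      · exact hxy (ex.trans ey.symm)
      · exact hxy (ex.trans ey.symm)
      · exact hzxy.1 (ez.trans ex.symm)
      · exact hzxy.2 (point_unique hml hzm hz hym hy)
      · exact hzxy.2 (ez.trans ey.symm)
      · exact hzxy.1 (point_unique hml hzm hz hxm hx)
      · exact hml (line_unique hxy hxm hym hx hy)
      · exact hml (line_unique hxy hxm hym hx hy)
  -- the stabiliser of `x` in that of `l` is transitive on the other points
  have htrans : ∀ x y z : P, x ∈ l → y ∈ l → z ∈ l → y ≠ x → z ≠ x →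
      ∃ k : G, k • l = l ∧ k • x = x ∧ k • y = z := by
    intro x y z hx hy hz hyx hzx
    by_contra hcon
    push Not at hcon
    let R : P → Prop := fun w => ∃ k : G, k • l = l ∧ k • x = x ∧ k • y = w
    have hR : ∀ t : G, t • l = l → t • x = x → ∀ w, R w → R (t • w) := by
      rintro t tl tx w ⟨k, kl, kx, ky⟩
      exact ⟨t * k, by rw [mul_smul, kl, tl], by rw [mul_smul, kx, tx], by rw [mul_smul, ky]⟩
    have hRx : ∀ w, R w → w ∈ l ∧ w ≠ x := by
      rintro w ⟨k, kl, kx, rfl⟩
      exact ⟨smul_mem_of_fixed kl hy, fun e => hyx (MulAction.injective k (e.trans kx.symm))⟩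
    have hRz : ¬ R z := fun ⟨k, kl, kx, ky⟩ => hcon k kl kx ky
    have hRy : R y := ⟨1, one_smul G l, one_smul G x, one_smul G y⟩
    let X := {w : P // w ∈ l ∧ w ≠ x}
    obtain ⟨t, c, m, Ht, tx, tz, tl, -, tfix⟩ := hpair x z hx hz hzx.symm
    obtain ⟨u, c', m', Hu, ux, uy, ul, -, ufix⟩ := hpair x y hx hy hyx.symm
    have hX : ∀ (s : G), s • l = l → s • x = x → ∀ w : X, s • w.1 ∈ l ∧ s • w.1 ≠ x :=
      fun s sl sx w => ⟨smul_mem_of_fixed sl w.2.1, fun e =>
        w.2.2 (MulAction.injective s (e.trans sx.symm))⟩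
    have hback : ∀ (s : G), s * s = 1 → ∀ w : P, s • s • w = w := fun s hs w => by
      rw [← mul_smul, hs, one_smul]
    have e1 : Even (Nat.card {w : X // R w.1}) := by
      refine even_card_of_involutive
        (fun w => ⟨⟨t • w.1.1, hX t tl tx w.1⟩, hR t tl tx _ w.2⟩)
        (fun w => Subtype.ext (Subtype.ext (hback t Ht.sq _))) fun w e => ?_
      have e' : t • w.1.1 = w.1.1 := congrArg (fun v : {w : X // R w.1} => v.1.1) e
      rcases tfix _ w.1.2.1 e' with h | h
      · exact w.1.2.2 h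
      · exact hRz (h ▸ w.2)
    have e2 : Even (Nat.card {w : X // ¬ R w.1}) := by
      refine even_card_of_involutive
        (fun w => ⟨⟨u • w.1.1, hX u ul ux w.1⟩, fun hw => w.2 ?_⟩)
        (fun w => Subtype.ext (Subtype.ext (hback u Hu.sq _))) fun w e => ?_
      · have := hR u ul ux _ hw
        rwa [hback u Hu.sq] at this
      · have e' : u • w.1.1 = w.1.1 := congrArg (fun v : {w : X // ¬ R w.1} => v.1.1) e
        rcases ufix _ w.1.2.1 e' with h | h
        · exact w.1.2.2 h
        · exact w.2 (h ▸ hRy)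
    have hsum : Nat.card {w : X // R w.1} + Nat.card {w : X // ¬ R w.1} = Nat.card X := by
      rw [← Nat.card_sum]; exact Nat.card_congr (Equiv.sumCompl _)
    have hXcard : Nat.card X + 1 = ord P L + 1 := by
      rw [← card_on_line (P := P) l]
      have := Fintype.ofFinite P
      simp only [Nat.card_eq_fintype_card, Fintype.card_subtype, X]
      rw [show (Finset.univ.filter fun w : P => w ∈ l ∧ w ≠ x)
        = (Finset.univ.filter fun w : P => w ∈ l).erase x by ext w; simp [and_comm]]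
      exact Finset.card_erase_add_one (by simp [hx])
    have : Even (ord P L) := by
      rw [show ord P L = Nat.card X by omega, ← hsum]; exact e1.add e2
    exact Nat.not_even_iff_odd.2 hodd this
  obtain ⟨x, hx, -⟩ := exists_point_on P l l
  obtain ⟨y, hy, hyx, -⟩ := exists_third_point l x x
  obtain ⟨z, hz, hzx, hzy⟩ := exists_third_point l x y
  obtain ⟨k₁, k1l, k1z, k1x⟩ := htrans z x y hz hx hy hzx.symm hzy.symm
  obtain ⟨k₂, k2l, k2y, k2y'⟩ := htrans y (k₁ • y) x hy (smul_mem_of_fixed k1l hy) hx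
    (fun e => hyx (MulAction.injective k₁ (e.trans k1x.symm))) hyx.symm
  have kl : (k₂ * k₁) • l = l := by rw [mul_smul, k1l, k2l]
  have kx : (k₂ * k₁) • x = y := by rw [mul_smul, k1x, k2y]
  have ky : (k₂ * k₁) • y = x := by rw [mul_smul, k2y']
  set k := k₂ * k₁
  obtain ⟨t, c, m, Ht, -, -, -, hcase, -⟩ := hpair x y hx hy hyx.symm
  have Hk := Ht.conj k
  rcases hcase with ⟨rfl, hym⟩ | ⟨rfl, hxm⟩
  · rw [kx] at Hk
    have hxkm : c ∈ k • m := by rw [← ky, smul_mem_smul]; exact hym
    obtain ⟨-, Q, n, Hn, -, -, hyn, hxn⟩ := comm_product hH Hk Ht hxkm hym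
    exact hno _ _ (line_unique hyx hyn hxn hy hx ▸ Hn)
  · rw [ky] at Hk
    have hykm : c ∈ k • m := by rw [← kx, smul_mem_smul]; exact hxm
    obtain ⟨-, Q, n, Hn, -, -, hxn, hyn⟩ := comm_product hH Hk Ht hykm hxm
    exact hno _ _ (line_unique hyx hyn hxn hy hx ▸ Hn)

/-- The hypotheses of the homology lemma. -/
structure HomData (G P L : Type*) [Group G] [Membership P L] [MulAction G P] [MulAction G L] :
    Prop where
  inv : InvHom G P L
  axis : ∀ l : L, ∃ (g : G) (c : P), IsHom g c l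
  centre : ∀ c : P, ∃ (g : G) (l : L), IsHom g c l

theorem HomData.dual (D : HomData G P L) :
    HomData G (Configuration.Dual L) (Configuration.Dual P) where
  inv := D.inv.dual
  axis := fun c => by obtain ⟨g, l, h⟩ := D.centre c; exact ⟨g, l, h.dual⟩
  centre := fun l => by obtain ⟨g, c, h⟩ := D.axis l; exact ⟨g, c, h.dual⟩

/-- For every point `X` of the axis of a homology, some homology with centre `X` has its axis
through the centre. -/
theorem HomData.partner [Finite G] (D : HomData G P L) {h : G} {C X : P} {a : L}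
    (Ha : IsHom h C a) (hX : X ∈ a) : ∃ (h' : G) (m : L), IsHom h' X m ∧ C ∈ m := by
  obtain ⟨s, m, Hs⟩ := D.centre X
  suffices ∃ j : G, j • X = X ∧ h • j • m = j • m by
    obtain ⟨j, jX, hfix⟩ := this
    refine ⟨j * s * j⁻¹, j • m, ?_, ?_⟩
    · have := Hs.conj j; rwa [jX] at this
    · rcases Ha.fixed_line hfix with e | hC
      · exfalso
        apply Hs.off
        rw [← smul_mem_smul j, jX, e]
        exact hX
      · exact hC
  by_cases hm : h • m = m
  · exact ⟨1, one_smul G X, by rw [one_smul, hm]⟩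
  set s' := h * s * h⁻¹ with hs'
  have Hs' : IsHom s' X (h • m) := by
    have := Hs.conj h; rwa [Ha.persp.1 X hX] at this
  set d := s * s' with hd
  have hdX : ∀ n : L, X ∈ n → d • n = n := fun n hn => by
    rw [mul_smul, Hs'.persp.2 n hn, Hs.persp.2 n hn]
  have hsd : s * d * s⁻¹ = d⁻¹ := by
    rw [hd, mul_inv_rev s s', Hs'.inv_eq, Hs.inv_eq, ← mul_assoc, Hs.sq, one_mul]
  have hhd : h * d * h⁻¹ = d⁻¹ := by
    rw [hd, mul_inv_rev s s', Hs'.inv_eq, Hs.inv_eq, hs', Ha.inv_eq]
    calc h * (s * (h * s * h)) * h = h * s * h * s * (h * h) := by group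
      _ = h * s * h * s := by rw [Ha.sq, mul_one]
  have hodd : Odd (orderOf d) := by
    rw [← Nat.not_even_iff_odd]
    rintro ⟨j, hj⟩
    have hpos := orderOf_pos d
    have hj2 : d ^ j * d ^ j = 1 := by rw [← pow_add, ← hj, pow_orderOf_eq_one]
    have hj1 : d ^ j ≠ 1 := fun e => by
      have := orderOf_le_of_pow_eq_one (show 0 < j by omega) e; omega
    obtain ⟨c, x, Hx⟩ := D.inv _ hj2 hj1
    have hjX : ∀ n : L, X ∈ n → d ^ j • n = n := fun n hn =>
      pow_mem (show d ∈ MulAction.stabilizer G n from hdX n hn) j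
    obtain ⟨x', hx'⟩ := exists_axis hjX
    have hcX : c = X := Hx.persp.centre_unique hx' hj1
    have hinvj : (d ^ j)⁻¹ = d ^ j := inv_eq_of_mul_eq_one_right hj2
    have e1 : s * d ^ j * s⁻¹ = d ^ j := by
      rw [← MulAut.conj_apply, map_pow, MulAut.conj_apply, hsd, inv_pow, hinvj]
    have hsx : s • x = x := by
      have := Hx.conj s
      rw [e1] at this
      exact this.persp.axis_unique Hx.persp hj1
    have e2 : s' * d ^ j * s'⁻¹ = d ^ j := by
      have hs'd : s' * d * s'⁻¹ = d⁻¹ := by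
        rw [hd, mul_inv_rev s s', Hs'.inv_eq, Hs.inv_eq]
        calc s' * (s * s') * s' = s' * s * (s' * s') := by group
          _ = s' * s := by rw [Hs'.sq, mul_one]
      rw [← MulAut.conj_apply, map_pow, MulAut.conj_apply, hs'd, inv_pow, hinvj]
    have hsx' : s' • x = x := by
      have := Hx.conj s'
      rw [e2] at this
      exact this.persp.axis_unique Hx.persp hj1
    have hXx : X ∉ x := hcX ▸ Hx.off
    have h1 := (Hs.fixed_line hsx).resolve_right hXx
    have h2 := (Hs'.fixed_line hsx').resolve_right hXx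
    exact hm (h2.symm.trans h1)
  obtain ⟨k, hk⟩ := hodd
  have hdo : d ^ (2 * k + 1) = 1 := by rw [← hk, pow_orderOf_eq_one]
  have hpow : ∀ i : ℕ, d ^ i • X = X := fun i =>
    pow_mem (show d ∈ MulAction.stabilizer G X by
      show d • X = X
      rw [hd, mul_smul, Hs'.persp.smul_centre, Hs.persp.smul_centre]) i
  have hconjs : d ^ k * s * (d ^ k)⁻¹ = s' := by
    have e : s * d ^ k * s⁻¹ = (d ^ k)⁻¹ := by
      rw [← MulAut.conj_apply, map_pow, MulAut.conj_apply, hsd, inv_pow]
    have e' : d ^ k * s = s * (d ^ k)⁻¹ := by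
      rw [← e, Hs.inv_eq, ← mul_assoc, ← mul_assoc, Hs.sq, one_mul]
    rw [e', mul_assoc, ← mul_inv_rev, ← pow_add,
      show (d ^ (k + k))⁻¹ = d by
        rw [inv_eq_iff_mul_eq_one, ← pow_succ, ← two_mul]; exact hdo,
      hd, ← mul_assoc, Hs.sq, one_mul]
  have haxis : d ^ k • m = h • m := by
    have := Hs.conj (d ^ k)
    rw [hconjs, hpow k] at this
    exact this.persp.axis_unique Hs'.persp Hs'.ne_one
  refine ⟨d ^ (k * (k + 1)), hpow _, ?_⟩
  set i := k * (k + 1)
  have e : h * d ^ i * h⁻¹ = (d ^ i)⁻¹ := by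
    rw [← MulAut.conj_apply, map_pow, MulAut.conj_apply, hhd, inv_pow]
  have : d ^ (i + i) = d ^ k := by
    rw [show i + i = (2 * k + 1) * k + k by simp only [i]; ring, pow_add, pow_mul, hdo, one_pow,
      one_mul]
  calc h • d ^ i • m = (h * d ^ i * h⁻¹) • h • m := by simp [mul_smul]
    _ = ((d ^ i)⁻¹ * d ^ k) • m := by rw [e, ← haxis, mul_smul]
    _ = d ^ i • m := by rw [← this, pow_add, inv_mul_cancel_left]

/-- There is only one involutory homology with given centre and axis. -/
theorem HomData.unique [Finite G] (D : HomData G P L) {h₁ h₂ : G} {C : P} {a : L}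
    (H₁ : IsHom h₁ C a) (H₂ : IsHom h₂ C a) : h₁ = h₂ := by
  obtain ⟨X, hX, -⟩ := exists_point_on P a a
  obtain ⟨h', m, Hm, hC⟩ := D.partner H₁ hX
  obtain ⟨-, Q, k, Hk, hQa, hQm, hCk, hXk⟩ := comm_product D.inv H₁ Hm hX hC
  obtain ⟨-, Q', k', Hk', hQ'a, hQ'm, hCk', hXk'⟩ := comm_product D.inv H₂ Hm hX hC
  have ham : a ≠ m := fun e => H₁.off (e ▸ hC)
  have hQ : Q' = Q := point_unique ham hQ'a hQ'm hQa hQm
  have hk : k' = k := line_unique (fun (e : C = X) => Hm.off (e ▸ hC)) hCk' hXk' hCk hXk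
  subst hQ; subst hk
  by_contra hne
  have h1 : IsPersp (h₁ * h₂⁻¹) C a := H₁.persp.mul H₂.persp.inv
  have h2 := Hk.persp.mul Hk'.persp.inv
  rw [show h₁ * h' * (h₂ * h')⁻¹ = h₁ * h₂⁻¹ by group] at h2
  have hne' : h₁ * h₂⁻¹ ≠ 1 := fun e => hne (mul_inv_eq_one.1 e)
  exact H₁.off (by rw [h1.axis_unique h2 hne']; exact hCk)

/-- Two homologies with the same centre and different axes give an elation. -/
theorem two_axes {s s' : G} {X : P} {m m' : L} (Hs : IsHom s X m) (Hs' : IsHom s' X m')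
    (hne : m ≠ m') :
    ∃ (d : G) (k : L), d ≠ 1 ∧ IsElation d X k ∧ ∀ Z : P, Z ∈ m → Z ∈ m' → Z ∈ k := by
  set d := s * s' with hd
  have hd1 : d ≠ 1 := fun e => by
    have : s = s' := by rw [← Hs'.inv_eq]; exact eq_inv_of_mul_eq_one_left e
    exact hne (Hs.persp.axis_unique (this ▸ Hs'.persp) Hs.ne_one)
  have hdX : ∀ n : L, X ∈ n → d • n = n := fun n hn => by
    rw [mul_smul, Hs'.persp.2 n hn, Hs.persp.2 n hn]
  obtain ⟨k, hk⟩ := exists_axis hdX
  have hsd : s * d * s⁻¹ = d⁻¹ := by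
    rw [hd, mul_inv_rev s s', Hs'.inv_eq, Hs.inv_eq, ← mul_assoc, Hs.sq, one_mul]
  have hsk : s • k = k := by
    have := hk.conj s
    rw [hsd, Hs.persp.smul_centre] at this
    exact this.axis_unique hk.inv (inv_ne_one.2 hd1)
  have hXk : X ∈ k := by
    rcases Hs.fixed_line hsk with e | h
    · exfalso
      have haxis : ∀ p : P, p ∈ m → s' • p = p := fun p hp => by
        have h1 := hk.1 p (e.symm ▸ hp)
        rw [mul_smul] at h1
        have h2 : s • s' • p = s • p := by rw [h1, Hs.persp.1 p hp]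
        exact MulAction.injective s h2
      obtain ⟨c, hc⟩ := exists_centre haxis
      exact hne (hc.axis_unique Hs'.persp Hs'.ne_one)
    · exact h
  refine ⟨d, k, hd1, ⟨hXk, hk⟩, fun Z hZ hZ' => ?_⟩
  by_contra hZk
  refine hd1 (hk.eq_one hZk (fun e => Hs.off (by rw [← e]; exact hZ)) ?_)
  rw [mul_smul, Hs'.persp.1 Z hZ', Hs.persp.1 Z hZ]

/-- Some non-trivial elation exists. -/
theorem HomData.exists_elation [Finite G] (D : HomData G P L) :
    ∃ (d : G) (c : P) (l : L), d ≠ 1 ∧ IsElation d c l := by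
  by_contra hno
  push Not at hno
  choose hh φ hφ using D.centre
  have huniq : ∀ (g : G) (x : P) (m : L), IsHom g x m → m = φ x := by
    intro g x m H
    by_contra hne
    obtain ⟨d, k, hd, hel, -⟩ := two_axes H (hφ x) hne
    exact hno d x k hd hel
  have hinj : Function.Injective φ := by
    intro x y hxy
    by_contra hne
    obtain ⟨d, k, hd, hel, -⟩ := two_axes (P := Configuration.Dual L) (L := Configuration.Dual P)
      (hφ x).dual (hxy.symm ▸ (hφ y).dual) hne
    exact hno d k (φ x) hd ⟨hel.1, hel.2.2, hel.2.1⟩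
  have := Fintype.ofFinite P
  have := Fintype.ofFinite L
  obtain ⟨x, hx⟩ := CfsgLib.OW.exists_absolute_of_sym φ hinj (fun x y hy => by
    obtain ⟨g, m, H, hxm⟩ := D.partner (hφ x) hy
    rwa [huniq g y m H] at hxm)
  exact (hφ x).off hx

/-- The elations with a given axis. -/
def transGroup (G : Type*) [Group G] [MulAction G P] [MulAction G L] [IsCollAction G P L]
    [FaithfulSMul G P] (l : L) : Subgroup G where
  carrier := {x | ∃ c : P, IsElation x c l}
  one_mem' := by
    obtain ⟨c, hc, -⟩ := exists_point_on P l l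
    exact ⟨c, hc, isPersp_one c l⟩
  mul_mem' := by
    rintro x y ⟨cx, hcx, hx⟩ ⟨cy, hcy, hy⟩
    obtain ⟨c, hc⟩ := exists_centre (g := x * y) (l := l)
      fun p hp => by rw [mul_smul, hy.1 p hp, hx.1 p hp]
    by_cases hcl : c ∈ l
    · exact ⟨c, hcl, hc⟩
    by_cases hyc : y • c = c
    · rw [hy.eq_one hcl (fun e => hcl (e ▸ hcy)) hyc, mul_one]
      exact ⟨cx, hcx, hx⟩
    obtain ⟨k, hck, hcyk⟩ := exists_line_through L c cy
    obtain ⟨k', hck', hcxk'⟩ := exists_line_through L c cx
    have h1 : y • c ∈ k := smul_mem_of_fixed (hy.2 k hcyk) hck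
    have h2 : y • c ∈ k' := by
      rw [show y • c = x⁻¹ • c by
        rw [eq_inv_smul_iff, ← mul_smul]; exact hc.smul_centre]
      exact smul_mem_of_fixed (hx.inv.2 k' hcxk') hck'
    have hkk : k' = k := line_unique hyc h2 hck' h1 hck
    subst hkk
    have hkl : k' ≠ l := fun e => hcl (e ▸ hck')
    have : cy = cx := point_unique hkl hcyk hcy hcxk' hcx
    subst this
    exact ⟨cy, hcy, hx.mul hy⟩
  inv_mem' := fun ⟨c, hc, h⟩ => ⟨c, hc, h.inv⟩

theorem mem_transGroup {l : L} {x : G} : x ∈ transGroup G l ↔ ∃ c : P, IsElation x c l := Iff.rfl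

theorem perspGroup_le_transGroup {c : P} {l : L} (hc : c ∈ l) :
    perspGroup G c l ≤ transGroup G l := fun _ hx => ⟨c, hc, hx⟩

/-- Elations with the same axis and different centres commute. -/
theorem commute_of_centres {x y : G} {cx cy : P} {l : L} (hx : IsElation x cx l)
    (hy : IsElation y cy l) (hne : cx ≠ cy) : Commute x y := by
  have h1 : IsPersp (x * y * x⁻¹ * y⁻¹) cy l := by
    have h := hy.2.conj x
    rw [hx.2.1 cy hy.1, hx.2.smul_axis] at h
    exact h.mul hy.2.inv
  have h2 : IsPersp (x * y * x⁻¹ * y⁻¹) cx l := by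
    have h := hx.2.inv.conj y
    rw [hy.2.1 cx hx.1, hy.2.smul_axis] at h
    have := hx.2.mul h
    rwa [show x * (y * x⁻¹ * y⁻¹) = x * y * x⁻¹ * y⁻¹ by group] at this
  have h0 : x * y * x⁻¹ * y⁻¹ = 1 := by
    by_contra h0
    exact hne (h2.centre_unique h1 h0)
  exact commutatorElement_eq_one_iff_commute.1 h0

/-- The case of an axis with elations in two directions. -/
theorem HomData.prime_power_of_two_centres [Finite G] (D : HomData G P L) (hodd : Odd (ord P L))
    {g : L} {x₀ y₀ : G} {cx cy : P} (hx : IsElation x₀ cx g) (hy : IsElation y₀ cy g)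
    (hx1 : x₀ ≠ 1) (hy1 : y₀ ≠ 1) (hne : cx ≠ cy) :
    ∃ q k, q.Prime ∧ 0 < k ∧ ord P L = q ^ k ∧
      ∃ (d : G) (c : P) (l : L), IsElation d c l ∧ orderOf d = q := by
  classical
  set T := transGroup (P := P) G g
  -- another direction exists for every point
  have hother : ∀ c : P, ∃ (w : G) (cw : P), w ≠ 1 ∧ IsElation w cw g ∧ cw ≠ c := by
    intro c
    by_cases h : cx = c
    · exact ⟨y₀, cy, hy1, hy, fun e => hne (h.trans e.symm)⟩
    · exact ⟨x₀, cx, hx1, hx, h⟩
  -- `T` is abelian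
  have hab : ∀ x ∈ T, ∀ y ∈ T, Commute x y := by
    rintro x ⟨c, hc⟩ y ⟨c', hc'⟩
    by_cases hxy : c = c'
    · subst hxy
      obtain ⟨w, cw, hw1, hw, hwc⟩ := hother c
      by_cases hx1' : x = 1
      · subst hx1'; exact Commute.one_left y
      obtain ⟨cz, hz⟩ : x * w ∈ T := mul_mem ⟨c, hc⟩ ⟨cw, hw⟩
      have hzc : cz ≠ c := by
        rintro rfl
        have h2 : IsPersp w cz g := by
          have := hc.2.inv.mul hz.2
          rwa [inv_mul_cancel_left] at this
        exact hwc (hw.2.centre_unique h2 hw1)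
      have h1 := commute_of_centres hz hc' hzc
      have h2 := commute_of_centres hw hc' hwc
      have := h1.mul_left h2.inv_left
      rwa [mul_inv_cancel_right] at this
    · exact commute_of_centres hc hc' hxy
  -- a prime exponent
  obtain ⟨q, hq, hqd⟩ := Nat.exists_prime_and_dvd (n := orderOf x₀)
    (fun e => hx1 (orderOf_eq_one_iff.1 e))
  have : Fact q.Prime := ⟨hq⟩
  set x₁ := x₀ ^ (orderOf x₀ / q)
  have hx₁ : orderOf x₁ = q := orderOf_pow_orderOf_div (orderOf_pos x₀).ne' hqd
  have hx₁1 : x₁ ≠ 1 := fun e => hq.ne_one (by rw [← hx₁, e, orderOf_one])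
  have hx₁e : IsElation x₁ cx g := ⟨hx.1, pow_mem (mem_perspGroup.2 hx.2) _⟩
  have hstep : ∀ (u : G) (cu : P), IsElation u cu g → u ≠ 1 → u ^ q = 1 →
      ∀ (y : G) (c : P), IsElation y c g → c ≠ cu → y ^ q = 1 := by
    intro u cu hu hu1 huq y c hy' hcu
    by_contra hyq
    obtain ⟨cz, hz⟩ : u * y ∈ T := mul_mem ⟨cu, hu⟩ ⟨c, hy'⟩
    have hpz : IsPersp ((u * y) ^ q) cz g := pow_mem (mem_perspGroup.2 hz.2) q
    rw [(hab u ⟨cu, hu⟩ y ⟨c, hy'⟩).mul_pow, huq, one_mul] at hpz
    have hcz : c = cz := IsPersp.centre_unique (pow_mem (mem_perspGroup.2 hy'.2) q) hpz hyq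
    subst hcz
    have : IsPersp u c g := by
      have := hz.2.mul hy'.2.inv
      rwa [mul_inv_cancel_right] at this
    exact hcu (hu.2.centre_unique this hu1).symm
  have hexp : ∀ y ∈ T, y ^ q = 1 := by
    rintro y ⟨c, hc⟩
    have hx₁q : x₁ ^ q = 1 := by rw [← hx₁, pow_orderOf_eq_one]
    by_cases h : c = cx
    · have hyq := hstep x₁ cx hx₁e hx₁1 hx₁q y₀ cy hy hne.symm
      exact hstep y₀ cy hy hy1 hyq y c hc (fun e => hne (h.symm.trans e))
    · exact hstep x₁ cx hx₁e hx₁1 hx₁q y c hc h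
  have hqodd : q ≠ 2 := by
    rintro rfl
    have hsq : x₁ * x₁ = 1 := by rw [← sq, ← hx₁, pow_orderOf_eq_one]
    exact (isHom_of_odd hodd hx₁e.2 hsq hx₁1).off hx₁e.1
  have hTodd : ∀ x ∈ T, Odd (orderOf x) := fun x hx' =>
    Odd.of_dvd_nat (hq.odd_of_ne_two hqodd) (orderOf_dvd_of_pow_eq_one (hexp x hx'))
  -- decomposition
  obtain ⟨h₀, C, H₀⟩ := D.axis g
  let ι := {Z : P // Z ∈ g}
  let e : ι → ℕ := fun Z => Nat.card (perspGroup (L := L) G Z.1 g)
  have hdis : ∀ Z Z' : P, Z ≠ Z' → ∀ x : G, IsPersp x Z g → IsPersp x Z' g → x = 1 :=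
    fun Z Z' h x h1 h2 => by_contra fun hx' => h (h1.centre_unique h2 hx')
  have hdec : ∀ Z : ι, ∃ Q : ι, Q ≠ Z ∧
      ∀ x ∈ T, ∃ c i, x = c * i ∧ IsPersp c Q.1 g ∧ IsPersp i Z.1 g := by
    intro Z
    obtain ⟨h, m, Hm, hCm⟩ := D.partner H₀ Z.2
    obtain ⟨Q, hQg, hQm⟩ := exists_point_on P g m
    have hQZ : Q ≠ Z.1 := fun e' => Hm.off (e' ▸ hQm)
    have hgm : g ≠ m := fun e' => H₀.off (e' ▸ hCm)
    refine ⟨⟨Q, hQg⟩, fun e' => hQZ (congrArg Subtype.val e'), fun x hxT => ?_⟩
    have hg : h • g = g := Hm.persp.2 g Z.2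
    have hconjT : ∀ y ∈ T, h * y * h⁻¹ ∈ T := by
      rintro y ⟨c, hc, hy'⟩
      refine ⟨h • c, ?_, by have := hy'.conj h; rwa [hg] at this⟩
      rw [← hg, smul_mem_smul]; exact hc
    obtain ⟨c, i, hxci, hc, hi, hcm, him⟩ := CfsgLib.OW.exists_fixed_mul_inverted
      (MulAut.conj h).toMonoidHom (fun y => by
        simp only [MulEquiv.coe_toMonoidHom, MulAut.conj_apply, Hm.inv_eq]
        calc h * (h * y * h) * h = (h * h) * y * (h * h) := by group
          _ = y := by rw [Hm.sq, one_mul, mul_one])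
      x (hTodd x hxT) (hab x hxT _ (hconjT x hxT))
    have hsub : Subgroup.closure ({x, (MulAut.conj h).toMonoidHom x} : Set G) ≤ T :=
      (Subgroup.closure_le _).2
        (Set.insert_subset hxT (Set.singleton_subset_iff.2 (hconjT x hxT)))
    refine ⟨c, i, hxci, ?_, ?_⟩
    · by_cases hc1 : c = 1
      · subst hc1; exact isPersp_one _ _
      obtain ⟨cc, hcc, hcp⟩ := hsub hcm
      have hfix : h • cc = cc := by
        have := hcp.conj h
        rw [hg, show h * c * h⁻¹ = c from hc] at this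
        exact this.centre_unique hcp hc1
      rcases Hm.fixed_point hfix with h' | h'
      · exfalso
        subst h'
        have hch : c * h * c⁻¹ = h := by
          have h5 : h * c * h⁻¹ = c := hc
          calc c * h * c⁻¹ = (h * c * h⁻¹) * h * c⁻¹ := by rw [h5]
            _ = h := by group
        have hmfix : c • m = m := by
          have := Hm.persp.conj c
          rw [hch] at this
          exact this.axis_unique Hm.persp Hm.ne_one
        exact hc1 (IsPersp.eq_one (P := Configuration.Dual L) (L := Configuration.Dual P)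
          hcp.dual Hm.off hgm.symm hmfix)
      · rwa [point_unique hgm hcc h' hQg hQm] at hcp
    · by_cases hi1 : i = 1
      · subst hi1; exact isPersp_one _ _
      obtain ⟨ci, hci, hip⟩ := hsub him
      have hfix : h • ci = ci := by
        have := hip.conj h
        rw [hg, show h * i * h⁻¹ = i⁻¹ from hi] at this
        exact this.centre_unique hip.inv (inv_ne_one.2 hi1)
      rcases Hm.fixed_point hfix with h' | h'
      · exact h' ▸ hip
      · exfalso
        have hiZ : i • Z.1 = Z.1 := hip.1 _ Z.2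
        have him' : i • m = m := hip.2 m h'
        have hcomm : i * h * i⁻¹ = h := by
          have := Hm.conj i
          rw [hiZ, him'] at this
          exact D.unique this Hm
        have h2 : i = i⁻¹ := by
          have h5 : h * i * h⁻¹ = i⁻¹ := hi
          rw [← h5]
          calc i = (i * h * i⁻¹) * i * h⁻¹ := by group
            _ = h * i * h⁻¹ := by rw [hcomm]
        have hsq : i * i = 1 := mul_eq_one_iff_eq_inv.2 h2
        exact (isHom_of_odd hodd hip hsq hi1).off hci
  choose φ hφne hφ using hdec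
  have hinjmul : ∀ Z Z' : ι, Z ≠ Z' → Function.Injective
      (fun z : perspGroup (L := L) G Z.1 g × perspGroup (L := L) G Z'.1 g =>
        (⟨z.1.1 * z.2.1, mul_mem (perspGroup_le_transGroup Z.2 z.1.2)
          (perspGroup_le_transGroup Z'.2 z.2.2)⟩ : T)) := by
    intro Z Z' hZ z w hzw
    have h : z.1.1 * z.2.1 = w.1.1 * w.2.1 := congrArg Subtype.val hzw
    have h' : w.1.1⁻¹ * z.1.1 = w.2.1 * z.2.1⁻¹ := by
      rw [eq_mul_inv_iff_mul_eq, mul_assoc, h, inv_mul_cancel_left]
    have h1 := hdis Z.1 Z'.1 (fun e' => hZ (Subtype.ext e')) (w.1.1⁻¹ * z.1.1)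
      ((IsPersp.inv w.1.2).mul z.1.2) (h' ▸ (IsPersp.mul w.2.2 (IsPersp.inv z.2.2)))
    refine Prod.ext (Subtype.ext (inv_mul_eq_one.1 h1).symm) (Subtype.ext ?_)
    rw [h1, eq_comm, mul_inv_eq_one] at h'
    exact h'.symm
  have hmul : ∀ Z : ι, e Z * e (φ Z) = Nat.card T := by
    intro Z
    rw [mul_comm, ← Nat.card_prod]
    refine Nat.card_eq_of_bijective _ ⟨hinjmul (φ Z) Z (hφne Z), fun x => ?_⟩
    obtain ⟨c, i, hci, hc, hi⟩ := hφ Z x.1 x.2
    exact ⟨(⟨c, hc⟩, ⟨i, hi⟩), Subtype.ext hci.symm⟩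
  have hle : ∀ Z Z' : ι, Z ≠ Z' → e Z * e Z' ≤ Nat.card T := by
    intro Z Z' hZ
    rw [← Nat.card_prod]
    exact Nat.card_le_card_of_injective _ (hinjmul Z Z' hZ)
  have hlt : ∀ Z : ι, e Z < Nat.card T := by
    intro Z
    obtain ⟨w, cw, hw1, hw, hwZ⟩ := hother Z.1
    refine lt_of_le_of_ne (Subgroup.card_le_of_le (perspGroup_le_transGroup Z.2)) fun he => ?_
    have heq := Subgroup.eq_of_le_of_card_ge (perspGroup_le_transGroup Z.2) he.ge
    have : w ∈ perspGroup (L := L) G Z.1 g := by rw [heq]; exact ⟨cw, hw⟩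
    exact hw1 (hdis cw Z.1 hwZ w hw.2 this)
  have := Fintype.ofFinite P
  have := Fintype.ofFinite G
  have hsum : Nat.card T = 1 + ∑ Z : ι, (e Z - 1) := by
    let F : ι → Finset G := fun Z =>
      (Finset.univ.filter (· ∈ perspGroup (L := L) G Z.1 g)).erase 1
    have hFcard : ∀ Z, (F Z).card = e Z - 1 := fun Z => by
      rw [Finset.card_erase_of_mem (by simp), ← Fintype.card_subtype, ← Nat.card_eq_fintype_card]
    have hdisj : Set.PairwiseDisjoint ↑(Finset.univ : Finset ι) F := by
      intro Z _ Z' _ hZ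
      rw [Function.onFun, Finset.disjoint_left]
      intro x hx' hx''
      simp only [F, Finset.mem_erase, Finset.mem_filter, Finset.mem_univ, true_and] at hx' hx''
      exact hx'.1 (hdis Z.1 Z'.1 (fun e' => hZ (Subtype.ext e')) x hx'.2 hx''.2)
    have hT : Finset.univ.filter (· ∈ T) = insert (1 : G) (Finset.univ.biUnion F) := by
      ext x
      simp only [Finset.mem_filter, Finset.mem_univ, true_and, Finset.mem_insert,
        Finset.mem_biUnion, F, Finset.mem_erase]
      constructor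
      · rintro ⟨c, hc, hp⟩
        by_cases hx' : x = 1
        · exact Or.inl hx'
        · exact Or.inr ⟨⟨c, hc⟩, hx', hp⟩
      · rintro (rfl | ⟨Z, -, hp⟩)
        · exact one_mem T
        · exact perspGroup_le_transGroup Z.2 hp
    rw [Nat.card_eq_fintype_card, Fintype.card_subtype, hT,
      Finset.card_insert_of_notMem (by simp [F]), Finset.card_biUnion hdisj,
      Finset.sum_congr rfl (fun Z _ => hFcard Z), add_comm]
  have : Nonempty ι := ⟨⟨cx, hx.1⟩⟩
  obtain ⟨Z, hZ⟩ := CfsgLib.OW.exists_eq_card_sub_one e φ _ hmul hle hlt hsum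
  have hι : Fintype.card ι = ord P L + 1 := by
    rw [← card_on_line (P := P) g, Nat.card_eq_fintype_card]
  rw [hι, Nat.add_sub_cancel] at hZ
  have hpg : IsPGroup q (perspGroup (L := L) G Z.1 g) := fun x =>
    ⟨1, by rw [pow_one]; exact Subtype.ext (hexp x.1 (perspGroup_le_transGroup Z.2 x.2))⟩
  obtain ⟨k, hk⟩ := IsPGroup.iff_card.1 hpg
  refine ⟨q, k, hq, ?_, hZ.symm.trans hk, x₁, cx, g, hx₁e, hx₁⟩
  rcases Nat.eq_zero_or_pos k with rfl | hk0
  · exfalso
    have h2 := two_le_ord P L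
    rw [← hZ] at h2
    simp only [e, hk, pow_zero] at h2
    omega
  · exact hk0

/-- A single direction on an axis gives two directions at its centre. -/
theorem HomData.exists_two_axes [Finite G] (D : HomData G P L) {g : L} {x : G} {c : P}
    (hx : IsElation x c g) (hx1 : x ≠ 1)
    (hone : ∀ (y : G) (d : P), IsElation y d g → y ≠ 1 → d = c) :
    ∃ (y : G) (k : L), y ≠ 1 ∧ k ≠ g ∧ IsElation y c k := by
  obtain ⟨h₀, C, H₀⟩ := D.axis g
  have haxis : ∀ Z : P, Z ∈ g → Z ≠ c → ∃ (h : G) (m : L), IsHom h Z m ∧ C ∈ m ∧ c ∈ m := by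
    intro Z hZ hZc
    obtain ⟨h, m, Hm, hCm⟩ := D.partner H₀ hZ
    refine ⟨h, m, Hm, hCm, ?_⟩
    have hg : h • g = g := Hm.persp.2 g hZ
    have h1 : h * x * h⁻¹ ≠ 1 := by
      intro e; apply hx1
      calc x = h⁻¹ * (h * x * h⁻¹) * h := by group
        _ = 1 := by rw [e]; group
    have h2 : IsElation (h * x * h⁻¹) (h • c) g := by
      refine ⟨?_, by have := hx.2.conj h; rwa [hg] at this⟩
      rw [← hg, smul_mem_smul]; exact hx.1
    exact (Hm.fixed_point (hone _ _ h2 h1)).resolve_left hZc.symm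
  obtain ⟨Z, hZ, hZc, -⟩ := exists_third_point g c c
  obtain ⟨Z', hZ', hZ'c, hZ'Z⟩ := exists_third_point g c Z
  obtain ⟨h, m, Hm, hCm, hcm⟩ := haxis Z hZ hZc
  obtain ⟨h', m', Hm', hCm', hcm'⟩ := haxis Z' hZ' hZ'c
  have hCc : C ≠ c := fun e => H₀.off (e ▸ hx.1)
  have hmm : m' = m := line_unique hCc hCm' hcm' hCm hcm
  subst hmm
  obtain ⟨d, z, hd, hel, hthrough⟩ := two_axes (P := Configuration.Dual L)
    (L := Configuration.Dual P) Hm.dual Hm'.dual hZ'Z.symm
  have hgm : g ≠ m' := fun e => H₀.off (e ▸ hCm)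
  have hzc : z = c := point_unique (P := P) (L := L) hgm (hthrough g hZ hZ') hel.1 hx.1 hcm
  subst hzc
  exact ⟨d, m', hd, hgm.symm, hel.1, hel.2.2, hel.2.1⟩

/-- The homology lemma. -/
theorem homology_prime_power [Finite G] (hodd : Odd (ord P L))
    (hinv : ∀ t : G, t * t = 1 → t ≠ 1 → ∃ (c : P) (l : L), IsPersp t c l)
    (hpts : ∀ a b : P, a ≠ b → ∃ t : G, t * t = 1 ∧ t ≠ 1 ∧ t • a = a ∧ t • b = b)
    (hlines : ∀ a b : L, a ≠ b → ∃ t : G, t * t = 1 ∧ t ≠ 1 ∧ t • a = a ∧ t • b = b) :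
    ∃ q k, q.Prime ∧ 0 < k ∧ ord P L = q ^ k ∧
      ∃ (g : G) (c : P) (l : L), IsElation g c l ∧ orderOf g = q := by
  have hH : InvHom G P L := fun t ht h1 => by
    obtain ⟨c, l, h⟩ := hinv t ht h1
    exact ⟨c, l, isHom_of_odd hodd h ht h1⟩
  have hdual : ord (Configuration.Dual L) (Configuration.Dual P) = ord P L :=
    ProjectivePlane.Dual.order P L
  have D : HomData G P L :=
    { inv := hH
      axis := exists_hom_axis hodd hH hpts
      centre := fun c => by
        obtain ⟨g, l, h⟩ := exists_hom_axis (P := Configuration.Dual L)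
          (L := Configuration.Dual P) (hdual.symm ▸ hodd) hH.dual hlines c
        exact ⟨g, l, h.dual⟩ }
  obtain ⟨x, c, g, hx1, hx⟩ := D.exists_elation
  by_cases htwo : ∀ (y : G) (d : P), IsElation y d g → y ≠ 1 → d = c
  · obtain ⟨y, k, hy1, hkg, hy⟩ := D.exists_two_axes hx hx1 htwo
    obtain ⟨q, j, hq, hj, hord, d, a, b, hd, hdo⟩ :=
      HomData.prime_power_of_two_centres (P := Configuration.Dual L) (L := Configuration.Dual P)
        D.dual (hdual.symm ▸ hodd) (g := c) (x₀ := x) (y₀ := y) (cx := g) (cy := k)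
        ⟨hx.1, hx.2.dual⟩ ⟨hy.1, hy.2.dual⟩ hx1 hy1 hkg.symm
    exact ⟨q, j, hq, hj, hdual ▸ hord, d, b, a, ⟨hd.1, hd.2.2, hd.2.1⟩, hdo⟩
  · push Not at htwo
    obtain ⟨y, d, hy, hy1, hdc⟩ := htwo
    exact D.prime_power_of_two_centres hodd hy hx hy1 hx1 hdc

end CfsgLib.OstromWagner
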