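import Mathlib.GroupTheory.Nilpotent
import Cfsg.Agent.Lib.OstromWagner.Homology

/-!
# The endgame for planes of prime power order with a two-transitive group and no elations

If the order is `p ^ a` (`p` odd), `p` divides the order of a two-point stabiliser and smaller
planes with two-transitive groups have elations, then there is a non-trivial elation: a central
element `z` of a Sylow `p`-subgroup fixes nothing but a flag, so a maximal `p`-subgroup fixing a
quadrangle can be enlarged.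
-/

set_option autoImplicit false
set_option linter.unusedSectionVars false

namespace CfsgLib.OstromWagner

open Configuration

variable {G P L : Type*} [Group G] [Membership P L] [MulAction G P] [MulAction G L]
  [IsCollAction G P L] [ProjectivePlane P L] [Finite P] [Finite L] [FaithfulSMul G P]

/-- Two-transitivity on points implies two-transitivity on lines. -/
theorem TwoTrans.lines [Finite G] (h2 : TwoTrans G P) : TwoTrans G L := by
  classical
  have := Fintype.ofFinite P
  have := Fintype.ofFinite L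
  have := Fintype.ofFinite G
  have hfix : ∀ g : G, Fintype.card (MulAction.fixedBy (P × P) g)
      = Fintype.card (MulAction.fixedBy (L × L) g) := by
    intro g
    have e1 : MulAction.fixedBy (P × P) g ≃ {p : P // g • p = p} × {p : P // g • p = p} :=
      { toFun := fun x => (⟨x.1.1, congrArg Prod.fst x.2⟩, ⟨x.1.2, congrArg Prod.snd x.2⟩)
        invFun := fun x => ⟨(x.1.1, x.2.1), Prod.ext x.1.2 x.2.2⟩
        left_inv := fun x => rfl
        right_inv := fun x => rfl }
    have e2 : MulAction.fixedBy (L × L) g ≃ {l : L // g • l = l} × {l : L // g • l = l} :=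
      { toFun := fun x => (⟨x.1.1, congrArg Prod.fst x.2⟩, ⟨x.1.2, congrArg Prod.snd x.2⟩)
        invFun := fun x => ⟨(x.1.1, x.2.1), Prod.ext x.1.2 x.2.2⟩
        left_inv := fun x => rfl
        right_inv := fun x => rfl }
    rw [← Nat.card_eq_fintype_card, ← Nat.card_eq_fintype_card, Nat.card_congr e1,
      Nat.card_congr e2, Nat.card_prod, Nat.card_prod, parker L g]
  let ΩP := MulAction.orbitRel.Quotient G (P × P)
  let ΩL := MulAction.orbitRel.Quotient G (L × L)
  have hcard : Fintype.card ΩP = Fintype.card ΩL := by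
    have h1 := MulAction.sum_card_fixedBy_eq_card_orbits_mul_card_group G (P × P)
    have h3 := MulAction.sum_card_fixedBy_eq_card_orbits_mul_card_group G (L × L)
    rw [Finset.sum_congr rfl (fun g _ => hfix g), h3] at h1
    exact (Nat.eq_of_mul_eq_mul_right Fintype.card_pos h1).symm
  obtain ⟨p₁, p₂, p₃, l₁, l₂, l₃, h₁₂, h₁₃, h₂₁, h₂₂, h₂₃, h₃₁, h₃₂, h₃₃⟩ :=
    @ProjectivePlane.exists_config P L _ _
  have hp12 : p₁ ≠ p₂ := fun e => h₁₂ (e ▸ h₂₂)
  have hP : Fintype.card ΩP ≤ 2 := by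
    rw [← Fintype.card_bool]
    refine Fintype.card_le_of_surjective (fun b => if b then (Quotient.mk'' (p₁, p₁) : ΩP)
      else (Quotient.mk'' (p₁, p₂) : ΩP)) fun q => ?_
    induction q using Quotient.inductionOn' with
    | h x =>
      obtain ⟨x, y⟩ := x
      by_cases hxy : x = y
      · subst hxy
        refine ⟨true, Quotient.sound' ?_⟩
        obtain ⟨w, hw⟩ : ∃ w : P, x ≠ w := by
          by_cases h : x = p₁
          · exact ⟨p₂, h ▸ hp12⟩
          · exact ⟨p₁, h⟩
        obtain ⟨g, hg, -⟩ := h2 x w p₁ p₂ hw hp12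
        exact ⟨g, Prod.ext hg hg⟩
      · refine ⟨false, Quotient.sound' ?_⟩
        obtain ⟨g, hg, hg'⟩ := h2 x y p₁ p₂ hxy hp12
        exact ⟨g, Prod.ext hg hg'⟩
  intro u v w x huv hwx
  have hthree : (Quotient.mk'' (u, v) : ΩL) = Quotient.mk'' (w, x) := by
    by_contra hne
    have h3 : 3 ≤ Fintype.card ΩL := by
      have hdiag : ∀ s t : L, s ≠ t → (Quotient.mk'' (u, u) : ΩL) ≠ Quotient.mk'' (s, t) := by
        intro s t hst e
        obtain ⟨g, hg⟩ := Quotient.exact' e
        have e1 : g • s = u := congrArg Prod.fst hg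
        have e2 : g • t = u := congrArg Prod.snd hg
        exact hst (MulAction.injective g (e1.trans e2.symm))
      calc 3 = ({(Quotient.mk'' (u, u) : ΩL), Quotient.mk'' (u, v), Quotient.mk'' (w, x)} :
            Finset ΩL).card := by
            rw [Finset.card_insert_of_notMem (by simp [hdiag u v huv, hdiag w x hwx]),
              Finset.card_pair hne]
        _ ≤ _ := Finset.card_le_univ _
    omega
  obtain ⟨g, hg⟩ := Quotient.exact' hthree.symm
  exact ⟨g, congrArg Prod.fst hg, congrArg Prod.snd hg⟩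

/-- A `p`-group fixes as many points of an invariant set as there are, modulo `p`. -/
theorem modEq_fixed {X : Type*} [Finite X] [MulAction G X] {p : ℕ} [Fact p.Prime]
    {H : Subgroup G} (hH : IsPGroup p H) (S : X → Prop) (hS : ∀ h ∈ H, ∀ x, S x → S (h • x)) :
    Nat.card {x : X // S x} ≡ Nat.card {x : X // S x ∧ ∀ h ∈ H, h • x = x} [MOD p] := by
  letI : MulAction H {x : X // S x} :=
    { smul := fun h x => ⟨(h : G) • x.1, hS h h.2 x.1 x.2⟩
      one_smul := fun x => Subtype.ext (one_smul G x.1)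
      mul_smul := fun g h x => Subtype.ext (mul_smul (g : G) (h : G) x.1) }
  refine (hH.card_modEq_card_fixedPoints {x : X // S x}).trans (congrArg (· % p) ?_)
  exact Nat.card_congr
    { toFun := fun x => ⟨x.1.1, x.1.2, fun h hh => congrArg Subtype.val (x.2 ⟨h, hh⟩)⟩
      invFun := fun x => ⟨⟨x.1, x.2.1⟩, fun h => Subtype.ext (x.2.2 h h.2)⟩
      left_inv := fun x => rfl
      right_inv := fun x => rfl }

/-- A `p`-group has a fixed point in an invariant set whose size is `1` modulo `p`. -/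
theorem exists_fixed_of_modEq_one {X : Type*} [Finite X] [MulAction G X] {p : ℕ} [Fact p.Prime]
    {H : Subgroup G} (hH : IsPGroup p H) (S : X → Prop) (hS : ∀ h ∈ H, ∀ x, S x → S (h • x))
    (h1 : Nat.card {x : X // S x} ≡ 1 [MOD p]) : ∃ x, S x ∧ ∀ h ∈ H, h • x = x := by
  by_contra hc
  have : IsEmpty {x : X // S x ∧ ∀ h ∈ H, h • x = x} := ⟨fun x => hc ⟨x.1, x.2⟩⟩
  have h2 := (modEq_fixed hH S hS).symm.trans h1
  rw [Nat.card_of_isEmpty] at h2
  exact (Fact.out : p.Prime).not_dvd_one (Nat.modEq_zero_iff_dvd.1 h2.symm)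

/-- Some four points form a quadrangle. -/
theorem fixesQuad_bot : FixesQuad L (⊥ : Subgroup G) P := by
  have hfix : ∀ x : P, ∀ h ∈ (⊥ : Subgroup G), h • x = x := fun x h hh => by
    rw [Subgroup.mem_bot.1 hh, one_smul]
  rcases quad_or_degenerate L (Set.univ : Set P) with ⟨a, b, c, d, -, -, -, -, hq⟩ | ⟨l, a, h⟩
  · exact ⟨⟨a, hfix a⟩, ⟨b, hfix b⟩, ⟨c, hfix c⟩, ⟨d, hfix d⟩, hq⟩
  · exfalso
    obtain ⟨b, hb, -⟩ := exists_off_two_lines (P := P) l l
    obtain ⟨m, hbm, hml, -⟩ := exists_third_line b l l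
    obtain ⟨z, hz, hzl⟩ := exists_point_on P m l
    obtain ⟨c, hc, hcb, hcz⟩ := exists_third_point m b z
    rcases h b trivial with h1 | h1
    · exact hb h1
    rcases h c trivial with h2 | h2
    · exact hcz (point_unique hml hc h2 hz hzl)
    · exact hcb (h2.trans h1.symm)

/-- Orbit lengths of a Sylow `p`-subgroup of a point stabiliser. -/
theorem pow_dvd_orbit [Finite G] (h2 : TwoTrans G P) {p a : ℕ} [Fact p.Prime]
    (hn : ord P L = p ^ a) (S : Sylow p G) {A B : P} (hA : ∀ s ∈ S, s • A = A) (hBA : B ≠ A) :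
    p ^ a ∣ Nat.card (MulAction.orbit S B) := by
  classical
  have hp : p.Prime := Fact.out
  set K := pairStab (G := G) A B
  set H := MulAction.stabilizer G A
  -- `#G_A = n (n + 1) #G_AB`
  have hindex : Nat.card H = (ord P L ^ 2 + ord P L) * Nat.card K := by
    have h1 : MulAction.orbit H B = {x : P | x ≠ A} := by
      ext x
      constructor
      · rintro ⟨⟨g, hg⟩, rfl⟩
        exact fun e => hBA (MulAction.injective g (e.trans (show g • A = A from hg).symm))
      · intro hx
        obtain ⟨g, hga, hgb⟩ := h2 A B A x hBA.symm (Ne.symm hx)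
        exact ⟨⟨g, hga⟩, hgb⟩
    have h3 := Nat.card_congr (MulAction.orbitProdStabilizerEquivGroup H B)
    rw [Nat.card_prod, h1] at h3
    have h4 : Nat.card ({x : P | x ≠ A} : Set P) = ord P L ^ 2 + ord P L := by
      have := Fintype.ofFinite P
      show Nat.card {x : P // ¬ x = A} = _
      have hP := card_all_points P L
      rw [Nat.card_eq_fintype_card] at hP ⊢
      rw [Fintype.card_subtype_compl (· = A), Fintype.card_subtype_eq, hP]
      omega
    have h5 : Nat.card (MulAction.stabilizer H B) = Nat.card K :=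
      Nat.card_congr
        { toFun := fun g => ⟨g.1.1, g.1.2, congrArg id g.2⟩
          invFun := fun g => ⟨⟨g.1, g.2.1⟩, g.2.2⟩
          left_inv := fun g => rfl
          right_inv := fun g => rfl }
    rw [← h3, h4, h5]
  have hSH : (S : Subgroup G) ≤ H := fun s hs => hA s hs
  set v := (Nat.card K).factorization p
  -- the Sylow subgroup
  obtain ⟨e, he⟩ := IsPGroup.iff_card.1 S.2
  have hpart : p ^ (a + v) ∣ Nat.card G := by
    refine dvd_trans ?_ (Subgroup.card_subgroup_dvd_card H)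
    rw [hindex, pow_add]
    refine mul_dvd_mul ?_ (Nat.ordProj_dvd _ p)
    rw [hn]
    exact Nat.dvd_add (dvd_pow_self _ two_ne_zero) dvd_rfl
  have hSdvd : p ^ (a + v) ∣ Nat.card S := by
    rw [S.card_eq_multiplicity]
    exact (Nat.pow_dvd_pow_iff_le_right hp.one_lt).2
      ((hp.pow_dvd_iff_le_factorization Nat.card_pos.ne').1 hpart)
  -- the stabiliser in it
  set T := MulAction.stabilizer S B
  have hTmap : T.map (S : Subgroup G).subtype ≤ K := by
    rintro _ ⟨t, ht, rfl⟩
    exact ⟨hA t t.2, ht⟩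
  obtain ⟨j, hj⟩ := IsPGroup.iff_card.1 (S.2.to_subgroup T)
  have hjv : j ≤ v := by
    have := Subgroup.card_dvd_of_le hTmap
    rw [Subgroup.card_map_of_injective (S : Subgroup G).subtype_injective, hj] at this
    exact (hp.pow_dvd_iff_le_factorization Nat.card_pos.ne').1 this
  have hprod := Nat.card_congr (MulAction.orbitProdStabilizerEquivGroup S B)
  rw [Nat.card_prod, hj] at hprod
  rw [← hprod] at hSdvd
  have : p ^ a * p ^ j ∣ Nat.card (MulAction.orbit S B) * p ^ j := by
    refine dvd_trans ?_ hSdvd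
    rw [← pow_add]
    exact pow_dvd_pow p (by omega)
  exact Nat.dvd_of_mul_dvd_mul_right (pow_pos hp.pos j) this

/-- A non-trivial element centralising a Sylow `p`-subgroup fixing the flag `(A, g)` moves every
other point of `g`. -/
theorem central_moves [Finite G] (h2 : TwoTrans G P)
    (hno : ∀ (g : G) (c : P) (l : L), IsElation g c l → g = 1) {p a : ℕ} [Fact p.Prime]
    (ha : 0 < a) (hn : ord P L = p ^ a) (S : Sylow p G) {A : P} {g : L}
    (hA : ∀ s ∈ S, s • A = A) (hg : ∀ s ∈ S, s • g = g) (hAg : A ∈ g) {z : G} (hz1 : z ≠ 1)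
    (hzA : z • A = A) (hz : ∀ s ∈ S, s * z = z * s) {B : P} (hB : B ∈ g) (hBA : B ≠ A) :
    z • B ≠ B := by
  classical
  intro hzB
  have hp : p.Prime := Fact.out
  have hsub : MulAction.orbit S B ⊆ {x : P | x ∈ g ∧ x ≠ A} := by
    rintro _ ⟨s, rfl⟩
    exact ⟨smul_mem_of_fixed (hg s s.2) hB,
      fun e => hBA (MulAction.injective (s : G) (e.trans (hA s s.2).symm))⟩
  have hcard : Nat.card ({x : P | x ∈ g ∧ x ≠ A} : Set P) = p ^ a := by
    have := Fintype.ofFinite P
    have h1 := card_on_line (P := P) g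
    rw [Nat.card_eq_fintype_card, Fintype.card_subtype] at h1
    show Nat.card {x : P // x ∈ g ∧ x ≠ A} = p ^ a
    rw [Nat.card_eq_fintype_card, Fintype.card_subtype,
      show (Finset.univ.filter fun x : P => x ∈ g ∧ x ≠ A)
        = (Finset.univ.filter fun x : P => x ∈ g).erase A by ext w; simp [and_comm],
      Finset.card_erase_of_mem (by simp [hAg]), h1, hn, Nat.add_sub_cancel]
  have heq : MulAction.orbit S B = {x : P | x ∈ g ∧ x ≠ A} := by
    refine Set.eq_of_subset_of_ncard_le hsub ?_ (Set.toFinite _)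
    rw [← Nat.card_coe_set_eq, ← Nat.card_coe_set_eq, hcard]
    exact Nat.le_of_dvd (Nat.card_pos_iff.2 ⟨⟨⟨B, MulAction.mem_orbit_self B⟩⟩, inferInstance⟩)
      (pow_dvd_orbit h2 hn S hA hBA)
  have haxis : ∀ x : P, x ∈ g → z • x = x := by
    intro x hx
    by_cases hxA : x = A
    · rw [hxA, hzA]
    · obtain ⟨s, hs⟩ : x ∈ MulAction.orbit S B := by rw [heq]; exact ⟨hx, hxA⟩
      rw [show x = (s : G) • B from hs.symm, ← mul_smul, ← hz s s.2, mul_smul, hzB]
  obtain ⟨c, hc⟩ := exists_centre haxis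
  have hcA : c = A := by
    by_contra hcA
    have hfix : MulAction.orbit S c ⊆ {c} := by
      rintro _ ⟨s, rfl⟩
      have := hc.conj (s : G)
      rw [hg s s.2, show (s : G) * z * (s : G)⁻¹ = z by
        rw [hz s s.2, mul_inv_cancel_right]] at this
      exact this.centre_unique hc hz1
    have h1 := pow_dvd_orbit h2 hn S hA hcA
    have h3 : Nat.card (MulAction.orbit S c) ≤ 1 := by
      rw [Nat.card_coe_set_eq]
      exact (Set.ncard_le_ncard hfix).trans (Set.ncard_singleton c).le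
    have h4 := Nat.le_of_dvd (Nat.card_pos_iff.2
      ⟨⟨⟨c, MulAction.mem_orbit_self c⟩⟩, inferInstance⟩) h1
    have h5 : 1 < p ^ a := Nat.one_lt_pow ha.ne' hp.one_lt
    omega
  exact hz1 (hno z c g ⟨hcA ▸ hAg, hc⟩)

/-- A Sylow `p`-subgroup of a two-point stabiliser fixes no quadrangle. -/
theorem pairSylow_not_fixesQuad [Finite G] (h2 : TwoTrans G P) {p a : ℕ} [Fact p.Prime]
    (ha : 0 < a) (hn : ord P L = p ^ a)
    (hfix : ∃ (g : G) (x y : P), x ≠ y ∧ orderOf g = p ∧ g • x = x ∧ g • y = y)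
    (ih : ∀ (H : Subgroup G) (hQ : FixesQuad L H P), H ≠ ⊥ →
      TwoTrans (toFixColl (P := P) (L := L) H).range (FixP H P) → ∀ q, q.Prime →
        q ∣ @Configuration.ProjectivePlane.order (FixP H P) (FixL H L) _ (fixPlane hQ) →
          ∃ (g : (toFixColl (P := P) (L := L) H).range) (c : FixP H P) (l : FixL H L),
            IsElation g c l ∧ orderOf g = q)
    {X : Subgroup G} {x y : P} (hxy : x ≠ y) (hX : PairSylow p X x y) (hQ : FixesQuad L X P) :
    False := by
  classical
  have hp : p.Prime := Fact.out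
  letI := fixPlane hQ
  have hX0 : X ≠ ⊥ := by
    intro e
    obtain ⟨g, u, v, huv, hg, hgu, hgv⟩ := hfix
    obtain ⟨k, hku, hkv⟩ := h2 u v x y huv hxy
    set g' := k * g * k⁻¹
    have hg'p : g' ^ p = 1 := by rw [conj_pow, ← hg, pow_orderOf_eq_one]; group
    have hp' : IsPGroup p (Subgroup.zpowers g') := by
      rintro ⟨_, i, rfl⟩
      exact ⟨1, Subtype.ext (show ((g' ^ i : G)) ^ p ^ 1 = 1 by
        rw [pow_one, ← zpow_natCast, ← zpow_mul, mul_comm, zpow_mul, zpow_natCast, hg'p, one_zpow])⟩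
    have hle : Subgroup.zpowers g' ≤ pairStab x y := by
      rw [Subgroup.zpowers_le]
      constructor
      · show g' • x = x
        rw [← hku, mul_smul, mul_smul, inv_smul_smul, hgu]
      · show g' • y = y
        rw [← hkv, mul_smul, mul_smul, inv_smul_smul, hgv]
    have := hX.2.2 _ hp' hle (e ▸ bot_le)
    rw [e, Subgroup.zpowers_eq_bot] at this
    have : g = 1 := by
      calc g = k⁻¹ * g' * k := by simp only [g']; group
        _ = 1 := by rw [this]; group
    rw [this, orderOf_one] at hg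
    exact hp.ne_one hg.symm
  have hfixX : ∀ {u v : P}, PairSylow p X u v → ∀ h ∈ X, h • u = u ∧ h • v = v :=
    fun hh h hm => mem_pairStab.1 (hh.1 hm)
  -- two-transitivity on the fixed plane
  have htt : TwoTrans (toFixColl (P := P) (L := L) X).range (FixP X P) := by
    intro c d c' d' hcd hcd'
    have hne : ∀ {u v : FixP X P}, u ≠ v → u.1 ≠ v.1 := fun h e => h (Subtype.ext e)
    obtain ⟨-, hS⟩ := witt h2 hX hxy (hne hcd) c.2 d.2
    obtain ⟨⟨g, hgn, hgc, hgd⟩, -⟩ := witt h2 hS (hne hcd) (hne hcd') c'.2 d'.2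
    exact ⟨⟨_, ⟨⟨g, hgn⟩, rfl⟩⟩, Subtype.ext hgc, Subtype.ext hgd⟩
  -- `p` divides the order of the fixed plane
  set s := ord (FixP X P) (FixL X L) with hs
  obtain ⟨m, hxm, hym⟩ := exists_line_through L x y
  have hmfix : ∀ h ∈ X, h • m = m := fun h hh =>
    fixed_line_of_points hxy hxm hym (hfixX hX h hh).1 (hfixX hX h hh).2
  have hps : p ∣ s := by
    have h1 := modEq_fixed hX.2.1 (fun z : P => z ∈ m) fun h hh z hz =>
      smul_mem_of_fixed (hmfix h hh) hz
    have h3 : Nat.card {z : P // z ∈ m ∧ ∀ h ∈ X, h • z = z} = s + 1 := by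
      rw [hs, ← card_on_line (P := FixP X P) (⟨m, hmfix⟩ : FixL X L)]
      exact Nat.card_congr
        { toFun := fun z => ⟨⟨z.1, z.2.2⟩, z.2.1⟩
          invFun := fun z => ⟨z.1.1, z.2, z.1.2⟩
          left_inv := fun z => rfl
          right_inv := fun z => rfl }
    rw [card_on_line, h3, hn] at h1
    have h4 : p ^ a ≡ 0 [MOD p] := Nat.modEq_zero_iff_dvd.2 (dvd_pow_self p ha.ne')
    exact Nat.modEq_zero_iff_dvd.1 ((Nat.ModEq.add_right_cancel' 1 h1).symm.trans h4)
  obtain ⟨e, c, l, hel, heo⟩ := ih X hQ hX0 htt p hp hps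
  obtain ⟨n, hn'⟩ := e.2
  -- the `p`-part of a preimage
  set o := orderOf n
  set k := o / p ^ o.factorization p
  have hk : ¬ p ∣ k := Nat.not_dvd_ordCompl hp (orderOf_pos n).ne'
  set w := n ^ k
  have hwp : w ^ p ^ o.factorization p = 1 := by
    rw [← pow_mul, mul_comm, Nat.mul_div_cancel' (Nat.ordProj_dvd _ _), pow_orderOf_eq_one]
  have hwne : toFixColl (P := P) (L := L) X w ≠ 1 := by
    rw [map_pow, hn']
    intro h0
    apply hk
    rw [← heo]
    exact orderOf_dvd_of_pow_eq_one (Subtype.ext h0)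
  -- two points fixed by it
  obtain ⟨u, hu, -⟩ := exists_point_on (FixP X P) l l
  obtain ⟨v, hv, hvu, -⟩ := exists_third_point l u u
  have hwfix : ∀ z : FixP X P, z ∈ l → (w : G) • z.1 = z.1 := by
    intro z hz
    have h1 : e ^ k • z = z :=
      pow_mem (show e ∈ MulAction.stabilizer _ z from hel.2.1 z hz) k
    have h3 : toFixColl (P := P) (L := L) X w • z = z := by
      rw [map_pow, hn']; exact h1
    exact congrArg Subtype.val h3
  have huv : u.1 ≠ v.1 := fun e' => hvu (Subtype.ext e'.symm)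
  obtain ⟨-, hS⟩ := witt h2 hX hxy huv u.2 v.2
  have hwX : Subgroup.zpowers (w : G) ≤ Subgroup.normalizer (X : Set G) := by
    rw [Subgroup.zpowers_le]; exact w.2
  have hZp : IsPGroup p (Subgroup.zpowers (w : G)) := by
    rintro ⟨_, i, rfl⟩
    refine ⟨o.factorization p, Subtype.ext (show ((w : G) ^ i) ^ p ^ o.factorization p = 1 from ?_)⟩
    rw [← zpow_natCast, ← zpow_mul, mul_comm, zpow_mul, zpow_natCast, ← SubgroupClass.coe_pow, hwp,
      OneMemClass.coe_one, one_zpow]
  have hY := hS.2.2 _ (hX.2.1.to_sup_of_normal_left' hZp hwX)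
    (sup_le hS.1 (by
      rw [Subgroup.zpowers_le]
      exact ⟨hwfix u hu, hwfix v hv⟩)) le_sup_left
  have hwmem : (w : G) ∈ X := hY.le (Subgroup.mem_sup_right (Subgroup.mem_zpowers _))
  exact hwne (eq_one_of_points (P := FixP X P) fun z => Subtype.ext (z.2 _ hwmem))

/-- The endgame. -/
theorem endgame [Finite G] (h2 : TwoTrans G P)
    (hno : ∀ (g : G) (c : P) (l : L), IsElation g c l → g = 1) {p a : ℕ} [Fact p.Prime]
    (hn : ord P L = p ^ a) (hp : Odd p)
    (hfix : ∃ (g : G) (x y : P), x ≠ y ∧ orderOf g = p ∧ g • x = x ∧ g • y = y)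
    (ih : ∀ (H : Subgroup G) (hQ : FixesQuad L H P), H ≠ ⊥ →
      TwoTrans (toFixColl (P := P) (L := L) H).range (FixP H P) → ∀ q, q.Prime →
        q ∣ @Configuration.ProjectivePlane.order (FixP H P) (FixL H L) _ (fixPlane hQ) →
          ∃ (g : (toFixColl (P := P) (L := L) H).range) (c : FixP H P) (l : FixL H L),
            IsElation g c l ∧ orderOf g = q) : False := by
  classical
  have hp' : p.Prime := Fact.out
  have ha : 0 < a := by
    rcases Nat.eq_zero_or_pos a with rfl | h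
    · have := two_le_ord P L; rw [hn, pow_zero] at this; omega
    · exact h
  have h2L : TwoTrans G L := h2.lines (P := P)
  have hp1 : p ^ a ≡ 0 [MOD p] := Nat.modEq_zero_iff_dvd.2 (dvd_pow_self p ha.ne')
  -- every Sylow subgroup fixes a flag
  have hflag : ∀ S : Sylow p G, ∃ (A : P) (g : L), A ∈ g ∧ (∀ s ∈ S, s • A = A) ∧
      ∀ s ∈ S, s • g = g := by
    intro S
    obtain ⟨A, -, hA⟩ := exists_fixed_of_modEq_one (X := P) S.2 (fun _ => True)
      (fun _ _ _ _ => trivial) (by
        rw [Nat.card_congr (Equiv.subtypeUnivEquiv (fun _ => trivial)), card_all_points P L, hn]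
        simpa using ((hp1.pow 2).add hp1).add_right 1)
    obtain ⟨g, hg, hgfix⟩ := exists_fixed_of_modEq_one (X := L) S.2 (fun m => A ∈ m)
      (fun s hs m hm => by
        have := (smul_mem_smul s A m).2 hm
        rwa [hA s hs] at this)
      (by rw [card_through, hn]; simpa using hp1.add_right 1)
    exact ⟨A, g, hg, hA, hgfix⟩
  -- a `p`-group fixing a flag lies in a Sylow subgroup fixing it
  have hcontain : ∀ (W : Subgroup G) (A : P) (g : L), IsPGroup p W → A ∈ g →
      (∀ w ∈ W, w • A = A) → (∀ w ∈ W, w • g = g) →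
      ∃ S : Sylow p G, W ≤ S ∧ (∀ s ∈ S, s • A = A) ∧ ∀ s ∈ S, s • g = g := by
    intro W A g hW hAg hWA hWg
    obtain ⟨S₀⟩ := (inferInstance : Nonempty (Sylow p G))
    obtain ⟨A₀, g₀, hAg₀, hA₀, hg₀⟩ := hflag S₀
    obtain ⟨B, hB, hBA, -⟩ := exists_third_point g A A
    obtain ⟨B₀, hB₀, hBA₀, -⟩ := exists_third_point g₀ A₀ A₀
    obtain ⟨k, hk1, hk2⟩ := h2 A₀ B₀ A B hBA₀.symm hBA.symm
    have hkg : k • g₀ = g := line_unique hBA.symm (hk1 ▸ (smul_mem_smul k A₀ g₀).2 hAg₀)
      (hk2 ▸ (smul_mem_smul k B₀ g₀).2 hB₀) hAg hB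
    let F : Subgroup G := MulAction.stabilizer G A ⊓ MulAction.stabilizer G g
    have hS1F : ((k • S₀ : Sylow p G) : Subgroup G) ≤ F := by
      intro x hx
      rw [Sylow.coe_subgroup_smul] at hx
      obtain ⟨s, hs, rfl⟩ := Subgroup.mem_pointwise_smul_iff_inv_smul_mem.1 hx |> fun h =>
        (⟨_, h, (smul_inv_smul (MulAut.conj k) x).symm⟩ : ∃ s ∈ (S₀ : Subgroup G),
          x = MulAut.conj k • s)
      constructor
      · show (k * s * k⁻¹) • A = A
        rw [← hk1, mul_smul, mul_smul, inv_smul_smul, hA₀ s hs]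
      · show (k * s * k⁻¹) • g = g
        rw [← hkg, mul_smul, mul_smul, inv_smul_smul, hg₀ s hs]
    set S₁ : Sylow p F := (k • S₀ : Sylow p G).subtype hS1F
    obtain ⟨Q, hWQ⟩ := (hW.comap_of_injective F.subtype Subtype.val_injective).exists_le_sylow
    obtain ⟨f, hf⟩ := MulAction.exists_smul_eq F S₁ Q
    refine ⟨(f : G) • k • S₀, fun w hw => ?_, fun s hs => ?_, fun s hs => ?_⟩
    · have hwF : w ∈ F := ⟨hWA w hw, hWg w hw⟩
      have : (⟨w, hwF⟩ : F) ∈ (f • S₁).toSubgroup := by rw [hf]; exact hWQ hw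
      rw [Sylow.coe_subgroup_smul, Subgroup.mem_pointwise_smul_iff_inv_smul_mem] at this
      show w ∈ ((f : G) • k • S₀).toSubgroup
      rw [Sylow.coe_subgroup_smul, Subgroup.mem_pointwise_smul_iff_inv_smul_mem]
      exact this
    all_goals
      rw [← SetLike.mem_coe, Sylow.coe_smul] at hs
      obtain ⟨t, ht, rfl⟩ := hs
      have htF := hS1F ht
      show ((f : G) * t * (f : G)⁻¹) • _ = _
    · have e : (f : G) • A = A := f.2.1
      have e' : t • A = A := htF.1
      rw [mul_smul, mul_smul, inv_smul_eq_iff.2 e.symm, e', e]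
    · have e : (f : G) • g = g := f.2.2
      have e' : t • g = g := htF.2
      rw [mul_smul, mul_smul, inv_smul_eq_iff.2 e.symm, e', e]
  -- a maximal `p`-subgroup fixing a quadrangle
  have : Finite (Subgroup G) := Finite.of_injective (fun R => (R : Set G)) SetLike.coe_injective
  obtain ⟨W, hW⟩ := (Set.toFinite {Y : Subgroup G | IsPGroup p Y ∧ FixesQuad L Y P}).exists_maximal
    ⟨⊥, IsPGroup.of_bot, fixesQuad_bot⟩
  obtain ⟨hWp, hWQ⟩ := hW.1
  letI := fixPlane hWQ
  obtain ⟨qa, qb, qc, qd, hquad⟩ := id hWQ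
  have hab : qa.1 ≠ qb.1 := hquad.1.ne₁₂
  obtain ⟨X, hX, hWX⟩ := exists_pairSylow p hWp (a := qa.1) (b := qb.1)
    (fun w hw => mem_pairStab.2 ⟨qa.2 w hw, qb.2 w hw⟩)
  have hne : X ≠ W := fun e => pairSylow_not_fixesQuad h2 ha hn hfix ih hab hX (e ▸ hWQ)
  have hnil : Group.IsNilpotent X := hX.2.1.isNilpotent
  have hlt : W.subgroupOf X < ⊤ := lt_top_iff_ne_top.2 fun e =>
    hne (le_antisymm (Subgroup.subgroupOf_eq_top.1 e) hWX)
  obtain ⟨x, hxn, hxW⟩ :=
    SetLike.exists_of_lt (Group.normalizerCondition_of_isNilpotent (W.subgroupOf X) hlt)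
  have hxN : (x : G) ∈ Subgroup.normalizer (W : Set G) := by
    rw [Subgroup.mem_normalizer_iff] at hxn ⊢
    intro w
    constructor
    · intro hw
      exact (hxn ⟨w, hWX hw⟩).1 hw
    · intro hw
      have hwX : w ∈ X := by
        have := mul_mem (mul_mem (inv_mem x.2) (hWX hw)) x.2
        simpa [mul_assoc] using this
      exact (hxn ⟨w, hwX⟩).2 hw
  -- a second fixed line
  set t := toFixColl (P := P) (L := L) W ⟨x, hxN⟩
  have hxa : (x : G) • qa.1 = qa.1 := (mem_pairStab.1 (hX.1 x.2)).1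
  have hxb : (x : G) • qb.1 = qb.1 := (mem_pairStab.1 (hX.1 x.2)).2
  obtain ⟨ab, haab, hbab⟩ := exists_line_through L qa.1 qb.1
  obtain ⟨g, hgt, hgab⟩ : ∃ g : FixL W L, t • g = g ∧ g.1 ≠ ab := by
    by_contra hc
    push Not at hc
    have hpar := parker (FixL W L) (P := FixP W P) t
    have h1 : Subsingleton {l : FixL W L // t • l = l} :=
      ⟨fun u v => Subtype.ext (Subtype.ext ((hc u.1 u.2).trans (hc v.1 v.2).symm))⟩
    have h3 : 2 ≤ Nat.card {z : FixP W P // t • z = z} := by
      refine le_trans (le_of_eq (Nat.card_fin 2).symm) (Nat.card_le_card_of_injective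
        ![⟨qa, Subtype.ext hxa⟩, ⟨qb, Subtype.ext hxb⟩] ?_)
      intro i j hij
      fin_cases i <;> fin_cases j
      · rfl
      · exact absurd (congrArg (fun w => w.1.1) hij) hab
      · exact absurd (congrArg (fun w => w.1.1) hij).symm hab
      · rfl
    rw [hpar] at h3
    have := Finite.card_le_one_iff_subsingleton.2 h1
    omega
  obtain ⟨A, hAg, hAab⟩ := exists_point_on P g.1 ab
  obtain ⟨Y, hYab, hYg⟩ : ∃ Y : P, (Y = qa.1 ∨ Y = qb.1) ∧ Y ∉ g.1 := by
    by_cases h : qa.1 ∈ g.1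
    · exact ⟨qb.1, Or.inr rfl, fun h' => hgab (line_unique hab h h' haab hbab)⟩
    · exact ⟨qa.1, Or.inl rfl, h⟩
  set W' := W ⊔ Subgroup.zpowers (x : G)
  have hW'X : W' ≤ X := sup_le hWX (by rw [Subgroup.zpowers_le]; exact x.2)
  have hW'p : IsPGroup p W' := hX.2.1.to_le hW'X
  have hW'ab : ∀ w ∈ W', w • qa.1 = qa.1 ∧ w • qb.1 = qb.1 :=
    fun w hw => mem_pairStab.1 (hX.1 (hW'X hw))
  have hW'g : ∀ w ∈ W', w • g.1 = g.1 := by
    intro w hw
    refine (sup_le (?_ : W ≤ MulAction.stabilizer G g.1) ?_) hw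
    · exact fun u hu => g.2 u hu
    · rw [Subgroup.zpowers_le]; exact congrArg Subtype.val hgt
  have hW'A : ∀ w ∈ W', w • A = A := fun w hw =>
    fixed_point_of_lines hgab hAg hAab (hW'g w hw)
      (fixed_line_of_points hab haab hbab (hW'ab w hw).1 (hW'ab w hw).2)
  have hW'Y : ∀ w ∈ W', w • Y = Y := fun w hw => by
    rcases hYab with rfl | rfl
    · exact (hW'ab w hw).1
    · exact (hW'ab w hw).2
  obtain ⟨S, hWS, hSA, hSg⟩ := hcontain W' A g.1 hW'p hAg hW'A hW'g
  -- the central element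
  have : Nontrivial (S : Subgroup G) := by
    rw [Subgroup.nontrivial_iff_ne_bot]
    intro e
    have hWbot : W' = ⊥ := le_bot_iff.1 (e ▸ hWS)
    apply hxW
    have : (x : G) ∈ W' := Subgroup.mem_sup_right (Subgroup.mem_zpowers _)
    rw [hWbot, Subgroup.mem_bot] at this
    rw [Subgroup.mem_subgroupOf, this]
    exact one_mem W
  have hcen : Nontrivial (Subgroup.center (S : Subgroup G)) := S.2.center_nontrivial
  obtain ⟨⟨⟨z, hzS⟩, hzc⟩, hz1⟩ := exists_ne (1 : Subgroup.center (S : Subgroup G))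
  have hz1' : z ≠ 1 := fun e => hz1 (Subtype.ext (Subtype.ext e))
  have hzcomm : ∀ s ∈ S, s * z = z * s := fun s hs =>
    congrArg Subtype.val (Subgroup.mem_center_iff.1 hzc ⟨s, hs⟩)
  have hz2 : z ^ 2 ≠ 1 := by
    intro e
    obtain ⟨i, hi⟩ := S.2 ⟨z, hzS⟩
    have hi' : z ^ p ^ i = 1 := congrArg Subtype.val hi
    obtain ⟨r, hr⟩ := hp.pow (n := i)
    rw [hr, pow_succ, pow_mul, e, one_pow, one_mul] at hi'
    exact hz1' hi'
  have hdual : ord (Configuration.Dual L) (Configuration.Dual P) = p ^ a :=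
    (ProjectivePlane.Dual.order P L).trans hn
  -- what a central element moves
  have hmoves : ∀ u : G, u ∈ S → u ≠ 1 → (∀ s ∈ S, s * u = u * s) →
      (∀ B : P, B ∈ g.1 → B ≠ A → u • B ≠ B) ∧ (∀ m : L, A ∈ m → m ≠ g.1 → u • m ≠ m) := by
    intro u hu hu1 huc
    refine ⟨fun B hB hBA => central_moves h2 hno ha hn S hSA hSg hAg hu1 (hSA u hu) huc hB hBA,
      fun m hm hmg => ?_⟩
    exact central_moves (P := Configuration.Dual L) (L := Configuration.Dual P) h2L
      (fun v c l hv => hno v l c ⟨hv.1, hv.2.2, hv.2.1⟩) ha hdual S hSg hSA hAg hu1 (hSg u hu) huc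
      hm hmg
  have hzA : z • A = A := hSA z hzS
  have hzg : z • g.1 = g.1 := hSg z hzS
  have hYA : Y ≠ A := fun e => hYg (e ▸ hAg)
  have hfirst : ∀ u : G, u ∈ S → u ≠ 1 → (∀ s ∈ S, s * u = u * s) → ∀ B : P, B ∉ g.1 →
      NonColl L A B (u • B) := by
    intro u hu hu1 huc B hB m hm
    have huB : u • B ≠ A := fun e => hB (by
      rw [MulAction.injective u (e.trans (hSA u hu).symm)]; exact hAg)
    have : u • m = m := line_unique huB.symm (smul_line_mem (hSA u hu) hm.1)
      ((smul_mem_smul u B m).2 hm.2.1) hm.1 hm.2.2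
    exact (hmoves u hu hu1 huc).2 m hm.1 (fun e => hB (e ▸ hm.2.1)) this
  have hz2c : ∀ s ∈ S, s * z ^ 2 = z ^ 2 * s := fun s hs =>
    (Commute.pow_right (show Commute s z from hzcomm s hs) 2).eq
  have hzY : z • Y ∉ g.1 := fun h => hYg (by rw [← smul_mem_smul z, hzg]; exact h)
  have hzzY : z • z • Y = (z ^ 2) • Y := by rw [pow_two, mul_smul]
  have hlast : NonColl L Y (z • Y) (z • z • Y) := by
    intro m hm
    have hne' : z • Y ≠ z • z • Y := by
      intro e
      have h1 : NonColl L A Y (z • Y) := hfirst z hzS hz1' hzcomm Y hYg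
      exact h1.ne₂₃ (MulAction.injective z e)
    have hzm : z • m = m := line_unique hne' ((smul_mem_smul z Y m).2 hm.1)
      ((smul_mem_smul z (z • Y) m).2 hm.2.1) hm.2.1 hm.2.2
    by_cases hAm : A ∈ m
    · exact (hmoves z hzS hz1' hzcomm).2 m hAm (fun e => hYg (e ▸ hm.1)) hzm
    · obtain ⟨B, hBm, hBg⟩ := exists_point_on P m g.1
      exact (hmoves z hzS hz1' hzcomm).1 B hBg (fun e => hAm (e ▸ hBm))
        (fixed_point_of_lines (fun e => hYg (by rw [← e]; exact hm.1)) hBm hBg hzm hzg)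
  have hW'z : ∀ (q : P), (∀ w ∈ W', w • q = q) → ∀ w ∈ W', w • z • q = z • q := fun q hq w hw => by
    rw [← mul_smul, hzcomm w (hWS hw), mul_smul, hq w hw]
  have hQ' : FixesQuad L W' P :=
    ⟨⟨A, hW'A⟩, ⟨Y, hW'Y⟩, ⟨z • Y, hW'z Y hW'Y⟩, ⟨z • z • Y, hW'z _ (hW'z Y hW'Y)⟩,
      hfirst z hzS hz1' hzcomm Y hYg,
      (by simp only [hzzY]; exact hfirst _ (pow_mem hzS 2) hz2 hz2c Y hYg),
      hfirst z hzS hz1' hzcomm _ hzY, hlast⟩
  have hle : W' ≤ W := hW.2 ⟨hW'p, hQ'⟩ le_sup_left
  exact hxW (hle (Subgroup.mem_sup_right (Subgroup.mem_zpowers _)))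

end CfsgLib.OstromWagner
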