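import Cfsg.Agent.Lib.OstromWagner.Bottom
import Cfsg.Agent.Lib.OstromWagner.Endgame

/-!
# The Ostrom-Wagner theorem: two-transitive planes are Moufang
-/

set_option autoImplicit false
set_option linter.unusedSectionVars false

namespace CfsgLib.OstromWagner

open Configuration

section

variable {G P L : Type*} [Group G] [MulAction G P] [MulAction G L] [Membership P L]
  [IsCollAction G P L] [ProjectivePlane P L] [Finite P] [Finite L] [FaithfulSMul G P] [Finite G]

/-- If all orbits have size divisible by `d`, so has the set. -/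
theorem dvd_card_of_dvd_orbits {H X : Type*} [Group H] [MulAction H X] [Finite X] {d : ℕ}
    (h : ∀ x : X, d ∣ Nat.card (MulAction.orbit H x)) : d ∣ Nat.card X := by
  classical
  have := Fintype.ofFinite (MulAction.orbitRel.Quotient H X)
  rw [Nat.card_congr (MulAction.selfEquivSigmaOrbits H X), Nat.card_sigma]
  exact Finset.dvd_sum fun q _ => h _

theorem orbit_mul_stabilizer {H X : Type*} [Group H] [MulAction H X] (x : X) :
    Nat.card (MulAction.orbit H x) * Nat.card (MulAction.stabilizer H x) = Nat.card H := by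
  rw [← Nat.card_prod, Nat.card_congr (MulAction.orbitProdStabilizerEquivGroup H x)]

/-- A two-transitive group has an involution. -/
theorem exists_group_involution (h2 : TwoTrans G P) {a b : P} (hab : a ≠ b) :
    ∃ t : G, t * t = 1 ∧ t ≠ 1 := by
  obtain ⟨g, hga, hgb⟩ := h2 a b b a hab hab.symm
  have hev : ∀ j : ℕ, g ^ (2 * j) • a = a := by
    intro j
    induction j with
    | zero => rw [mul_zero, pow_zero, one_smul]
    | succ j ih => rw [show 2 * (j + 1) = 2 * j + 2 by ring, pow_add, mul_smul, pow_two, mul_smul,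
        hga, hgb, ih]
  obtain ⟨i, hi⟩ : Even (orderOf g) := by
    rcases Nat.even_or_odd (orderOf g) with h | ⟨j, hj⟩
    · exact h
    · exfalso
      have e : g ^ (2 * j + 1) • a = a := by rw [← hj, pow_orderOf_eq_one, one_smul]
      rw [pow_succ', mul_smul, hev, hga] at e
      exact hab e.symm
  refine ⟨g ^ i, by rw [← pow_add, ← hi, pow_orderOf_eq_one], fun e => ?_⟩
  have hpos := orderOf_pos g
  have := Nat.le_of_dvd (by omega) (orderOf_dvd_of_pow_eq_one e)
  omega

/-- If all involutions are Baer, the order of the plane is odd. -/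
theorem odd_ord (h2 : TwoTrans G P)
    (hbaer : ∀ t : G, t * t = 1 → t ≠ 1 → FixesQuad L (Subgroup.zpowers t) P) :
    Odd (ord P L) := by
  classical
  haveI : Fact (Nat.Prime 2) := ⟨Nat.prime_two⟩
  by_contra hev
  rw [Nat.not_odd_iff_even] at hev
  set n := ord P L with hn
  obtain ⟨p₁, p₂, p₃, l, l₂, l₃, -⟩ := @ProjectivePlane.exists_config P L _ _
  set Gl := MulAction.stabilizer G l
  letI : MulAction Gl {p : P // p ∉ l} :=
    { smul := fun h p => ⟨(h : G) • p.1, fun hh => p.2 ((smul_mem_smul (h : G) p.1 l).1 (by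
        rw [show (h : G) • l = l from h.2]; exact hh))⟩
      one_smul := fun p => Subtype.ext (one_smul G p.1)
      mul_smul := fun a b p => Subtype.ext (mul_smul (a : G) (b : G) p.1) }
  haveI : MulAction.IsPretransitive Gl {p : P // p ∉ l} := ⟨fun x y => by
    obtain ⟨g, hgx, hgl⟩ := antiflag_transitive h2 x.2 y.2
    exact ⟨⟨g, hgl⟩, Subtype.ext hgx⟩⟩
  have hGl : ∀ x : {p : P // p ∉ l},
      Nat.card Gl = n ^ 2 * Nat.card (MulAction.stabilizer Gl x) := by
    intro x
    rw [← orbit_mul_stabilizer (H := Gl) x,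
      MulAction.orbit_eq_univ, Nat.card_univ, card_off_line]
  obtain ⟨x₀, hx₀⟩ := Nondegenerate.exists_point (P := P) l
  have h2dvd : 2 ∣ Nat.card Gl := by
    rw [hGl ⟨x₀, hx₀⟩]
    exact dvd_mul_of_dvd_left (dvd_pow hev.two_dvd two_ne_zero) _
  obtain ⟨S⟩ : Nonempty (Sylow 2 Gl) := inferInstance
  haveI : Nontrivial S := by
    have := S.dvd_card_of_dvd_card h2dvd
    have hpos : 0 < Nat.card S := Nat.card_pos
    have := Nat.le_of_dvd hpos this
    exact Finite.one_lt_card_iff_nontrivial.1 (by omega)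
  haveI := S.isPGroup'.center_nontrivial
  obtain ⟨z₀, hz₀⟩ := exists_prime_orderOf_dvd_card' 2 (G := Subgroup.center S) (by
    obtain ⟨j, hj⟩ := IsPGroup.iff_card.1 (S.isPGroup'.to_subgroup (Subgroup.center S))
    have h1 : 1 < Nat.card (Subgroup.center S) := Finite.one_lt_card
    rw [hj] at h1 ⊢
    rcases j with _ | j
    · simp at h1
    · exact dvd_pow_self 2 (Nat.succ_ne_zero j))
  set z : G := ((z₀.1.1 : Gl) : G)
  have hzo : orderOf z = 2 := by
    rw [← hz₀]
    simp only [z, Subgroup.orderOf_coe]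
  have hzz : z * z = 1 := by rw [← pow_two, ← hzo, pow_orderOf_eq_one]
  have hz1 : z ≠ 1 := fun e => by rw [e, orderOf_one] at hzo; omega
  have hQ := hbaer z hzz hz1
  letI := fixPlane hQ
  set s := ord (FixP (Subgroup.zpowers z) P) (FixL (Subgroup.zpowers z) L) with hs
  have hns : n = s ^ 2 := baer_order hzz hz1 hQ
  have hzl : z • l = l := (z₀.1.1 : Gl).2
  have hfixP : ∀ p : P, z • p = p → ∀ h ∈ Subgroup.zpowers z, h • p = p := fun p hp h hh =>
    (Subgroup.zpowers_le (H := MulAction.stabilizer G p)).2 hp hh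
  have hlz : ∀ h ∈ Subgroup.zpowers z, h • l = l := fun h hh =>
    (Subgroup.zpowers_le (H := MulAction.stabilizer G l)).2 hzl hh
  let F := {p : {p : P // p ∉ l} // z • p.1 = p.1}
  have hF : Nat.card F = s ^ 2 := by
    rw [hs, ← card_off_line (P := FixP (Subgroup.zpowers z) P)
      (⟨l, hlz⟩ : FixL (Subgroup.zpowers z) L)]
    exact Nat.card_congr
      { toFun := fun p => ⟨⟨p.1.1, hfixP _ p.2⟩, p.1.2⟩
        invFun := fun q => ⟨⟨q.1.1, q.2⟩, q.1.2 z (Subgroup.mem_zpowers z)⟩
        left_inv := fun p => rfl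
        right_inv := fun q => rfl }
  have hcomm : ∀ h : S, ((h.1 : Gl) : G) * z = z * ((h.1 : Gl) : G) := fun h =>
    congrArg (fun x : S => ((x.1 : Gl) : G)) (Subgroup.mem_center_iff.1 z₀.2 h)
  letI : MulAction S F :=
    { smul := fun h p => ⟨(h.1 : Gl) • p.1, by
        show z • ((h.1 : Gl) : G) • p.1.1 = ((h.1 : Gl) : G) • p.1.1
        rw [← mul_smul, ← hcomm, mul_smul, p.2]⟩
      one_smul := fun p => Subtype.ext (Subtype.ext (one_smul G p.1.1))
      mul_smul := fun a b p => Subtype.ext (Subtype.ext (mul_smul ((a.1 : Gl) : G) _ p.1.1)) }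
  obtain ⟨u, m, hm, hsu⟩ :=
    Nat.exists_eq_two_pow_mul_odd (n := s) (by have := two_le_ord P L; intro h; rw [h] at hns; simp at hns; omega)
  have hu : 0 < u := by
    rcases Nat.eq_zero_or_pos u with rfl | h
    · exfalso
      rw [pow_zero, one_mul] at hsu
      rw [hns, hsu] at hev
      exact (Nat.not_even_iff_odd.2 (hm.pow)) hev
    · exact h
  have horb : ∀ x : F, 2 ^ (4 * u) ∣ Nat.card (MulAction.orbit S x) := by
    intro x
    let T := MulAction.stabilizer S x
    let φ : T → MulAction.stabilizer Gl x.1 := fun h => ⟨h.1.1, congrArg Subtype.val h.2⟩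
    have hT : Nat.card T ∣ Nat.card (MulAction.stabilizer Gl x.1) := by
      have hle : T.map S.toSubgroup.subtype ≤ MulAction.stabilizer Gl x.1 := by
        rintro _ ⟨h, hh, rfl⟩
        exact congrArg Subtype.val hh
      rw [← Subgroup.card_map_of_injective (S : Subgroup Gl).subtype_injective]
      exact Subgroup.card_dvd_of_le hle
    obtain ⟨c, hc⟩ := IsPGroup.iff_card.1 (S.isPGroup'.to_subgroup T)
    have hdvd : 2 ^ (4 * u + c) ∣ Nat.card Gl := by
      rw [hGl x.1, pow_add, ← hc]
      refine mul_dvd_mul ?_ hT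
      rw [hns, hsu, ← pow_mul]
      exact ⟨m ^ (2 * 2), by rw [mul_pow, ← pow_mul, mul_comm 4 u]⟩
    have h := S.pow_dvd_card_of_pow_dvd_card hdvd
    rw [← orbit_mul_stabilizer (H := S) x,
      show Nat.card (MulAction.stabilizer S x) = 2 ^ c from hc, pow_add] at h
    exact Nat.dvd_of_mul_dvd_mul_right (by positivity) h
  have h := dvd_card_of_dvd_orbits horb
  rw [hF, hsu, mul_pow, ← pow_mul, show 4 * u = u * 2 + 2 * u by ring, pow_add] at h
  have h2m : 2 ^ (2 * u) ∣ m ^ 2 := Nat.dvd_of_mul_dvd_mul_left (by positivity) h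
  exact (Nat.not_even_iff_odd.2 hm.pow)
    (even_iff_two_dvd.2 ((dvd_pow_self 2 (by omega)).trans h2m))

end

universe v w

/-- A finite projective plane with a two-transitive group of collineations is Moufang. -/
theorem moufang_of_twoTrans (P : Type v) (L : Type w) [Membership P L] [ProjectivePlane P L]
    [Finite P] [Finite L] (G : Type (max v w)) [Group G] [MulAction G P] [MulAction G L]
    [IsCollAction G P L] [FaithfulSMul G P] [Finite G] (h2 : TwoTrans G P) : Moufang G P L := by
  induction hN : Nat.card P using Nat.strong_induction_on generalizing P L G with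
  | _ N ih =>
    subst hN
    by_contra hM
    have hno : ∀ (g : G) (c : P) (l : L), IsElation g c l → g = 1 := fun g c l h =>
      by_contra fun h1 => hM (moufang_of_elation h2 h h1)
    have hbaer : ∀ t : G, t * t = 1 → t ≠ 1 → FixesQuad L (Subgroup.zpowers t) P := by
      intro t ht ht1
      rcases involution_cases (P := P) (L := L) ht with ⟨c, l, h⟩ | h
      · obtain ⟨g, d, m, hg, hg1⟩ := exists_elation h2 h ht ht1
        exact absurd (hno g d m hg) hg1
      · exact h
    obtain ⟨p₁, p₂, p₃, l₁, l₂, l₃, h₁₂, h₁₃, h₂₁, h₂₂, -⟩ :=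
      @ProjectivePlane.exists_config P L _ _
    obtain ⟨t, ht, ht1⟩ := exists_group_involution h2 (a := p₁) (b := p₂) fun e => h₁₂ (e ▸ h₂₂)
    obtain ⟨q, a, hq, hqo, hn, hfix⟩ :=
      odd_prime_power h2 (odd_ord h2 hbaer) ht (hbaer t ht ht1)
    haveI : Fact q.Prime := ⟨hq⟩
    refine endgame h2 hno hn hqo hfix fun H hQ hH hT q' hq' hdvd => ?_
    letI := fixPlane hQ
    have hlt : Nat.card (FixP H P) < Nat.card P := by
      have hl : ord (FixP H P) (FixL H L) < ord P L := fix_order_lt hQ hH
      rw [card_all_points (FixP H P) (FixL H L), card_all_points P L]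
      nlinarith
    haveI : Finite (Coll (FixP H P) (FixL H L)) :=
      Finite.of_injective (fun f => f.1) Subtype.val_injective
    exact (ih _ hlt (FixP H P) (FixL H L) (toFixColl (P := P) (L := L) H).range hT rfl)
      |>.exists_elation_order hq' hdvd

end CfsgLib.OstromWagner
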