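import Cfsg.Agent.Lib.OstromWagner.Orbits
import Cfsg.Agent.Lib.OstromWagner.Homology
import Mathlib.GroupTheory.Nilpotent

/-!
# All involutions Baer: the bottom plane

A maximal `2`-subgroup `W` fixing a quadrangle leaves a plane of prime power order on which its
normaliser induces an elation of prime order.
-/

set_option autoImplicit false
set_option linter.unusedSectionVars false

namespace CfsgLib.OstromWagner

open Configuration

/-- An involution that is an image of `g` is the image of a `2`-element power of `g`. -/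
theorem lift_involution {A B : Type*} [Group A] [Finite A] [Group B] (f : A →* B) (g : A)
    (h2 : f g * f g = 1) :
    ∃ g' : A, f g' = f g ∧ IsPGroup 2 (Subgroup.zpowers g') ∧ ∃ j : ℕ, g' = g ^ j := by
  obtain ⟨k, m, hm, hkm⟩ := Nat.exists_eq_two_pow_mul_odd (orderOf_pos g).ne'
  obtain ⟨i, rfl⟩ := hm
  refine ⟨g ^ (2 * i + 1), ?_, ?_, _, rfl⟩
  · rw [map_pow, pow_succ, pow_mul, pow_two, h2, one_pow, one_mul]
  · have h : orderOf (g ^ (2 * i + 1)) ∣ 2 ^ k :=
      orderOf_dvd_of_pow_eq_one (by rw [← pow_mul, mul_comm, ← hkm, pow_orderOf_eq_one])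
    obtain ⟨j, -, hj⟩ := (Nat.dvd_prime_pow Nat.prime_two).1 h
    exact IsPGroup.of_card (n := j) (by rw [Nat.card_zpowers, hj])

/-- A non-trivial element of a `2`-group has a power of order two. -/
theorem exists_pow_involution {B : Type*} [Group B] {t : B} {k : ℕ} (ht : t ^ 2 ^ k = 1)
    (h1 : t ≠ 1) : ∃ j : ℕ, t ^ j * t ^ j = 1 ∧ t ^ j ≠ 1 := by
  induction k with
  | zero => exact absurd (by simpa using ht) h1
  | succ k ih =>
    by_cases h : t ^ 2 ^ k = 1
    · exact ih h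
    · exact ⟨2 ^ k, by rw [← pow_add, ← two_mul, ← pow_succ']; exact ht, h⟩

variable {G P L : Type*} [Group G] [MulAction G P] [MulAction G L] [Membership P L]
  [IsCollAction G P L] [ProjectivePlane P L] [Finite P] [Finite L] [FaithfulSMul G P]

variable (L) in
include L in
/-- An involution of a plane fixes at least two points. -/
theorem involution_two_fixed {t : G} (ht : t * t = 1) :
    ∃ c d : P, c ≠ d ∧ t • c = c ∧ t • d = d := by
  rcases involution_cases (P := P) (L := L) ht with ⟨c, l, h⟩ | ⟨a, b, c, d, hq⟩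
  · obtain ⟨x, hx, -, -⟩ := exists_third_point l c c
    obtain ⟨y, hy, hyx, -⟩ := exists_third_point l x x
    exact ⟨x, y, hyx.symm, h.1 x hx, h.1 y hy⟩
  · exact ⟨a.1, b.1, hq.1.ne₁₂, a.2 t (Subgroup.mem_zpowers t), b.2 t (Subgroup.mem_zpowers t)⟩

/-- A subgroup fixing a quadrangle fixes a quadrilateral. -/
theorem FixesQuad.dual {X : Subgroup G} (h : FixesQuad L X P) :
    FixesQuad (Configuration.Dual P) X (Configuration.Dual L) := by
  obtain ⟨a, b, c, d, habc, habd, hacd, hbcd⟩ := h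
  obtain ⟨l₁, h₁⟩ := exists_line_through L a.1 b.1
  obtain ⟨l₂, h₂⟩ := exists_line_through L b.1 c.1
  obtain ⟨l₃, h₃⟩ := exists_line_through L c.1 d.1
  obtain ⟨l₄, h₄⟩ := exists_line_through L d.1 a.1
  have hfix : ∀ {p q : FixP X P} {l : L}, p.1 ≠ q.1 → p.1 ∈ l → q.1 ∈ l → ∀ x ∈ X, x • l = l :=
    fun {p q _} hne hp hq x hx => fixed_line_of_points hne hp hq (p.2 x hx) (q.2 x hx)
  have n12 : l₁ ≠ l₂ := fun e => habc l₁ ⟨h₁.1, h₁.2, e.symm ▸ h₂.2⟩
  have n14 : l₁ ≠ l₄ := fun e => habd l₁ ⟨h₁.1, h₁.2, e.symm ▸ h₄.1⟩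
  have n34 : l₃ ≠ l₄ := fun e => hacd l₃ ⟨e.symm ▸ h₄.2, h₃.1, h₃.2⟩
  refine ⟨(⟨l₁, hfix habc.ne₁₂ h₁.1 h₁.2⟩ : FixP X (Configuration.Dual L)),
    ⟨l₂, hfix habc.ne₂₃ h₂.1 h₂.2⟩, ⟨l₃, hfix hacd.ne₂₃ h₃.1 h₃.2⟩,
    ⟨l₄, hfix hacd.ne₁₃.symm h₄.1 h₄.2⟩, ?_, ?_, ?_, ?_⟩
  · intro (z : P) hz
    have e : z = b.1 := point_unique n12 hz.1 hz.2.1 h₁.2 h₂.1
    exact hbcd l₃ ⟨e ▸ hz.2.2, h₃.1, h₃.2⟩
  · intro (z : P) hz
    have e : z = b.1 := point_unique n12 hz.1 hz.2.1 h₁.2 h₂.1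
    exact habd l₄ ⟨h₄.2, e ▸ hz.2.2, h₄.1⟩
  · intro (z : P) hz
    have e : z = a.1 := point_unique n14 hz.1 hz.2.2 h₁.1 h₄.2
    exact hacd l₃ ⟨e ▸ hz.2.1, h₃.1, h₃.2⟩
  · intro (z : P) hz
    have e : z = d.1 := point_unique n34 hz.2.1 hz.2.2 h₃.2 h₄.1
    exact hbcd l₂ ⟨h₂.1, h₂.2, e ▸ hz.1⟩

variable [Finite G]

/-- In a two-transitive group a maximal `2`-subgroup fixing two points fixes no quadrangle. -/
theorem pairSylow_no_quad (h2 : TwoTrans G P) {X : Subgroup G} {a b : P}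
    (hX : PairSylow 2 X a b) (hab : a ≠ b) : ¬ FixesQuad L X P := by
  intro hQ
  haveI : Fact (Nat.Prime 2) := ⟨Nat.prime_two⟩
  letI := fixPlane hQ
  have hfa : ∀ x ∈ X, x • a = a := fun x hx => (mem_pairStab.1 (hX.1 hx)).1
  have hfb : ∀ x ∈ X, x • b = b := fun x hx => (mem_pairStab.1 (hX.1 hx)).2
  obtain ⟨⟨g, hg, hga, hgb⟩, -⟩ := witt h2 hX hab hab.symm hfb hfa
  set f := toFixColl (P := P) (L := L) X with hf
  let n : Subgroup.normalizer (X : Set G) := ⟨g, hg⟩
  let A : FixP X P := ⟨a, hfa⟩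
  let B : FixP X P := ⟨b, hfb⟩
  have hA : f n • A = B := Subtype.ext hga
  have hB : f n • B = A := Subtype.ext hgb
  have hev : ∀ j : ℕ, f n ^ (2 * j) • A = A := by
    intro j
    induction j with
    | zero => rw [mul_zero, pow_zero, one_smul]
    | succ j ih => rw [show 2 * (j + 1) = 2 * j + 2 by ring, pow_add, mul_smul, pow_two, mul_smul,
        hA, hB, ih]
  obtain ⟨i, hi⟩ : Even (orderOf (f n)) := by
    rcases Nat.even_or_odd (orderOf (f n)) with h | ⟨j, hj⟩
    · exact h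
    · exfalso
      have e : f n ^ (2 * j + 1) • A = A := by rw [← hj, pow_orderOf_eq_one, one_smul]
      rw [pow_succ', mul_smul, hev, hA] at e
      exact hab (congrArg Subtype.val e).symm
  have hopos : 0 < orderOf (f n) := orderOf_pos _
  have ht : f (n ^ i) * f (n ^ i) = 1 := by rw [map_pow, ← pow_add, ← hi, pow_orderOf_eq_one]
  have ht1 : f (n ^ i) ≠ 1 := by
    rw [map_pow]
    intro e
    have := Nat.le_of_dvd (by omega) (orderOf_dvd_of_pow_eq_one e)
    omega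
  obtain ⟨g', hg'f, hg'2, -⟩ := lift_involution f (n ^ i) ht
  obtain ⟨C, D, hCD, hC, hD⟩ :=
    involution_two_fixed (P := FixP X P) (FixL X L) ht
  obtain ⟨-, hX'⟩ := witt h2 hX hab (c := C.1) (d := D.1) (fun e => hCD (Subtype.ext e)) C.2 D.2
  set Y := X ⊔ (Subgroup.zpowers g').map (Subgroup.normalizer (X : Set G)).subtype
  have hY2 : IsPGroup 2 Y :=
    hX.2.1.to_sup_of_normal_left' (hg'2.map _) (Subgroup.map_subtype_le _)
  have hgpair : (g' : G) ∈ pairStab C.1 D.1 :=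
    mem_pairStab.2 ⟨congrArg Subtype.val (hg'f ▸ hC : f g' • C = C),
      congrArg Subtype.val (hg'f ▸ hD : f g' • D = D)⟩
  have hYs : Y ≤ pairStab C.1 D.1 := by
    refine sup_le hX'.1 ?_
    rw [MonoidHom.map_zpowers, Subgroup.zpowers_le]
    exact hgpair
  have hYX := hX'.2.2 Y hY2 hYs le_sup_left
  have hmem : (g' : G) ∈ X :=
    hYX.le (Subgroup.mem_sup_right ⟨g', Subgroup.mem_zpowers g', rfl⟩)
  apply ht1
  rw [← hg'f]
  exact eq_one_of_points (P := FixP X P) fun p => Subtype.ext (p.2 _ hmem)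

/-- A maximal `2`-subgroup fixing a quadrangle. -/
def MaxQuad (P L : Type*) [Membership P L] [MulAction G P] (W : Subgroup G) : Prop :=
  FixesQuad L W P ∧ IsPGroup 2 W ∧
    ∀ Y : Subgroup G, IsPGroup 2 Y → FixesQuad L Y P → W ≤ Y → Y = W

/-- An element of the normaliser fixing a quadrangle of the fixed plane lies in `W`. -/
theorem MaxQuad.mem {W : Subgroup G} (hW : MaxQuad P L W) {g : Subgroup.normalizer (W : Set G)}
    (hg : IsPGroup 2 (Subgroup.zpowers g)) {a b c d : FixP W P} (hq : Quad L a.1 b.1 c.1 d.1)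
    (ha : (g : G) • a.1 = a.1) (hb : (g : G) • b.1 = b.1) (hc : (g : G) • c.1 = c.1)
    (hd : (g : G) • d.1 = d.1) : (g : G) ∈ W := by
  haveI : Fact (Nat.Prime 2) := ⟨Nat.prime_two⟩
  set Y := W ⊔ (Subgroup.zpowers g).map (Subgroup.normalizer (W : Set G)).subtype
  have hY2 : IsPGroup 2 Y :=
    hW.2.1.to_sup_of_normal_left' (hg.map _) (Subgroup.map_subtype_le _)
  have hfix : ∀ p : FixP W P, (g : G) • p.1 = p.1 → ∀ y ∈ Y, y • p.1 = p.1 := by
    intro p hp y hy
    have hle : Y ≤ MulAction.stabilizer G p.1 := by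
      refine sup_le (fun w hw => p.2 w hw) ?_
      rw [MonoidHom.map_zpowers, Subgroup.zpowers_le]
      exact hp
    exact hle hy
  have := hW.2.2 Y hY2 ⟨⟨a.1, hfix a ha⟩, ⟨b.1, hfix b hb⟩, ⟨c.1, hfix c hc⟩, ⟨d.1, hfix d hd⟩, hq⟩
    le_sup_left
  exact this.le (Subgroup.mem_sup_right ⟨g, Subgroup.mem_zpowers g, rfl⟩)

/-- A larger `2`-group fixing no quadrangle induces an involution on the fixed plane. -/
theorem MaxQuad.exists_involution {W X : Subgroup G} (hW : MaxQuad P L W) (hX : IsPGroup 2 X)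
    (hWX : W ≤ X) (hXQ : ¬ FixesQuad L X P) :
    letI := fixPlane hW.1
    ∃ x : Subgroup.normalizer (W : Set G), (x : G) ∈ X ∧
      toFixColl (P := P) (L := L) W x * toFixColl (P := P) (L := L) W x = 1 ∧
      toFixColl (P := P) (L := L) W x ≠ 1 := by
  haveI : Fact (Nat.Prime 2) := ⟨Nat.prime_two⟩
  letI := fixPlane hW.1
  haveI : Group.IsNilpotent X := hX.isNilpotent
  have hne : W.subgroupOf X < ⊤ := by
    refine lt_of_le_of_ne le_top fun e => hXQ ?_
    rw [Subgroup.subgroupOf_eq_top] at e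
    exact hW.1.mono e
  obtain ⟨y, hy, hyW⟩ := SetLike.exists_of_lt (Group.normalizerCondition_of_isNilpotent _ hne)
  rw [Subgroup.mem_subgroupOf] at hyW
  have hyn : (y : G) ∈ Subgroup.normalizer (W : Set G) := by
    rw [Subgroup.mem_normalizer_iff] at hy ⊢
    intro h
    constructor
    · intro hh
      have := (hy ⟨h, hWX hh⟩).1 (Subgroup.mem_subgroupOf.2 hh)
      simpa [Subgroup.mem_subgroupOf] using this
    · intro hh
      have hX' : h ∈ X := by
        have := X.mul_mem (X.mul_mem (X.inv_mem y.2) (hWX hh)) y.2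
        simpa [mul_assoc] using this
      have := (hy ⟨h, hX'⟩).2 (by simpa [Subgroup.mem_subgroupOf] using hh)
      simpa [Subgroup.mem_subgroupOf] using this
  let x : Subgroup.normalizer (W : Set G) := ⟨y, hyn⟩
  obtain ⟨k, hk⟩ := hX y
  have hxk : x ^ 2 ^ k = 1 := by
    apply Subtype.ext
    show ((x ^ 2 ^ k : Subgroup.normalizer (W : Set G)) : G) = 1
    rw [SubmonoidClass.coe_pow]
    simpa using congrArg Subtype.val hk
  have hx1 : toFixColl (P := P) (L := L) W x ≠ 1 := by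
    intro e
    obtain ⟨a, b, c, d, hq⟩ := hW.1
    have hp : ∀ p : FixP W P, (x : G) • p.1 = p.1 := fun p => by
      rw [← toFixColl_point (L := L) x p, e, one_smul]
    have hpx : IsPGroup 2 (Subgroup.zpowers x) := by
      obtain ⟨j, -, hj⟩ := (Nat.dvd_prime_pow Nat.prime_two).1 (orderOf_dvd_of_pow_eq_one hxk)
      exact IsPGroup.of_card (n := j) (by rw [Nat.card_zpowers, hj])
    exact hyW (hW.mem hpx hq (hp a) (hp b) (hp c) (hp d))
  obtain ⟨j, hj, hj1⟩ := exists_pow_involution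
    (t := toFixColl (P := P) (L := L) W x) (k := k) (by rw [← map_pow, hxk, map_one]) hx1
  refine ⟨x ^ j, ?_, by rw [map_pow]; exact hj, by rw [map_pow]; exact hj1⟩
  rw [SubmonoidClass.coe_pow]
  exact X.pow_mem y.2 j

/-- All involutions Baer and odd order: the order is a power of a prime `q` and some element of
order `q` fixes two points. -/
theorem odd_prime_power (h2 : TwoTrans G P) (hodd : Odd (ord P L)) {t₀ : G} (ht₀ : t₀ * t₀ = 1)
    (hQ₀ : FixesQuad L (Subgroup.zpowers t₀) P) :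
    ∃ q a, q.Prime ∧ Odd q ∧ ord P L = q ^ a ∧
      ∃ (g : G) (x y : P), x ≠ y ∧ orderOf g = q ∧ g • x = x ∧ g • y = y := by
  haveI : Fact (Nat.Prime 2) := ⟨Nat.prime_two⟩
  have : Finite (Subgroup G) := Finite.of_injective (fun R => (R : Set G)) SetLike.coe_injective
  have h20 : IsPGroup 2 (Subgroup.zpowers t₀) := by
    obtain ⟨j, -, hj⟩ := (Nat.dvd_prime_pow Nat.prime_two).1
      (orderOf_dvd_of_pow_eq_one (show t₀ ^ 2 ^ 1 = 1 by rw [pow_one, pow_two, ht₀]))
    exact IsPGroup.of_card (n := j) (by rw [Nat.card_zpowers, hj])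
  obtain ⟨W, hWmax⟩ := (Set.toFinite {Y : Subgroup G | FixesQuad L Y P ∧ IsPGroup 2 Y})
    |>.exists_maximal ⟨_, hQ₀, h20⟩
  have hW : MaxQuad P L W := ⟨hWmax.1.1, hWmax.1.2,
    fun Y hY hYQ hle => le_antisymm (hWmax.2 ⟨hYQ, hY⟩ hle) hle⟩
  letI := fixPlane hW.1
  obtain ⟨e, he⟩ := two_group_order W hW.2.1 hW.1
  set r := ord (FixP W P) (FixL W L)
  have he' : ord P L = r ^ 2 ^ e := he
  have hr : Odd r := by
    rw [he'] at hodd
    exact hodd.of_dvd_nat (dvd_pow_self r (by positivity))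
  set f := toFixColl (P := P) (L := L) W
  have hinv : ∀ t : f.range, t * t = 1 → t ≠ 1 →
      ∃ (c : FixP W P) (l : FixL W L), IsPersp t c l := by
    rintro ⟨_, g, rfl⟩ ht ht1
    rcases involution_cases (G := f.range) (P := FixP W P) (L := FixL W L) ht with h | h
    · exact h
    exfalso
    obtain ⟨g', hg', hg'2, -⟩ := lift_involution f g (congrArg Subtype.val ht)
    obtain ⟨a, b, c, d, hq⟩ := h
    have hfix : ∀ p : FixP (Subgroup.zpowers (⟨f g, g, rfl⟩ : f.range)) (FixP W P),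
        (g' : G) • p.1.1 = p.1.1 := by
      intro p
      rw [← toFixColl_point (L := L) g' p.1, show toFixColl (P := P) (L := L) W g' = f g from hg']
      exact congrArg Subtype.val (p.2 _ (Subgroup.mem_zpowers _))
    have hnc : ∀ {u v w : FixP W P}, NonColl (FixL W L) u v w → u ≠ v →
        NonColl L u.1 v.1 w.1 := fun {u v w} h hne m hm =>
      h ⟨m, fun x hx => fixed_line_of_points (fun e => hne (Subtype.ext e)) hm.1 hm.2.1
        (u.2 x hx) (v.2 x hx)⟩ hm
    have hq' : Quad L a.1.1 b.1.1 c.1.1 d.1.1 :=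
      ⟨hnc hq.1 hq.1.ne₁₂, hnc hq.2.1 hq.1.ne₁₂, hnc hq.2.2.1 hq.2.2.1.ne₁₂,
        hnc hq.2.2.2 hq.2.2.2.ne₁₂⟩
    have hmem := hW.mem hg'2 hq' (hfix a) (hfix b) (hfix c) (hfix d)
    apply ht1
    refine Subtype.ext ?_
    show f g = 1
    rw [← hg']
    exact eq_one_of_points (P := FixP W P) fun p => Subtype.ext (p.2 _ hmem)
  have hpts : ∀ a b : FixP W P, a ≠ b →
      ∃ t : f.range, t * t = 1 ∧ t ≠ 1 ∧ t • a = a ∧ t • b = b := by
    intro a b hab
    have hab' : a.1 ≠ b.1 := fun e => hab (Subtype.ext e)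
    obtain ⟨X, hX, hWX⟩ := exists_pairSylow 2 hW.2.1 (a := a.1) (b := b.1)
      (fun w hw => mem_pairStab.2 ⟨a.2 w hw, b.2 w hw⟩)
    obtain ⟨x, hxX, hx2, hx1⟩ :=
      hW.exists_involution hX.2.1 hWX (pairSylow_no_quad h2 hX hab')
    exact ⟨⟨f x, x, rfl⟩, Subtype.ext hx2, fun e => hx1 (congrArg Subtype.val e),
      Subtype.ext (mem_pairStab.1 (hX.1 hxX)).1, Subtype.ext (mem_pairStab.1 (hX.1 hxX)).2⟩
  have hlines : ∀ a b : FixL W L, a ≠ b →
      ∃ t : f.range, t * t = 1 ∧ t ≠ 1 ∧ t • a = a ∧ t • b = b := by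
    intro a b hab
    have hab' : (show Configuration.Dual L from a.1) ≠ b.1 := fun e => hab (Subtype.ext e)
    obtain ⟨X, hX, hWX⟩ := exists_pairSylow 2 hW.2.1 (a := (show Configuration.Dual L from a.1))
      (b := (show Configuration.Dual L from b.1))
      (fun w hw => mem_pairStab.2 ⟨a.2 w hw, b.2 w hw⟩)
    have hno := pairSylow_no_quad (P := Configuration.Dual L) (L := Configuration.Dual P)
      (twoTrans_lines h2) hX hab'
    obtain ⟨x, hxX, hx2, hx1⟩ := hW.exists_involution hX.2.1 hWX (fun h => hno h.dual)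
    exact ⟨⟨f x, x, rfl⟩, Subtype.ext hx2, fun e => hx1 (congrArg Subtype.val e),
      Subtype.ext (mem_pairStab.1 (hX.1 hxX)).1, Subtype.ext (mem_pairStab.1 (hX.1 hxX)).2⟩
  obtain ⟨q, k, hq, hk, hrq, ε, c, l, hε, hεo⟩ :=
    homology_prime_power (G := f.range) (P := FixP W P) (L := FixL W L) hr hinv hpts hlines
  have hrq' : r = q ^ k := hrq
  have hqodd : Odd q := (hrq' ▸ hr).of_dvd_nat (dvd_pow_self q hk.ne')
  refine ⟨q, k * 2 ^ e, hq, hqodd, by rw [he', hrq', pow_mul], ?_⟩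
  obtain ⟨⟨_, g, rfl⟩, hεo⟩ : ∃ s : f.range, s = ε := ⟨ε, rfl⟩
  subst hεo
  obtain ⟨m, hm⟩ : q ∣ orderOf g := by
    rw [← hεo]
    refine orderOf_dvd_of_pow_eq_one (Subtype.ext ?_)
    show f g ^ orderOf g = 1
    rw [← map_pow, pow_orderOf_eq_one, map_one]
  have hg0 := orderOf_pos g
  have hm0 : m ≠ 0 := by rintro rfl; omega
  have ho : orderOf (g ^ m) = q := by
    rw [orderOf_pow' _ hm0, hm, Nat.gcd_eq_right (dvd_mul_left m q), Nat.mul_div_left q (by omega)]
  obtain ⟨x, hx, -, -⟩ := exists_third_point l c c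
  obtain ⟨y, hy, hyx, -⟩ := exists_third_point l x x
  have hfix : ∀ p : FixP W P, p ∈ l → ((g ^ m : Subgroup.normalizer (W : Set G)) : G) • p.1 = p.1 := by
    intro p hp
    have h1 : (g : G) • p.1 = p.1 := congrArg Subtype.val (hε.2.1 p hp)
    exact (MulAction.stabilizer G p.1).pow_mem h1 m
  exact ⟨((g ^ m : Subgroup.normalizer (W : Set G)) : G), x.1, y.1,
    fun e => hyx (Subtype.ext e).symm, by rw [Subgroup.orderOf_coe, ho], hfix x hx, hfix y hy⟩

end CfsgLib.OstromWagner
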