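import Cfsg.Agent.Lib.OstromWagner.Plane
import Mathlib.GroupTheory.GroupAction.Basic

/-!
# Groups of collineations: axial and central collineations, the fixed configuration
-/

set_option autoImplicit false
set_option linter.unusedSectionVars false

namespace CfsgLib.OstromWagner

open Configuration

/-- A group acting on points and lines preserving incidence. -/
class IsCollAction (G P L : Type*) [Group G] [Membership P L] [MulAction G P] [MulAction G L] :
    Prop where
  smul_mem_smul : ∀ (g : G) (p : P) (l : L), g • p ∈ g • l ↔ p ∈ l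

export IsCollAction (smul_mem_smul)

instance {G P : Type*} [Group G] [i : MulAction G P] : MulAction G (Configuration.Dual P) := i

instance {G P L : Type*} [Group G] [Membership P L] [MulAction G P] [MulAction G L]
    [h : IsCollAction G P L] : IsCollAction G (Configuration.Dual L) (Configuration.Dual P) where
  smul_mem_smul g l p := h.smul_mem_smul g p l

instance {G P L : Type*} [Group G] [Membership P L] [MulAction G P] [MulAction G L]
    [h : IsCollAction G P L] (H : Subgroup G) : IsCollAction H P L where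
  smul_mem_smul g p l := h.smul_mem_smul (g : G) p l

variable {G P L : Type*} [Group G] [Membership P L] [MulAction G P] [MulAction G L]

variable (L) in
/-- `g` fixes every point of the line `l`. -/
def AxialAt (g : G) (l : L) : Prop := ∀ p : P, p ∈ l → g • p = p

variable (P) in
/-- `g` fixes every line through the point `c`. -/
def CentralAt (g : G) (c : P) : Prop := ∀ l : L, c ∈ l → g • l = l

/-- A perspectivity with given centre and axis. -/
def IsPersp (g : G) (c : P) (l : L) : Prop :=
  (∀ p : P, p ∈ l → g • p = p) ∧ ∀ m : L, c ∈ m → g • m = m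

/-- An elation: a perspectivity whose centre lies on its axis. -/
def IsElation (g : G) (c : P) (l : L) : Prop := c ∈ l ∧ IsPersp g c l

theorem IsPersp.dual {g : G} {c : P} {l : L} (h : IsPersp g c l) :
    IsPersp (P := Configuration.Dual L) (L := Configuration.Dual P) g l c := ⟨h.2, h.1⟩

variable [IsCollAction G P L]

theorem mem_smul_iff (g : G) (p : P) (l : L) : p ∈ g • l ↔ g⁻¹ • p ∈ l := by
  conv_lhs => rw [show p = g • g⁻¹ • p from (smul_inv_smul g p).symm]
  rw [smul_mem_smul]

theorem smul_mem_iff (g : G) (p : P) (l : L) : g • p ∈ l ↔ p ∈ g⁻¹ • l := by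
  rw [mem_smul_iff, inv_inv]

theorem smul_mem_of_fixed {g : G} {p : P} {l : L} (hl : g • l = l) (hp : p ∈ l) : g • p ∈ l := by
  rw [← hl, smul_mem_smul]; exact hp

theorem smul_line_mem {g : G} {p : P} {l : L} (hp : g • p = p) (h : p ∈ l) : p ∈ g • l := by
  rw [← hp, smul_mem_smul]; exact h

theorem nonColl_smul (g : G) {a b c : P} (h : NonColl L a b c) :
    NonColl L (g • a) (g • b) (g • c) := by
  intro l hl
  rw [smul_mem_iff, smul_mem_iff, smul_mem_iff] at hl
  exact h _ hl

theorem quad_smul (g : G) {a b c d : P} (h : Quad L a b c d) :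
    Quad L (g • a) (g • b) (g • c) (g • d) :=
  ⟨nonColl_smul g h.1, nonColl_smul g h.2.1, nonColl_smul g h.2.2.1, nonColl_smul g h.2.2.2⟩

variable [ProjectivePlane P L]

theorem fixed_line_of_points {g : G} {a b : P} {l : L} (h : a ≠ b) (ha : a ∈ l) (hb : b ∈ l)
    (fa : g • a = a) (fb : g • b = b) : g • l = l :=
  line_unique h (smul_line_mem fa ha) (smul_line_mem fb hb) ha hb

theorem fixed_point_of_lines {g : G} {l m : L} {a : P} (h : l ≠ m) (hl : a ∈ l) (hm : a ∈ m)
    (fl : g • l = l) (fm : g • m = m) : g • a = a :=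
  point_unique h (smul_mem_of_fixed fl hl) (smul_mem_of_fixed fm hm) hl hm

variable [Finite P] [Finite L]

theorem fixed_line_of_axial {g : G} {l : L} (h : ∀ p : P, p ∈ l → g • p = p) : g • l = l := by
  obtain ⟨a, ha, -, -⟩ := exists_third_point l (Classical.choose (exists_point_on P l l))
    (Classical.choose (exists_point_on P l l))
  obtain ⟨b, hb, hba, -⟩ := exists_third_point l a a
  exact fixed_line_of_points hba.symm ha hb (h a ha) (h b hb)

/-- A collineation with an axis has a centre. -/
theorem exists_centre {g : G} {l : L} (h : ∀ p : P, p ∈ l → g • p = p) :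
    ∃ c : P, IsPersp g c l := by
  have hl := fixed_line_of_axial h
  by_cases hoff : ∃ p : P, p ∉ l ∧ g • p = p
  · obtain ⟨p, hpl, hp⟩ := hoff
    refine ⟨p, h, fun m hm => ?_⟩
    obtain ⟨x, hxm, hxl⟩ := exists_point_on P m l
    exact fixed_line_of_points (fun e => hpl (by rw [e]; exact hxl)) hm hxm hp (h x hxl)
  push Not at hoff
  have hline : ∀ p : P, p ∉ l → ∀ m : L, p ∈ m → g • p ∈ m → g • m = m := by
    intro p hpl m hm hgm
    obtain ⟨x, hxm, hxl⟩ := exists_point_on P m l
    have hxg : x ≠ g • p := by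
      intro e
      apply hpl
      have : g • x = g • p := by rw [h x hxl, ← e]
      rw [← MulAction.injective g this]; exact hxl
    exact line_unique hxg (smul_line_mem (h x hxl) hxm) ((smul_mem_smul g p m).2 hm) hxm hgm
  -- every point off the axis lies on a fixed line
  have hex : ∀ p : P, p ∉ l → ∃ m : L, p ∈ m ∧ g • m = m := by
    intro p hp
    obtain ⟨m, hm1, hm2⟩ := exists_line_through L p (g • p)
    exact ⟨m, hm1, hline p hp m hm1 hm2⟩
  obtain ⟨p, hp, -⟩ := exists_off_two_lines (P := P) l l
  obtain ⟨m, hpm, hm⟩ := hex p hp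
  obtain ⟨c, hcm, hcl⟩ := exists_point_on P m l
  have hml : m ≠ l := fun e => hp (e ▸ hpm)
  refine ⟨c, h, fun k hk => ?_⟩
  rcases eq_or_ne k l with rfl | hkl
  · exact hl
  obtain ⟨q, hqk, hqc, -⟩ := exists_third_point k c c
  have hql : q ∉ l := fun e => hqc (point_unique hkl hqk e hk hcl)
  obtain ⟨m', hqm', hm'⟩ := hex q hql
  have hm'l : m' ≠ l := fun e => hql (e ▸ hqm')
  have hcm' : c ∈ m' := by
    rcases eq_or_ne m' m with rfl | hne
    · exact hcm
    · obtain ⟨y, hy1, hy2⟩ := exists_point_on P m' m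
      have hyfix := fixed_point_of_lines hne hy1 hy2 hm' hm
      have hyl : y ∈ l := by
        by_contra hy
        exact hoff y hy hyfix
      rw [point_unique hml hcm hcl hy2 hyl]; exact hy1
  rw [line_unique hqc hqk hk hqm' hcm']; exact hm'

variable [FaithfulSMul G P]

theorem eq_one_of_points {g : G} (h : ∀ p : P, g • p = p) : g = 1 :=
  eq_of_smul_eq_smul (α := P) fun p => by rw [h, one_smul]

theorem lines_of_points {g : G} (h : ∀ p : P, g • p = p) (l : L) : g • l = l := by
  rw [eq_one_of_points h, one_smul]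

variable (P) in
include P in
theorem eq_one_of_lines {g : G} (h : ∀ l : L, g • l = l) : g = 1 := by
  refine eq_one_of_points (P := P) fun p => ?_
  obtain ⟨l, hl⟩ := exists_line_through L p p
  obtain ⟨m, hm, hml, -⟩ := exists_third_line p l l
  exact fixed_point_of_lines hml.symm hl.1 hm (h l) (h m)

instance : FaithfulSMul G (Configuration.Dual L) where
  eq_of_smul_eq_smul {g₁ g₂} h := by
    have := eq_one_of_lines P (L := L) (g := g₁⁻¹ * g₂) fun l => by
      rw [mul_smul, inv_smul_eq_iff]; exact (h l).symm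
    exact inv_mul_eq_one.1 this

theorem exists_axis {g : G} {c : P} (h : ∀ m : L, c ∈ m → g • m = m) : ∃ l : L, IsPersp g c l := by
  obtain ⟨l, hl⟩ := exists_centre (P := Configuration.Dual L) (L := Configuration.Dual P) h
  exact ⟨l, hl.2, hl.1⟩

/-- Two fixed points off the axis force the identity. -/
theorem eq_one_of_axial {g : G} {l : L} (h : ∀ p : P, p ∈ l → g • p = p) {a b : P} (ha : a ∉ l)
    (hb : b ∉ l) (hab : a ≠ b) (fa : g • a = a) (fb : g • b = b) : g = 1 := by
  have hpencil : ∀ z : P, z ∉ l → g • z = z → ∀ m : L, z ∈ m → g • m = m := by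
    intro z hz fz m hm
    obtain ⟨x, hxm, hxl⟩ := exists_point_on P m l
    exact fixed_line_of_points (fun e => hz (by rw [e]; exact hxl)) hm hxm fz (h x hxl)
  obtain ⟨k, hak, hbk⟩ := exists_line_through L a b
  have hoffk : ∀ x : P, x ∉ k → g • x = x := by
    intro x hx
    obtain ⟨m₁, hxm₁, ham₁⟩ := exists_line_through L x a
    obtain ⟨m₂, hxm₂, hbm₂⟩ := exists_line_through L x b
    refine fixed_point_of_lines (fun e => hx ?_) hxm₁ hxm₂ (hpencil a ha fa _ ham₁)
      (hpencil b hb fb _ hbm₂)
    rw [line_unique hab hak hbk ham₁ (e.symm ▸ hbm₂)]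
    exact hxm₁
  refine eq_one_of_lines P (L := L) fun m => ?_
  rcases eq_or_ne m k with rfl | hmk
  · exact fixed_line_of_points hab hak hbk fa fb
  obtain ⟨z, hzm, hzk⟩ := exists_point_on P m k
  obtain ⟨x, hxm, hxz, -⟩ := exists_third_point m z z
  obtain ⟨y, hym, hyz, hyx⟩ := exists_third_point m z x
  exact fixed_line_of_points hyx.symm hxm hym
    (hoffk x fun e => hxz (point_unique hmk hxm e hzm hzk))
    (hoffk y fun e => hyz (point_unique hmk hym e hzm hzk))

/-- A perspectivity fixing a point off the axis other than the centre is trivial. -/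
theorem IsPersp.eq_one {g : G} {c : P} {l : L} (h : IsPersp g c l) {p : P} (hp : p ∉ l)
    (hpc : p ≠ c) (fp : g • p = p) : g = 1 := by
  obtain ⟨m, hm⟩ := exists_line_through L p c
  by_cases hcl : c ∈ l
  · obtain ⟨k, hk, hkm, -⟩ := exists_third_line p m m
    obtain ⟨x, hxk, hxl⟩ := exists_point_on P k l
    have fk : g • k = k :=
      fixed_line_of_points (fun e => hp (by rw [e]; exact hxl)) hk hxk fp (h.1 x hxl)
    obtain ⟨y, hyk, hyp, hyx⟩ := exists_third_point k p x
    obtain ⟨k', hyk', hck'⟩ := exists_line_through L y c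
    have hne : k ≠ k' := by
      intro e
      exact hkm (line_unique hpc hk (e.symm ▸ hck') hm.1 hm.2)
    have fy : g • y = y := fixed_point_of_lines hne hyk hyk' fk (h.2 k' hck')
    have hkl : k ≠ l := fun e => hp (e ▸ hk)
    exact eq_one_of_axial h.1 hp (fun e => hyx (point_unique hkl hyk e hxk hxl)) hyp.symm fp fy
  · have fc : g • c = c := by
      obtain ⟨m₁, hm₁, -⟩ := exists_third_line c m m
      obtain ⟨m₂, hm₂, hne, -⟩ := exists_third_line c m₁ m₁
      exact fixed_point_of_lines hne hm₂ hm₁ (h.2 m₂ hm₂) (h.2 m₁ hm₁)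
    exact eq_one_of_axial h.1 hp hcl hpc fp fc

theorem IsPersp.centre_unique {g : G} {c c' : P} {l l' : L} (h : IsPersp g c l)
    (h' : IsPersp g c' l') (hg : g ≠ 1) : c = c' := by
  by_contra hcc
  obtain ⟨k, hk⟩ := exists_line_through L c c'
  obtain ⟨x, hxl, hxk⟩ := exists_off_two_lines (P := P) l k
  obtain ⟨m₁, hm₁⟩ := exists_line_through L x c
  obtain ⟨m₂, hm₂⟩ := exists_line_through L x c'
  have hne : m₁ ≠ m₂ := by
    intro e
    exact hxk (line_unique hcc hm₁.2 (e.symm ▸ hm₂.2) hk.1 hk.2 ▸ hm₁.1)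
  exact hg (h.eq_one hxl (fun e => hxk (e ▸ hk.1))
    (fixed_point_of_lines hne hm₁.1 hm₂.1 (h.2 _ hm₁.2) (h'.2 _ hm₂.2)))

theorem IsPersp.axis_unique {g : G} {c c' : P} {l l' : L} (h : IsPersp g c l)
    (h' : IsPersp g c' l') (hg : g ≠ 1) : l = l' :=
  IsPersp.centre_unique (P := Configuration.Dual L) (L := Configuration.Dual P) h.dual h'.dual hg

theorem IsPersp.conj {g : G} {c : P} {l : L} (h : IsPersp g c l) (k : G) :
    IsPersp (k * g * k⁻¹) (k • c) (k • l) := by
  constructor
  · intro p hp
    rw [mem_smul_iff] at hp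
    rw [mul_smul, mul_smul, h.1 _ hp, smul_inv_smul]
  · intro m hm
    rw [smul_mem_iff] at hm
    rw [mul_smul, mul_smul, h.2 _ hm, smul_inv_smul]

theorem IsPersp.smul_centre {g : G} {c : P} {l : L} (h : IsPersp g c l) : g • c = c := by
  obtain ⟨m₁, hm₁⟩ := exists_line_through L c c
  obtain ⟨m₂, hm₂, hne, -⟩ := exists_third_line c m₁ m₁
  exact fixed_point_of_lines hne hm₂ hm₁.1 (h.2 m₂ hm₂) (h.2 m₁ hm₁.1)

theorem IsPersp.smul_axis {g : G} {c : P} {l : L} (h : IsPersp g c l) : g • l = l :=
  fixed_line_of_axial h.1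

end CfsgLib.OstromWagner
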