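import Mathlib.RingTheory.Trace.Basic
import Mathlib.LinearAlgebra.BilinearForm.Properties
import Mathlib.FieldTheory.Finite.GaloisField
import Mathlib.FieldTheory.Galois.Basic

/-!
# Semilinear components of a finite ring over a commutative subfield

`K` is a finite field embedded in a ring `A`. For an automorphism `σ` of `K` the component
`InC ι σ` consists of the `x` with `x k = σ(k) x`; `pr` projects on it by means of trace-dual bases.
-/

set_option autoImplicit false
set_option linter.unusedSectionVars false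

namespace CfsgLib.OstromWagner

open Finset

variable {p : ℕ} [hp : Fact p.Prime] {K A : Type*} [Field K] [Finite K] [Algebra (ZMod p) K]
  [Ring A] (ι : K →+* A)

/-- The `σ`-semilinear component. -/
def InC (σ : K ≃ₐ[ZMod p] K) (x : A) : Prop := ∀ k, x * ι k = ι (σ k) * x

variable {ι}

theorem InC.mul {σ τ : K ≃ₐ[ZMod p] K} {x y : A} (hx : InC ι σ x) (hy : InC ι τ y) :
    InC ι (σ * τ) (x * y) := by
  intro k
  rw [mul_assoc, hy k, ← mul_assoc, hx (τ k), mul_assoc, AlgEquiv.mul_apply]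

theorem InC.coe (k : K) : InC ι (1 : K ≃ₐ[ZMod p] K) (ι k) := by
  intro l
  rw [AlgEquiv.one_apply, ← map_mul, ← map_mul, mul_comm]

theorem InC.one : InC ι (1 : K ≃ₐ[ZMod p] K) (1 : A) := by
  simpa using InC.coe (ι := ι) (p := p) 1

theorem InC.zero (σ : K ≃ₐ[ZMod p] K) : InC ι σ (0 : A) := by
  intro k
  simp

theorem InC.add {σ : K ≃ₐ[ZMod p] K} {x y : A} (hx : InC ι σ x) (hy : InC ι σ y) :
    InC ι σ (x + y) := by
  intro k
  rw [add_mul, mul_add, hx k, hy k]

theorem InC.neg {σ : K ≃ₐ[ZMod p] K} {x : A} (hx : InC ι σ x) : InC ι σ (-x) := by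
  intro k
  rw [neg_mul, mul_neg, hx k]

theorem InC.sub {σ : K ≃ₐ[ZMod p] K} {x y : A} (hx : InC ι σ x) (hy : InC ι σ y) :
    InC ι σ (x - y) := by
  rw [sub_eq_add_neg]; exact hx.add hy.neg

theorem InC.coe_mul {σ : K ≃ₐ[ZMod p] K} {x : A} (k : K) (hx : InC ι σ x) :
    InC ι σ (ι k * x) := by
  simpa using (InC.coe (ι := ι) (p := p) k).mul hx

theorem InC.mul_coe {σ : K ≃ₐ[ZMod p] K} {x : A} (hx : InC ι σ x) (k : K) :
    InC ι σ (x * ι k) := by
  simpa using hx.mul (InC.coe (ι := ι) (p := p) k)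

theorem InC.pow {σ : K ≃ₐ[ZMod p] K} {x : A} (hx : InC ι σ x) (n : ℕ) :
    InC ι (σ ^ n) (x ^ n) := by
  induction n with
  | zero => simpa using InC.one
  | succ n ih => rw [pow_succ, pow_succ]; exact ih.mul hx

variable (p K) in
/-- An index basis. -/
noncomputable def bas : Module.Basis (Fin (Module.finrank (ZMod p) K)) (ZMod p) K :=
  Module.finBasis (ZMod p) K

variable (p K) in
/-- The trace-dual basis. -/
noncomputable def dua : Module.Basis (Fin (Module.finrank (ZMod p) K)) (ZMod p) K :=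
  (Algebra.traceForm (ZMod p) K).dualBasis (traceForm_nondegenerate (ZMod p) K) (bas p K)

theorem trace_dua_bas (i j : Fin (Module.finrank (ZMod p) K)) :
    Algebra.trace (ZMod p) K (dua p K i * bas p K j) = if j = i then 1 else 0 :=
  LinearMap.BilinForm.apply_dualBasis_left (traceForm_nondegenerate (ZMod p) K) (bas p K) i j

theorem bas_repr (x : K) (j : Fin (Module.finrank (ZMod p) K)) :
    (bas p K).repr x j = Algebra.trace (ZMod p) K (dua p K j * x) := by
  have h : Algebra.trace (ZMod p) K (dua p K j * ∑ i, (bas p K).repr x i • bas p K i)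
      = (bas p K).repr x j := by
    rw [mul_sum, map_sum]
    simp [trace_dua_bas]
  rw [(bas p K).sum_repr x] at h
  exact h.symm

theorem dua_repr (x : K) (j : Fin (Module.finrank (ZMod p) K)) :
    (dua p K).repr x j = Algebra.trace (ZMod p) K (x * bas p K j) :=
  LinearMap.BilinForm.dualBasis_repr_apply (traceForm_nondegenerate (ZMod p) K) (bas p K) x j

theorem sum_dual (σ τ : K ≃ₐ[ZMod p] K) [Decidable (σ = τ)] :
    ∑ j, σ (dua p K j) * τ (bas p K j) = if σ = τ then 1 else 0 := by
  classical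
  let M : Matrix (Fin (Module.finrank (ZMod p) K)) (K ≃ₐ[ZMod p] K) K :=
    Matrix.of fun i g => g (dua p K i)
  let N : Matrix (K ≃ₐ[ZMod p] K) (Fin (Module.finrank (ZMod p) K)) K :=
    Matrix.of fun g j => g (bas p K j)
  have h1 : M * N = 1 := by
    refine Matrix.ext fun i j => ?_
    rw [Matrix.mul_apply, Matrix.one_apply]
    simp only [M, N, Matrix.of_apply, ← map_mul]
    rw [← trace_eq_sum_automorphisms (K := ZMod p), trace_dua_bas]
    by_cases h : i = j
    · simp [h]
    · simp [h, Ne.symm h]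
  have hcard : Fintype.card (Fin (Module.finrank (ZMod p) K)) = Fintype.card (K ≃ₐ[ZMod p] K) := by
    rw [Fintype.card_fin, ← Nat.card_eq_fintype_card, IsGalois.card_aut_eq_finrank]
  have h2 : N * M = 1 := (Matrix.mul_eq_one_comm_of_equiv (Fintype.equivOfCardEq hcard)).1 h1
  have h3 := congrFun (congrFun h2 τ) σ
  simp only [M, N, Matrix.mul_apply, Matrix.of_apply, Matrix.one_apply] at h3
  rw [sum_congr rfl fun j _ => mul_comm (σ (dua p K j)) (τ (bas p K j)), h3]
  by_cases h : σ = τ
  · simp [h]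
  · simp [h, Ne.symm h]

theorem coe_algebraMap (c : ZMod p) : ι (algebraMap (ZMod p) K c) = (c.val : A) := by
  rw [← map_natCast ι c.val, ← map_natCast (algebraMap (ZMod p) K) c.val, ZMod.natCast_zmod_val]

theorem coe_smul_mul (c : ZMod p) (k : K) : ι (c • k) = (c.val : A) * ι k := by
  rw [Algebra.smul_def, map_mul, coe_algebraMap]

variable (ι)

/-- Projection on the `σ`-component. -/
noncomputable def pr (σ : K ≃ₐ[ZMod p] K) (x : A) : A :=
  ∑ j, ι (σ (dua p K j)) * x * ι (bas p K j)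

variable {ι}

theorem pr_add (σ : K ≃ₐ[ZMod p] K) (x y : A) : pr ι σ (x + y) = pr ι σ x + pr ι σ y := by
  simp [pr, mul_add, add_mul, sum_add_distrib]

theorem pr_zero (σ : K ≃ₐ[ZMod p] K) : pr ι σ (0 : A) = 0 := by simp [pr]

theorem pr_sub (σ : K ≃ₐ[ZMod p] K) (x y : A) : pr ι σ (x - y) = pr ι σ x - pr ι σ y := by
  simp [pr, mul_sub, sub_mul, sum_sub_distrib]

theorem pr_sum {β : Type*} (σ : K ≃ₐ[ZMod p] K) (t : Finset β) (f : β → A) :
    pr ι σ (∑ b ∈ t, f b) = ∑ b ∈ t, pr ι σ (f b) := by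
  classical
  induction t using Finset.induction_on with
  | empty => simp [pr_zero]
  | insert a t ha ih => rw [sum_insert ha, sum_insert ha, pr_add, ih]

theorem InC.pr_eq {σ τ : K ≃ₐ[ZMod p] K} {x : A} (hx : InC ι τ x) [Decidable (σ = τ)] :
    pr ι σ x = if σ = τ then x else 0 := by
  have h : pr ι σ x = ι (∑ j, σ (dua p K j) * τ (bas p K j)) * x := by
    rw [map_sum, sum_mul]
    exact sum_congr rfl fun j _ => by rw [mul_assoc, hx, map_mul, mul_assoc]
  rw [h, sum_dual]
  split <;> simp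

theorem InC.pr_self {σ : K ≃ₐ[ZMod p] K} {x : A} (hx : InC ι σ x) : pr ι σ x = x := by
  classical
  rw [hx.pr_eq]; simp

theorem InC.pr_ne {σ τ : K ≃ₐ[ZMod p] K} {x : A} (hx : InC ι τ x) (h : σ ≠ τ) :
    pr ι σ x = 0 := by
  classical
  rw [hx.pr_eq]; simp [h]

theorem pr_inC (σ : K ≃ₐ[ZMod p] K) (x : A) : InC ι σ (pr ι σ x) := by
  intro k
  have hb : ∀ j, ι (bas p K j) * ι k
      = ∑ m, ((Algebra.trace (ZMod p) K (dua p K m * (bas p K j * k))).val : A) * ι (bas p K m) := by
    intro j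
    rw [← map_mul, ← (bas p K).sum_repr (bas p K j * k), map_sum]
    refine sum_congr rfl fun m _ => ?_
    rw [coe_smul_mul, bas_repr, (bas p K).sum_repr (bas p K j * k)]
  have ha : ∀ m, ι (σ k) * ι (σ (dua p K m))
      = ∑ j, ((Algebra.trace (ZMod p) K (dua p K m * (bas p K j * k))).val : A) * ι (σ (dua p K j)) := by
    intro m
    rw [← map_mul, ← map_mul, ← (dua p K).sum_repr (k * dua p K m), map_sum, map_sum]
    refine sum_congr rfl fun j _ => ?_
    rw [map_smul, coe_smul_mul, dua_repr]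
    congr 3
    ring_nf
  calc pr ι σ x * ι k
      = ∑ j, ι (σ (dua p K j)) * x * (ι (bas p K j) * ι k) := by
        simp only [pr, sum_mul, mul_assoc]
    _ = ∑ j, ∑ m, ((Algebra.trace (ZMod p) K (dua p K m * (bas p K j * k))).val : A)
          * (ι (σ (dua p K j)) * x * ι (bas p K m)) := by
        refine sum_congr rfl fun j _ => ?_
        rw [hb, mul_sum]
        exact sum_congr rfl fun m _ => by rw [← mul_assoc, (Nat.cast_commute _ _).eq.symm, mul_assoc]
    _ = ∑ m, (∑ j, ((Algebra.trace (ZMod p) K (dua p K m * (bas p K j * k))).val : A)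
          * ι (σ (dua p K j))) * x * ι (bas p K m) := by
        rw [sum_comm]
        simp only [sum_mul, mul_assoc]
    _ = ι (σ k) * pr ι σ x := by
        simp only [← ha, pr, mul_sum, mul_assoc]

theorem sum_pr [Fintype (K ≃ₐ[ZMod p] K)] (x : A) : ∑ σ : K ≃ₐ[ZMod p] K, pr ι σ x = x := by
  have h1 : ∀ j, ∑ σ : K ≃ₐ[ZMod p] K, ι (σ (dua p K j)) * x * ι (bas p K j)
      = x * ι (Algebra.trace (ZMod p) K (dua p K j * 1) • bas p K j) := by
    intro j
    rw [← sum_mul, ← sum_mul, ← map_sum, coe_smul_mul, mul_one]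
    have : (∑ σ : K ≃ₐ[ZMod p] K, σ (dua p K j))
        = algebraMap (ZMod p) K (Algebra.trace (ZMod p) K (dua p K j)) := by
      classical
      rw [trace_eq_sum_automorphisms]
      exact Finset.sum_congr (by ext; simp) fun _ _ => rfl
    rw [this, coe_algebraMap, ← mul_assoc, (Nat.cast_commute _ x).eq]
  simp only [pr]
  rw [sum_comm]
  simp only [h1, ← mul_sum, ← map_sum, ← bas_repr]
  rw [(bas p K).sum_repr]
  simp

end CfsgLib.OstromWagner
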