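import Cfsg.Agent.Lib.OstromWagner.Coll
import Mathlib.GroupTheory.Sylow
import Mathlib.GroupTheory.GroupAction.Quotient
import Mathlib.Algebra.BigOperators.Fin
import Mathlib.Tactic.Ring
import Mathlib.Tactic.Linarith

/-!
# The fixed subplane of a group of collineations
-/

set_option autoImplicit false
set_option linter.unusedSectionVars false

namespace CfsgLib.OstromWagner

open Configuration

/-- The full collineation group. -/
def Coll (P L : Type*) [Membership P L] : Subgroup (Equiv.Perm P × Equiv.Perm L) where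
  carrier := {f | ∀ (p : P) (l : L), f.1 p ∈ f.2 l ↔ p ∈ l}
  one_mem' := fun _ _ => Iff.rfl
  mul_mem' := fun {a b} ha hb p l => (ha (b.1 p) (b.2 l)).trans (hb p l)
  inv_mem' := fun {a} ha p l => by
    have := ha (a.1⁻¹ p) (a.2⁻¹ l)
    simpa using this.symm

namespace Coll

variable {P L : Type*} [Membership P L]

instance : MulAction (Coll P L) P where
  smul f p := (f : Equiv.Perm P × Equiv.Perm L).1 p
  one_smul _ := rfl
  mul_smul _ _ _ := rfl

instance : MulAction (Coll P L) L where
  smul f l := (f : Equiv.Perm P × Equiv.Perm L).2 l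
  one_smul _ := rfl
  mul_smul _ _ _ := rfl

instance : IsCollAction (Coll P L) P L where
  smul_mem_smul f p l := f.2 p l

theorem smul_point_def (f : Coll P L) (p : P) :
    f • p = (f : Equiv.Perm P × Equiv.Perm L).1 p := rfl

theorem smul_line_def (f : Coll P L) (l : L) :
    f • l = (f : Equiv.Perm P × Equiv.Perm L).2 l := rfl

instance [ProjectivePlane P L] [Finite P] [Finite L] :
    FaithfulSMul (Coll P L) P where
  eq_of_smul_eq_smul {f g} hfg := by
    apply Subtype.ext
    refine Prod.ext (Equiv.ext hfg) (Equiv.ext fun l => ?_)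
    show f • l = g • l
    obtain ⟨a, ha, -, -⟩ := exists_third_point (P := P) l (Classical.choose (exists_point_on P l l))
      (Classical.choose (exists_point_on P l l))
    obtain ⟨b, hb, hba, -⟩ := exists_third_point l a a
    refine line_unique (a := f • a) (b := f • b) (fun e => hba (MulAction.injective f e).symm)
      ((smul_mem_smul f a l).2 ha) ((smul_mem_smul f b l).2 hb) ?_ ?_
    · rw [hfg a]; exact (smul_mem_smul g a l).2 ha
    · rw [hfg b]; exact (smul_mem_smul g b l).2 hb

end Coll

variable {G P L : Type*} [Group G] [Membership P L] [MulAction G P] [MulAction G L]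

/-- The points fixed by a subgroup. -/
abbrev FixP (H : Subgroup G) (P : Type*) [MulAction G P] : Type _ :=
  {p : P // ∀ h ∈ H, h • p = p}

/-- The lines fixed by a subgroup. -/
abbrev FixL (H : Subgroup G) (L : Type*) [MulAction G L] : Type _ :=
  {l : L // ∀ h ∈ H, h • l = l}

instance (H : Subgroup G) : Membership (FixP H P) (FixL H L) := ⟨fun l p => p.1 ∈ l.1⟩

theorem mem_fix_iff {H : Subgroup G} {p : FixP H P} {l : FixL H L} : p ∈ l ↔ p.1 ∈ l.1 := Iff.rfl

variable (L) in
/-- The subgroup fixes a quadrangle. -/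
def FixesQuad (H : Subgroup G) (P : Type*) [Membership P L] [MulAction G P] : Prop :=
  ∃ a b c d : FixP H P, Quad L a.1 b.1 c.1 d.1

theorem FixesQuad.mono {H K : Subgroup G} (h : FixesQuad L K P) (hle : H ≤ K) :
    FixesQuad L H P := by
  obtain ⟨a, b, c, d, hq⟩ := h
  exact ⟨⟨a.1, fun g hg => a.2 g (hle hg)⟩, ⟨b.1, fun g hg => b.2 g (hle hg)⟩,
    ⟨c.1, fun g hg => c.2 g (hle hg)⟩, ⟨d.1, fun g hg => d.2 g (hle hg)⟩, hq⟩

variable [IsCollAction G P L] [ProjectivePlane P L] [Finite P] [Finite L]

/-- The fixed configuration of a subgroup fixing a quadrangle is a projective plane. -/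
@[reducible] noncomputable def fixPlane {H : Subgroup G} (hQ : FixesQuad L H P) :
    ProjectivePlane (FixP H P) (FixL H L) :=
  have hne : ∀ (l : FixL H L), ∃ p : FixP H P, p ∉ l := by
    obtain ⟨a, b, c, d, hq⟩ := hQ
    intro l
    rcases hq.exists_off l.1 with h | h | h
    exacts [⟨a, h⟩, ⟨b, h⟩, ⟨c, h⟩]
  have hline : ∀ {p q : FixP H P}, p ≠ q → ∀ l : L, p.1 ∈ l → q.1 ∈ l → ∀ h ∈ H, h • l = l :=
    fun {p q} hpq _ hp hq h hh =>
      fixed_line_of_points (fun e => hpq (Subtype.ext e)) hp hq (p.2 h hh) (q.2 h hh)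
  have hcfg : ∃ (p₁ p₂ p₃ : FixP H P) (l₁ l₂ l₃ : FixL H L), p₁ ∉ l₂ ∧ p₁ ∉ l₃ ∧ p₂ ∉ l₁ ∧
      p₂ ∈ l₂ ∧ p₂ ∈ l₃ ∧ p₃ ∉ l₁ ∧ p₃ ∈ l₂ ∧ p₃ ∉ l₃ := by
    obtain ⟨a, b, c, d, habc, habd, hacd, hbcd⟩ := hQ
    have hbc : b ≠ c := fun e => habc.ne₂₃ (congrArg Subtype.val e)
    have hbd : b ≠ d := fun e => habd.ne₂₃ (congrArg Subtype.val e)
    have had : a ≠ d := fun e => hacd.ne₁₃ (congrArg Subtype.val e)
    obtain ⟨l1, h1⟩ := exists_line_through L a.1 d.1
    obtain ⟨l2, h2⟩ := exists_line_through L b.1 c.1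
    obtain ⟨l3, h3⟩ := exists_line_through L b.1 d.1
    refine ⟨a, b, c, ⟨l1, hline had _ h1.1 h1.2⟩, ⟨l2, hline hbc _ h2.1 h2.2⟩,
      ⟨l3, hline hbd _ h3.1 h3.2⟩, fun h => habc l2 ⟨h, h2⟩, fun h => habd l3 ⟨h, h3⟩,
      fun h => habd l1 ⟨h1.1, h, h1.2⟩, h2.1, h3.1, fun h => hacd l1 ⟨h1.1, h, h1.2⟩, h2.2,
      fun h => hbcd l3 ⟨h3.1, h, h3.2⟩⟩
  { exists_point := hne
    exists_line := fun p => by
      obtain ⟨q₁, q₂, q₃, m₁, m₂, m₃, h₁₂, h₁₃, h₂₁, h₂₂, h₂₃, h₃₁, h₃₂, h₃₃⟩ := hcfg
      by_contra hall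
      push Not at hall
      have hne' : m₂.1 ≠ m₃.1 := fun e => h₃₃ (show q₃.1 ∈ m₃.1 from e ▸ h₃₂)
      have hp : p = q₂ := Subtype.ext (point_unique hne' (hall m₂) (hall m₃) h₂₂ h₂₃)
      exact h₂₁ (hp ▸ hall m₁)
    eq_or_eq := fun {p₁ p₂ l₁ l₂} h₁ h₂ h₃ h₄ =>
      (Nondegenerate.eq_or_eq (P := P) (L := L) h₁ h₂ h₃ h₄).imp Subtype.ext Subtype.ext
    mkPoint := fun {l₁ l₂} h => ⟨HasPoints.mkPoint (P := P) (fun e => h (Subtype.ext e)), fun g hg =>
      fixed_point_of_lines (fun e => h (Subtype.ext e))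
        (HasPoints.mkPoint_ax (P := P) (L := L) _).1 (HasPoints.mkPoint_ax (P := P) (L := L) _).2
        (l₁.2 g hg) (l₂.2 g hg)⟩
    mkPoint_ax := fun {_ _} _ => HasPoints.mkPoint_ax (P := P) (L := L) _
    mkLine := fun {p₁ p₂} h => ⟨HasLines.mkLine (L := L) (fun e => h (Subtype.ext e)),
      hline h _ (HasLines.mkLine_ax (P := P) (L := L) _).1
        (HasLines.mkLine_ax (P := P) (L := L) _).2⟩
    mkLine_ax := fun {_ _} _ => HasLines.mkLine_ax (P := P) (L := L) _
    exists_config := hcfg }

/-- The normaliser acts on the fixed configuration. -/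
noncomputable def toFixColl (H : Subgroup G) :
    Subgroup.normalizer (H : Set G) →* Coll (FixP H P) (FixL H L) :=
  have key : ∀ (g : Subgroup.normalizer (H : Set G)) {X : Type _} [MulAction G X] (x : X),
      (∀ h ∈ H, h • x = x) → ∀ h ∈ H, h • (g : G) • x = (g : G) • x := by
    intro g X _ x hx h hh
    have hg := (Subgroup.mem_normalizer_iff''.1 g.2 h).1 hh
    have := hx _ hg
    rw [mul_smul, mul_smul, inv_smul_eq_iff] at this
    exact this
  have key' : ∀ (g : Subgroup.normalizer (H : Set G)) (x : L),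
      (∀ h ∈ H, h • x = x) → ∀ h ∈ H, h • (g : G) • x = (g : G) • x := by
    intro g x hx h hh
    have hg := (Subgroup.mem_normalizer_iff''.1 g.2 h).1 hh
    have := hx _ hg
    rw [mul_smul, mul_smul, inv_smul_eq_iff] at this
    exact this
  { toFun := fun g =>
      ⟨({ toFun := fun p => ⟨(g : G) • p.1, key g p.1 p.2⟩
          invFun := fun p => ⟨(g : G)⁻¹ • p.1, by simpa using key g⁻¹ p.1 p.2⟩
          left_inv := fun p => Subtype.ext (inv_smul_smul (g : G) p.1)
          right_inv := fun p => Subtype.ext (smul_inv_smul (g : G) p.1) },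
        { toFun := fun l => ⟨(g : G) • l.1, key' g l.1 l.2⟩
          invFun := fun l => ⟨(g : G)⁻¹ • l.1, by simpa using key' g⁻¹ l.1 l.2⟩
          left_inv := fun l => Subtype.ext (inv_smul_smul (g : G) l.1)
          right_inv := fun l => Subtype.ext (smul_inv_smul (g : G) l.1) }),
        fun p l => smul_mem_smul (g : G) p.1 l.1⟩
    map_one' := by
      apply Subtype.ext
      refine Prod.ext (Equiv.ext fun p => ?_) (Equiv.ext fun l => ?_)
      · exact Subtype.ext (one_smul G p.1)
      · exact Subtype.ext (one_smul G l.1)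
    map_mul' := fun a b => by
      apply Subtype.ext
      refine Prod.ext (Equiv.ext fun p => ?_) (Equiv.ext fun l => ?_)
      · exact Subtype.ext (mul_smul (a : G) (b : G) p.1)
      · exact Subtype.ext (mul_smul (a : G) (b : G) l.1) }

theorem toFixColl_point {H : Subgroup G} (g : Subgroup.normalizer (H : Set G)) (p : FixP H P) :
    ((toFixColl (P := P) (L := L) H g) • p).1 = (g : G) • p.1 := rfl

theorem toFixColl_line {H : Subgroup G} (g : Subgroup.normalizer (H : Set G)) (l : FixL H L) :
    ((toFixColl (P := P) (L := L) H g) • l).1 = (g : G) • l.1 := rfl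

variable [FaithfulSMul G P]

theorem fix_order_le {H : Subgroup G} (hQ : FixesQuad L H P) :
    @ProjectivePlane.order (FixP H P) (FixL H L) _ (fixPlane hQ) ≤ ord P L := by
  letI := fixPlane hQ
  have h1 := card_all_points (FixP H P) (FixL H L)
  have h2 := card_all_points P L
  have h3 : Nat.card (FixP H P) ≤ Nat.card P :=
    Nat.card_le_card_of_injective _ Subtype.val_injective
  by_contra h
  push Not at h
  unfold ord at h h1 h2
  nlinarith

theorem fix_order_lt {H : Subgroup G} (hQ : FixesQuad L H P) (hH : H ≠ ⊥) :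
    @ProjectivePlane.order (FixP H P) (FixL H L) _ (fixPlane hQ) < ord P L := by
  letI := fixPlane hQ
  refine lt_of_le_of_ne (fix_order_le hQ) fun he => hH ?_
  have h1 := card_all_points (FixP H P) (FixL H L)
  have h2 := card_all_points P L
  have hsurj : Function.Surjective (Subtype.val : FixP H P → P) :=
    (Function.Injective.bijective_of_nat_card_le Subtype.val_injective
      (by rw [h1, h2]; exact le_of_eq (by rw [ord, ord, he]))).2
  rw [Subgroup.eq_bot_iff_forall]
  intro g hg
  refine eq_one_of_points (P := P) fun p => ?_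
  obtain ⟨q, rfl⟩ := hsurj p
  exact q.2 g hg

variable (L) in
/-- Every collineation fixes as many points as lines. -/
theorem parker (g : G) :
    Nat.card {p : P // g • p = p} = Nat.card {l : L // g • l = l} := by
  classical
  have := Fintype.ofFinite P
  have := Fintype.ofFinite L
  have hp : ∀ p : P, (Finset.univ.filter fun l : L => p ∈ l ∧ g • p ∈ l).card
      = if g • p = p then ord P L + 1 else 1 := by
    intro p
    split
    case isTrue h =>
      rw [← card_through (L := L) p, Nat.card_eq_fintype_card, Fintype.card_subtype]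
      simp [h]
    case isFalse h =>
      obtain ⟨m, hm1, hm2⟩ := exists_line_through L p (g • p)
      rw [Finset.card_eq_one]
      refine ⟨m, Finset.ext fun l => ?_⟩
      simp only [Finset.mem_filter, Finset.mem_univ, true_and, Finset.mem_singleton]
      exact ⟨fun hl => line_unique (Ne.symm h) hl.1 hl.2 hm1 hm2, fun e => e ▸ ⟨hm1, hm2⟩⟩
  have hl : ∀ l : L, (Finset.univ.filter fun p : P => p ∈ l ∧ g • p ∈ l).card
      = if g • l = l then ord P L + 1 else 1 := by
    intro l
    have hiff : g • l = l ↔ g⁻¹ • l = l :=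
      ⟨fun e => by rw [inv_smul_eq_iff, e], fun e => by rw [inv_smul_eq_iff] at e; exact e.symm⟩
    split
    case isTrue h =>
      rw [← card_on_line (P := P) l, Nat.card_eq_fintype_card, Fintype.card_subtype]
      congr 1
      ext p
      simp only [Finset.mem_filter, Finset.mem_univ, true_and]
      exact ⟨fun hh => hh.1, fun hh => ⟨hh, smul_mem_of_fixed h hh⟩⟩
    case isFalse h =>
      obtain ⟨z, hz1, hz2⟩ := exists_point_on P l (g⁻¹ • l)
      rw [Finset.card_eq_one]
      refine ⟨z, Finset.ext fun p => ?_⟩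
      simp only [Finset.mem_filter, Finset.mem_univ, true_and, Finset.mem_singleton, smul_mem_iff]
      exact ⟨fun hh => point_unique (fun e => h (hiff.2 e.symm)) hh.1 hh.2 hz1 hz2,
        fun e => e ▸ ⟨hz1, hz2⟩⟩
  have key : ∑ p : P, (Finset.univ.filter fun l : L => p ∈ l ∧ g • p ∈ l).card
      = ∑ l : L, (Finset.univ.filter fun p : P => p ∈ l ∧ g • p ∈ l).card := by
    simp only [Finset.card_filter]
    exact Finset.sum_comm
  simp only [hp, hl] at key
  have hcount : ∀ {X : Type _} [Fintype X] (q : X → Prop) [DecidablePred q],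
      ∑ x : X, (if q x then ord P L + 1 else 1)
        = ord P L * (Finset.univ.filter q).card + Fintype.card X := by
    intro X _ q _
    rw [Finset.sum_ite, Finset.sum_const, Finset.sum_const, smul_eq_mul, smul_eq_mul, mul_one]
    have := Finset.card_filter_add_card_filter_not (s := (Finset.univ : Finset X)) (p := q)
    rw [Finset.card_univ] at this
    rw [← this, mul_add, mul_one, mul_comm (ord P L)]
    ring
  have hcount' : ∀ (q : L → Prop) [DecidablePred q],
      ∑ x : L, (if q x then ord P L + 1 else 1)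
        = ord P L * (Finset.univ.filter q).card + Fintype.card L := by
    intro q _
    rw [Finset.sum_ite, Finset.sum_const, Finset.sum_const, smul_eq_mul, smul_eq_mul, mul_one]
    have := Finset.card_filter_add_card_filter_not (s := (Finset.univ : Finset L)) (p := q)
    rw [Finset.card_univ] at this
    rw [← this, mul_add, mul_one, mul_comm (ord P L)]
    ring
  rw [hcount, hcount', ProjectivePlane.card_points_eq_card_lines P L, add_left_inj] at key
  rw [Nat.card_eq_fintype_card, Nat.card_eq_fintype_card, Fintype.card_subtype,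
    Fintype.card_subtype]
  exact Nat.eq_of_mul_eq_mul_left (by have := two_le_ord P L; omega) key

/-- An involution is a perspectivity or fixes a quadrangle. -/
theorem involution_cases {t : G} (ht : t * t = 1) :
    (∃ (c : P) (l : L), IsPersp t c l) ∨ FixesQuad L (Subgroup.zpowers t) P := by
  have hfix : ∀ p : P, t • p = p → ∀ h ∈ Subgroup.zpowers t, h • p = p := fun p hp h hh =>
    (Subgroup.zpowers_le (H := MulAction.stabilizer G p)).2 hp hh
  rcases quad_or_degenerate L {p : P | t • p = p} with ⟨a, b, c, d, ha, hb, hc, hd, hq⟩ | ⟨l, a, hla⟩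
  · exact Or.inr ⟨⟨a, hfix a ha⟩, ⟨b, hfix b hb⟩, ⟨c, hfix c hc⟩, ⟨d, hfix d hd⟩, hq⟩
  refine Or.inl ?_
  -- every line carries a fixed point
  have htt : ∀ p : P, t • t • p = p := fun p => by rw [← mul_smul, ht, one_smul]
  have hline : ∀ m : L, ∃ p : P, p ∈ m ∧ t • p = p := by
    intro m
    by_cases hm : t • m = m
    · by_cases hex : ∃ q : P, q ∉ m ∧ t • q ≠ q
      · obtain ⟨q, hq, hqf⟩ := hex
        obtain ⟨k, hk1, hk2⟩ := exists_line_through L q (t • q)
        have hkf : t • k = k := line_unique (Ne.symm hqf)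
          (by rw [← htt q, smul_mem_smul]; exact hk2) ((smul_mem_smul t q k).2 hk1) hk1 hk2
        obtain ⟨z, hz1, hz2⟩ := exists_point_on P k m
        exact ⟨z, hz2, fixed_point_of_lines (fun e => hq (by rw [← e]; exact hk1)) hz1 hz2 hkf hm⟩
      · push Not at hex
        obtain ⟨z, hz, -⟩ := exists_point_on P m m
        refine ⟨z, hz, ?_⟩
        obtain ⟨k, hzk, hkm, -⟩ := exists_third_line z m m
        obtain ⟨x, hx, hxz, -⟩ := exists_third_point k z z
        obtain ⟨y, hy, hyz, hyx⟩ := exists_third_point k z x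
        have fk : t • k = k := fixed_line_of_points hyx.symm hx hy
          (hex x fun e => hxz (point_unique hkm hx e hzk hz))
          (hex y fun e => hyz (point_unique hkm hy e hzk hz))
        exact fixed_point_of_lines hkm hzk hz fk hm
    · obtain ⟨z, hz1, hz2⟩ := exists_point_on P m (t • m)
      refine ⟨z, hz1, point_unique hm ((smul_mem_smul t z m).2 hz1) ?_ hz2 hz1⟩
      rw [smul_mem_iff, show t⁻¹ = t from inv_eq_of_mul_eq_one_right ht]
      exact hz2
  have hall : ∀ p : P, p ∈ l → t • p = p := by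
    intro y hy
    by_contra hne
    obtain ⟨z, hz⟩ := exists_line_through L y a
    obtain ⟨m, hym, hml, hmz⟩ := exists_third_line y l z
    obtain ⟨x, hxm, hx⟩ := hline m
    rcases hla x hx with h | h
    · exact hne (point_unique hml hym hy hxm h ▸ hx)
    · subst h
      rcases eq_or_ne y x with e | e
      · exact hne (e ▸ hx)
      · exact hmz (line_unique e hym hxm hz.1 hz.2)
  obtain ⟨c, hc⟩ := exists_centre hall
  exact ⟨c, l, hc⟩

/-- A Baer involution: the order of the plane is the square of the order of the fixed plane. -/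
theorem baer_order {t : G} (ht : t * t = 1) (h1 : t ≠ 1)
    (hQ : FixesQuad L (Subgroup.zpowers t) P) :
    ord P L = (@ProjectivePlane.order (FixP (Subgroup.zpowers t) P)
      (FixL (Subgroup.zpowers t) L) _ (fixPlane hQ)) ^ 2 := by
  classical
  letI := fixPlane hQ
  set H := Subgroup.zpowers t
  have := Fintype.ofFinite P
  have := Fintype.ofFinite L
  set s := ord (FixP H P) (FixL H L) with hs
  have hlt : s < ord P L := fix_order_lt hQ (by simpa [H] using h1)
  have hfixp : ∀ p : P, t • p = p → ∀ h ∈ H, h • p = p := fun p hp h hh =>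
    (Subgroup.zpowers_le (H := MulAction.stabilizer G p)).2 hp hh
  have hfixl : ∀ l : L, t • l = l → ∀ h ∈ H, h • l = l := fun l hp h hh =>
    (Subgroup.zpowers_le (H := MulAction.stabilizer G l)).2 hp hh
  have htt : ∀ p : P, t • t • p = p := fun p => by rw [← mul_smul, ht, one_smul]
  have hmem : t ∈ H := Subgroup.mem_zpowers t
  let X := {x : P × L // x.1 ∈ x.2 ∧ t • x.2 = x.2 ∧ t • x.1 ≠ x.1}
  -- each moved point lies on exactly one fixed line
  have e1 : Nat.card X = Nat.card {p : P // t • p ≠ p} := by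
    refine Nat.card_eq_of_bijective (fun x : X => ⟨x.1.1, x.2.2.2⟩) ⟨?_, ?_⟩
    · rintro ⟨⟨p, l⟩, h1', h2, h3⟩ ⟨⟨p', l'⟩, h1'', h2', h3'⟩ h
      simp only [Subtype.mk.injEq] at h
      subst h
      apply Subtype.ext
      refine Prod.ext rfl ?_
      by_contra hne
      exact h3 (fixed_point_of_lines hne h1' h1'' h2 h2')
    · rintro ⟨p, hp⟩
      obtain ⟨k, hk1, hk2⟩ := exists_line_through L p (t • p)
      exact ⟨⟨(p, k), hk1, line_unique (Ne.symm hp) (by rw [← htt p, smul_mem_smul]; exact hk2)
        ((smul_mem_smul t p k).2 hk1) hk1 hk2, hp⟩, rfl⟩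
  have e2 : Nat.card X = Nat.card (Σ l : FixL H L, {p : {p : P // p ∈ l.1} // t • p.1 ≠ p.1}) := by
    refine Nat.card_congr
      { toFun := fun x => ⟨⟨x.1.2, hfixl _ x.2.2.1⟩, ⟨x.1.1, x.2.1⟩, x.2.2.2⟩
        invFun := fun y => ⟨(y.2.1.1, y.1.1), y.2.1.2, y.1.2 t hmem, y.2.2⟩
        left_inv := fun x => rfl
        right_inv := fun y => rfl }
  have e3 : ∀ l : FixL H L,
      Nat.card {p : {p : P // p ∈ l.1} // t • p.1 ≠ p.1} = ord P L - s := by
    intro l
    have h2 : Nat.card {p : {p : P // p ∈ l.1} // t • p.1 = p.1} = s + 1 := by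
      rw [hs, ← card_on_line (P := FixP H P) l]
      exact Nat.card_congr
        { toFun := fun x => ⟨⟨x.1.1, hfixp _ x.2⟩, x.1.2⟩
          invFun := fun y => ⟨⟨y.1.1, y.2⟩, y.1.2 t hmem⟩
          left_inv := fun x => rfl
          right_inv := fun y => rfl }
    have h3 := card_on_line (P := P) l.1
    rw [Nat.card_eq_fintype_card] at h2 h3 ⊢
    rw [Fintype.card_subtype_compl, h2, h3]
    omega
  rw [e2, Nat.card_eq_fintype_card, Fintype.card_sigma] at e1
  simp only [← Nat.card_eq_fintype_card, e3] at e1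
  rw [Finset.sum_const, Finset.card_univ, smul_eq_mul, ← Nat.card_eq_fintype_card,
    card_all_lines (FixP H P)] at e1
  have e4 : Nat.card {p : P // t • p = p} = s ^ 2 + s + 1 := by
    rw [hs, ← card_all_points (FixP H P) (FixL H L)]
    exact Nat.card_congr (Equiv.subtypeEquivRight fun p =>
      ⟨hfixp p, fun h => h t hmem⟩)
  have e5 := card_all_points P L
  rw [Nat.card_eq_fintype_card] at e4 e5
  rw [Nat.card_eq_fintype_card (α := {p : P // t • p ≠ p}), Fintype.card_subtype_compl, e4,
    e5] at e1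
  show ord P L = s ^ 2
  obtain ⟨d, hd⟩ : ∃ d, ord P L = s + d + 1 := ⟨ord P L - s - 1, by omega⟩
  rw [← hs, hd, show s + d + 1 - s = d + 1 by omega] at e1
  rw [hd]
  have e6 : (s ^ 2 + s + 1) * (d + 1) + (s ^ 2 + s + 1) = (s + d + 1) ^ 2 + (s + d + 1) + 1 := by
    rw [e1, Nat.sub_add_cancel (by nlinarith)]
  nlinarith

end CfsgLib.OstromWagner
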