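import Mathlib.LinearAlgebra.LinearIndependent.Basic
import Mathlib.FieldTheory.Finite.Basic
import Mathlib.GroupTheory.Coset.Card

/-!
# Hilbert 90 and norm surjectivity for an automorphism of a finite field
-/

set_option autoImplicit false

namespace CfsgLib.OstromWagner

open Finset Function

section

variable {L : Type*} [Field L] (s : L →+* L) (d : ℕ)

/-- The norm product of the first `d` iterates. -/
noncomputable def nm (x : L) : L := ∏ i ∈ range d, s^[i] x

theorem nm_mul (x y : L) : nm s d (x * y) = nm s d x * nm s d y := by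
  simp only [nm, iterate_map_mul, prod_mul_distrib]

theorem nm_one : nm s d 1 = 1 := by
  simp [nm, iterate_map_one]

theorem nm_inv (x : L) : nm s d x⁻¹ = (nm s d x)⁻¹ := by
  simp only [nm, ← prod_inv_distrib]
  refine prod_congr rfl fun i hi => ?_
  clear hi
  induction i with
  | zero => rfl
  | succ i ih => rw [iterate_succ_apply', iterate_succ_apply', ih, map_inv₀]

theorem nm_ne_zero {x : L} (hx : x ≠ 0) : nm s d x ≠ 0 := by
  refine prod_ne_zero_iff.2 fun i _ => ?_
  exact fun h => hx ((s.injective.iterate i) (h.trans (iterate_map_zero s i).symm))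

variable (hd : 0 < d) (hperiod : ∀ x : L, s^[d] x = x)

include hd hperiod

theorem nm_map (x : L) : nm s d (s x) = nm s d x := by
  obtain ⟨e, rfl⟩ : ∃ e, d = e + 1 := ⟨d - 1, by omega⟩
  unfold nm
  rw [prod_range_succ, prod_range_succ' (f := fun i => s^[i] x)]
  simp only [← iterate_succ_apply, iterate_zero_apply]
  rw [hperiod]

theorem map_nm (x : L) : s (nm s d x) = nm s d x := by
  conv_rhs => rw [← nm_map s d hd hperiod x]
  simp only [nm, map_prod, ← iterate_succ_apply']
  rfl

variable (hdist : ∀ i, 0 < i → i < d → ∃ x : L, s^[i] x ≠ x)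

include hdist

theorem hilbert90 {r : L} (hr : nm s d r = 1) : ∃ m : L, m ≠ 0 ∧ r * s m = m := by
  classical
  let χ : Fin d → (L →* L) := fun i =>
    { toFun := s^[(i : ℕ)], map_one' := iterate_map_one s _, map_mul' := iterate_map_mul s _ }
  have hχ : Injective χ := by
    intro i j hij
    by_contra hne
    have hne' : (i : ℕ) ≠ j := fun h => hne (Fin.ext h)
    have key : ∀ a b : Fin d, (a : ℕ) < b → χ a = χ b → False := by
      intro a b hab h
      obtain ⟨x, hx⟩ := hdist (b - a) (by omega) (by omega)
      apply hx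
      apply (s.injective.iterate (a : ℕ))
      have h1 := congrArg (fun f : L →* L => f x) h
      rw [← iterate_add_apply, Nat.add_sub_cancel' hab.le]
      exact h1.symm
    rcases lt_or_gt_of_ne hne' with h | h
    exacts [key i j h hij, key j i h hij.symm]
  have li : LinearIndependent L (fun i : Fin d => (χ i : L → L)) :=
    (linearIndependent_monoidHom L L).comp χ hχ
  let c : Fin d → L := fun i => ∏ j ∈ range (i : ℕ), s^[j] r
  obtain ⟨x, hx⟩ : ∃ x : L, ∑ i : Fin d, c i * s^[(i : ℕ)] x ≠ 0 := by
    by_contra hall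
    push Not at hall
    have h0 := Fintype.linearIndependent_iff.1 li c (by
      funext x
      simpa [Finset.sum_apply, χ] using hall x) ⟨0, hd⟩
    simp [c] at h0
  refine ⟨∑ i ∈ range d, (∏ j ∈ range i, s^[j] r) * s^[i] x, ?_, ?_⟩
  · rwa [← Fin.sum_univ_eq_sum_range (fun i => (∏ j ∈ range i, s^[j] r) * s^[i] x)]
  · rw [map_sum, mul_sum]
    obtain ⟨e, rfl⟩ : ∃ e, d = e + 1 := ⟨d - 1, by omega⟩
    rw [sum_range_succ, sum_range_succ' (f := fun i => (∏ j ∈ range i, s^[j] r) * s^[i] x)]
    congr 1
    · refine sum_congr rfl fun i _ => ?_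
      rw [map_mul, map_prod, prod_range_succ', iterate_zero_apply, ← iterate_succ_apply' s i x]
      simp only [← iterate_succ_apply']
      ring
    · rw [map_mul, map_prod, ← iterate_succ_apply' s e x, hperiod x]
      simp only [range_zero, prod_empty, iterate_zero_apply, one_mul, ← iterate_succ_apply']
      have hfull : r * ∏ j ∈ range e, s^[j + 1] r = 1 := by
        unfold nm at hr
        rw [prod_range_succ', iterate_zero_apply, mul_comm] at hr
        exact hr
      rw [← mul_assoc, hfull, one_mul]

/-- Every nonzero fixed element is a norm. -/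
theorem nm_surjective [Finite L] {y : L} (hy : y ≠ 0) (hfix : s y = y) :
    ∃ x : L, nm s d x = y := by
  classical
  let N : Lˣ →* Lˣ := Units.map
    { toFun := nm s d, map_one' := nm_one s d, map_mul' := nm_mul s d }
  let φ : Lˣ →* Lˣ := Units.map (s : L →* L)
  let D : Lˣ →* Lˣ := MonoidHom.id Lˣ / φ
  have hker : N.ker ≤ D.range := by
    intro u hu
    have h1 : nm s d (u : L) = 1 := congrArg Units.val (MonoidHom.mem_ker.1 hu)
    obtain ⟨m, hm0, hm⟩ := hilbert90 s d hd hperiod hdist h1
    refine ⟨Units.mk0 m hm0, ?_⟩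
    show Units.mk0 m hm0 / φ (Units.mk0 m hm0) = u
    rw [div_eq_iff_eq_mul]
    exact Units.ext hm.symm
  have hrange : N.range ≤ D.ker := by
    rintro _ ⟨u, rfl⟩
    rw [MonoidHom.mem_ker]
    show N u / φ (N u) = 1
    rw [div_eq_one]
    exact Units.ext (map_nm s d hd hperiod (u : L)).symm
  have hcard : Nat.card D.ker ≤ Nat.card N.range := by
    have e1 := Subgroup.card_mul_index N.ker
    have e2 := Subgroup.card_mul_index D.ker
    rw [Subgroup.index_ker] at e1 e2
    have hle : Nat.card N.ker ≤ Nat.card D.range := Subgroup.card_le_of_le hker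
    have hpos : 0 < Nat.card D.range := Nat.card_pos
    by_contra hlt
    push Not at hlt
    have := Nat.mul_le_mul_right (Nat.card N.range) hle
    have := Nat.mul_lt_mul_of_pos_left hlt hpos
    nlinarith
  have heq : N.range = D.ker := Subgroup.eq_of_le_of_card_ge hrange hcard
  have hmem : Units.mk0 y hy ∈ D.ker := by
    rw [MonoidHom.mem_ker]
    show Units.mk0 y hy / φ (Units.mk0 y hy) = 1
    rw [div_eq_one]
    exact Units.ext hfix.symm
  rw [← heq] at hmem
  obtain ⟨u, hu⟩ := hmem
  exact ⟨u, congrArg Units.val hu⟩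

end

end CfsgLib.OstromWagner
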