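import Cfsg.Agent.Lib.OstromWagner.Components
import Mathlib.Tactic.NoncommRing
import Mathlib.FieldTheory.Finite.Basic

/-!
# Additive sets closed under `a b a`: projections on pairs of components
-/

set_option autoImplicit false
set_option linter.unusedSectionVars false

namespace CfsgLib.OstromWagner

open Finset

variable {A : Type*} [Ring A]

/-- An additive subgroup containing `1`, closed under `a b a`, with all nonzero members units. -/
structure SpreadSet (S : AddSubgroup A) : Prop where
  one_mem : (1 : A) ∈ S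
  aba : ∀ a ∈ S, ∀ b ∈ S, a * b * a ∈ S
  unit : ∀ a ∈ S, a ≠ 0 → IsUnit a

namespace SpreadSet

variable {S : AddSubgroup A} (hS : SpreadSet S)

include hS

theorem sq_mem {a : A} (ha : a ∈ S) : a * a ∈ S := by
  simpa using hS.aba a ha 1 hS.one_mem

theorem sym2_mem {a b x : A} (ha : a ∈ S) (hb : b ∈ S) (hx : x ∈ S) :
    a * x * b + b * x * a ∈ S := by
  have h := S.sub_mem (S.sub_mem (hS.aba (a + b) (S.add_mem ha hb) x hx) (hS.aba a ha x hx))
    (hS.aba b hb x hx)
  have e : (a + b) * x * (a + b) - a * x * a - b * x * b = a * x * b + b * x * a := by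
    noncomm_ring
  rwa [e] at h

theorem pow_mem {a : A} (ha : a ∈ S) : ∀ n : ℕ, a ^ n ∈ S
  | 0 => by simpa using hS.one_mem
  | 1 => by simpa using ha
  | n + 2 => by
      have h := hS.aba a ha _ (pow_mem ha n)
      rwa [← pow_succ', ← pow_succ] at h

theorem mul_ne_zero' {a b : A} (ha : a ∈ S) (ha0 : a ≠ 0) (hb0 : b ≠ 0) : a * b ≠ 0 := by
  intro h
  exact hb0 ((hS.unit a ha ha0).mul_right_eq_zero.1 h)

/-- A symmetric combination of `k_m x k_j` stays in the set. -/
theorem symSum_mem {I : Type*} [DecidableEq I] (T : Finset I) (M : I → I → ℕ)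
    (hM : ∀ i j, M i j = M j i) (f : I → A) (hf : ∀ i, f i ∈ S) {x : A} (hx : x ∈ S) :
    ∑ i ∈ T, ∑ j ∈ T, M i j • (f i * x * f j) ∈ S := by
  induction T using Finset.induction_on with
  | empty => simp
  | insert a T ha ih =>
    have e : ∑ i ∈ insert a T, ∑ j ∈ insert a T, M i j • (f i * x * f j)
        = M a a • (f a * x * f a) + (∑ j ∈ T, M a j • (f a * x * f j + f j * x * f a)
          + ∑ i ∈ T, ∑ j ∈ T, M i j • (f i * x * f j)) := by
      simp only [sum_insert ha, sum_add_distrib, smul_add]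
      have : ∑ i ∈ T, M i a • (f i * x * f a) = ∑ j ∈ T, M a j • (f j * x * f a) :=
        sum_congr rfl fun i _ => by rw [hM]
      rw [this]
      abel
    rw [e]
    refine S.add_mem (S.nsmul_mem (hS.aba _ (hf a) x hx) _) (S.add_mem ?_ ih)
    exact S.sum_mem fun j _ => S.nsmul_mem (hS.sym2_mem (hf a) (hf j) hx) _

end SpreadSet

variable {p : ℕ} [hp : Fact p.Prime] {K : Type*} [Field K] [Finite K] [Algebra (ZMod p) K]
  {ι : K →+* A} {S : AddSubgroup A}

theorem pr_expand (σ : K ≃ₐ[ZMod p] K) (x : A) :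
    pr ι σ x = ∑ j, ∑ m,
      (Algebra.trace (ZMod p) K (dua p K m * σ (dua p K j))).val • (ι (bas p K m) * x * ι (bas p K j)) := by
  unfold pr
  refine sum_congr rfl fun j _ => ?_
  conv_lhs => rw [← (bas p K).sum_repr (σ (dua p K j))]
  rw [map_sum, sum_mul, sum_mul]
  refine sum_congr rfl fun m _ => ?_
  rw [coe_smul_mul, bas_repr, nsmul_eq_mul]
  simp only [mul_assoc]

theorem trace_swap (σ : K ≃ₐ[ZMod p] K) (u v : K) :
    Algebra.trace (ZMod p) K (u * σ v) = Algebra.trace (ZMod p) K (v * σ⁻¹ u) := by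
  rw [← Algebra.trace_eq_of_algEquiv σ⁻¹ (u * σ v), map_mul, mul_comm]
  congr 2
  rw [← AlgEquiv.mul_apply, inv_mul_cancel, AlgEquiv.one_apply]

variable (hS : SpreadSet S) (hK : ∀ k, ι k ∈ S)

include hS hK

/-- Projections on involutory components preserve the set. -/
theorem pr_mem {σ : K ≃ₐ[ZMod p] K} (hσ : σ⁻¹ = σ) {x : A} (hx : x ∈ S) : pr ι σ x ∈ S := by
  classical
  rw [pr_expand, sum_comm]
  refine hS.symSum_mem univ
    (fun m j => (Algebra.trace (ZMod p) K (dua p K m * σ (dua p K j))).val) (fun m j => ?_)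
    (fun m => ι (bas p K m)) (fun m => hK _) hx
  rw [trace_swap, hσ]

/-- Projections on pairs of inverse components preserve the set. -/
theorem prPair_mem (σ : K ≃ₐ[ZMod p] K) {x : A} (hx : x ∈ S) :
    pr ι σ x + pr ι σ⁻¹ x ∈ S := by
  classical
  rw [pr_expand, pr_expand, sum_comm, add_comm, sum_comm, add_comm, ← sum_add_distrib]
  simp only [← sum_add_distrib, ← add_nsmul]
  refine hS.symSum_mem univ (fun m j => (Algebra.trace (ZMod p) K (dua p K m * σ (dua p K j))).val
    + (Algebra.trace (ZMod p) K (dua p K m * σ⁻¹ (dua p K j))).val) (fun m j => ?_)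
    (fun m => ι (bas p K m)) (fun m => hK _) hx
  rw [trace_swap σ (dua p K m) (dua p K j), trace_swap σ⁻¹ (dua p K m) (dua p K j), inv_inv,
    add_comm]

theorem coe_mul_mem {k : K} {y : A} (hy : y ∈ S) (hc : y * ι k = ι k * y) : ι k * y ∈ S := by
  by_cases h2 : ringChar K = 2
  · obtain ⟨c, hc'⟩ := (FiniteField.isSquare_of_char_two h2 k)
    -- `k = c * c`
    have hpow : c = k ^ (Nat.card K / 2) := by
      have hQ : c ^ Nat.card K = c := by
        have := Fintype.ofFinite K
        rw [Nat.card_eq_fintype_card, FiniteField.pow_card]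
      have heven : 2 ∣ Nat.card K := by
        have := Fintype.ofFinite K
        obtain ⟨q, -, hq⟩ := FiniteField.card K (ringChar K)
        rw [Nat.card_eq_fintype_card, hq, h2]
        exact dvd_pow_self 2 q.pos.ne'
      rw [hc', ← sq, ← pow_mul, Nat.mul_div_cancel' heven, hQ]
    have hcc : y * ι c = ι c * y := by
      rw [hpow, map_pow]
      exact (Commute.pow_right hc _).eq
    have h := hS.aba (ι c) (hK c) y hy
    rwa [mul_assoc, hcc, ← mul_assoc, ← map_mul, ← hc'] at h
  · have h := hS.sym2_mem (hK (k / 2)) hS.one_mem hy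
    have hc2 : y * ι (k / 2) = ι (k / 2) * y := by
      have h2' : y * ι (2⁻¹ : K) = ι (2⁻¹ : K) * y := by
        have hcomm : Commute y (ι (2 : K)) := by
          rw [map_ofNat]
          exact Commute.ofNat_right y 2
        have h20 : (2 : K) ≠ 0 := Ring.two_ne_zero h2
        have hu : IsUnit (ι (2 : K)) := (isUnit_iff_ne_zero.2 h20).map ι
        apply hu.mul_left_cancel
        rw [← mul_assoc, ← mul_assoc, ← hcomm.eq, mul_assoc, ← map_mul, mul_inv_cancel₀ h20,
          map_one, one_mul, mul_one]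
      rw [div_eq_mul_inv, map_mul, ← mul_assoc, hc, mul_assoc, h2', mul_assoc]
    rw [one_mul, mul_one, hc2, ← add_mul, ← map_add] at h
    convert h using 3
    field_simp
    rw [eq_div_iff (Ring.two_ne_zero h2)] at *
    ring

end CfsgLib.OstromWagner
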