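import Cfsg.Agent.Lib.OstromWagner.Transitive
import Mathlib.GroupTheory.Perm.Cycle.Type

/-!
# An elation in a doubly transitive group gives all translations
-/

set_option autoImplicit false
set_option linter.unusedSectionVars false

namespace CfsgLib.OstromWagner

open Configuration

variable {G P L : Type*} [Group G] [MulAction G P] [MulAction G L] [Membership P L]
  [IsCollAction G P L] [ProjectivePlane P L] [Finite P] [Finite L] [FaithfulSMul G P]

theorem IsPersp.one (c : P) (l : L) : IsPersp (1 : G) c l :=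
  ⟨fun p _ => one_smul G p, fun m _ => one_smul G m⟩

theorem IsPersp.inv {g : G} {c : P} {l : L} (h : IsPersp g c l) : IsPersp g⁻¹ c l :=
  ⟨fun p hp => by rw [inv_smul_eq_iff, h.1 p hp], fun m hm => by rw [inv_smul_eq_iff, h.2 m hm]⟩

theorem IsPersp.mul {g k : G} {c : P} {l : L} (h : IsPersp g c l) (h' : IsPersp k c l) :
    IsPersp (g * k) c l :=
  ⟨fun p hp => by rw [mul_smul, h'.1 p hp, h.1 p hp],
    fun m hm => by rw [mul_smul, h'.2 m hm, h.2 m hm]⟩

/-- The moved point stays on its line through the centre. -/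
theorem IsPersp.smul_mem {g : G} {c : P} {l : L} (h : IsPersp g c l) {p : P} {m : L} (hp : p ∈ m)
    (hc : c ∈ m) : g • p ∈ m :=
  smul_mem_of_fixed (h.2 m hc) hp

/-- An elation moving a point off the axis has as centre the point where its line meets the axis. -/
theorem elation_centre {g : G} {c : P} {l : L} (h : IsPersp g c l) (hc : c ∈ l) (hg : g ≠ 1) {x : P}
    (hx : x ∉ l) {m : L} (hxm : x ∈ m) (hgxm : g • x ∈ m) {z : P} (hzm : z ∈ m) (hzl : z ∈ l) :
    c = z := by
  obtain ⟨k, hxk, hck⟩ := exists_line_through L x c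
  have hne : g • x ≠ x := fun e =>
    hg (h.eq_one hx (fun e' => hx (by rw [e']; exact hc)) e)
  have hkm : k = m := line_unique hne (h.smul_mem hxk hck) hxk hgxm hxm
  subst hkm
  exact point_unique (fun e => hx (by rw [← e]; exact hxm)) hck hc hzm hzl

variable (G P) in
/-- The group of elations with axis `l`. -/
def elGroup (l : L) : Subgroup G where
  carrier := {g | ∃ c : P, c ∈ l ∧ IsPersp g c l}
  one_mem' := by
    obtain ⟨c, hc, -⟩ := exists_point_on P l l
    exact ⟨c, hc, IsPersp.one c l⟩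
  inv_mem' := fun {g} ⟨c, hc, h⟩ => ⟨c, hc, h.inv⟩
  mul_mem' := by
    rintro g k ⟨c, hc, hg⟩ ⟨d, hd, hk⟩
    have hax : ∀ p : P, p ∈ l → (g * k) • p = p := fun p hp => by
      rw [mul_smul, hk.1 p hp, hg.1 p hp]
    obtain ⟨e, he⟩ := exists_centre hax
    by_cases hgk : g * k = 1
    · exact ⟨c, hc, hgk ▸ IsPersp.one c l⟩
    by_cases hel : e ∈ l
    · exact ⟨e, hel, he⟩
    exfalso
    have h1 : g • k • e = e := by rw [← mul_smul]; exact he.smul_centre
    by_cases hg1 : g = 1
    · rw [hg1, one_mul] at he hgk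
      exact hel (he.centre_unique hk hgk ▸ hd)
    by_cases hk1 : k = 1
    · rw [hk1, mul_one] at he hgk
      exact hel (he.centre_unique hg hgk ▸ hc)
    have hke : k • e ∉ l := by
      intro h
      have := hk.inv.1 _ h
      rw [inv_smul_smul] at this
      exact hel (this ▸ h)
    obtain ⟨m, hm1, hm2⟩ := exists_line_through L e (k • e)
    obtain ⟨z, hzm, hzl⟩ := exists_point_on P m l
    have hcz : c = z := elation_centre hg hc hg1 hke hm2 (by rw [h1]; exact hm1) hzm hzl
    have hdz : d = z := elation_centre hk hd hk1 hel hm1 hm2 hzm hzl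
    subst hcz hdz
    exact hel (he.centre_unique (hg.mul hk) hgk ▸ hc)

variable (G) in
/-- The elations with given centre and axis. -/
def elCentre (c : P) (l : L) : Subgroup G where
  carrier := {g | IsPersp g c l}
  one_mem' := IsPersp.one c l
  inv_mem' := fun h => IsPersp.inv h
  mul_mem' := fun h h' => IsPersp.mul h h'

theorem mem_elCentre {g : G} {c : P} {l : L} : g ∈ elCentre G c l ↔ IsPersp g c l := Iff.rfl

theorem mem_elGroup {g : G} {l : L} : g ∈ elGroup G P l ↔ ∃ c : P, c ∈ l ∧ IsPersp g c l := Iff.rfl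

theorem elCentre_le {c : P} {l : L} (hc : c ∈ l) : elCentre G c l ≤ elGroup G P l :=
  fun _ h => ⟨c, hc, h⟩

theorem elGroup_axial {g : G} {l : L} (h : g ∈ elGroup G P l) {p : P} (hp : p ∈ l) : g • p = p := by
  obtain ⟨c, -, hg⟩ := h
  exact hg.1 p hp

theorem elGroup_off {g : G} {l : L} (h : g ∈ elGroup G P l) {p : P} (hp : p ∉ l) : g • p ∉ l := by
  intro e
  have := elGroup_axial (Subgroup.inv_mem _ h) e
  rw [inv_smul_smul] at this
  exact hp (this ▸ e)

theorem elGroup_free {g : G} {l : L} (h : g ∈ elGroup G P l) {p : P} (hp : p ∉ l)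
    (hfix : g • p = p) : g = 1 := by
  obtain ⟨c, hc, hg⟩ := h
  exact hg.eq_one hp (fun e => hp (e ▸ hc)) hfix

/-- A semiregular subgroup has order dividing the number of points. -/
theorem card_dvd_of_free {X : Type*} [MulAction G X] (H : Subgroup G) (S : Set X)
    (hS : ∀ h ∈ H, ∀ x ∈ S, h • x ∈ S) (hfree : ∀ h ∈ H, ∀ x ∈ S, h • x = x → h = 1) :
    Nat.card H ∣ Nat.card S := by
  letI : MulAction H S :=
    { smul := fun h x => ⟨(h : G) • (x : X), hS h h.2 x x.2⟩
      one_smul := fun x => Subtype.ext (one_smul G (x : X))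
      mul_smul := fun a b x => Subtype.ext (mul_smul (a : G) (b : G) (x : X)) }
  have hst : ∀ x : S, MulAction.stabilizer H x = ⊥ := fun x => (Subgroup.eq_bot_iff_forall _).2
    fun h hh => Subtype.ext (hfree h h.2 x x.2 (congrArg Subtype.val hh))
  rw [Nat.card_congr (MulAction.selfEquivOrbitsQuotientProd' Quotient.out_eq hst), Nat.card_prod]
  exact dvd_mul_left _ _

theorem card_ne_one {G : Type*} [Group G] [Finite G] (H : Subgroup G) :
    Nat.card {x : H // x ≠ 1} = Nat.card H - 1 := by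
  classical
  have := Fintype.ofFinite H
  rw [Nat.card_eq_fintype_card, Nat.card_eq_fintype_card, Fintype.card_subtype_compl,
    Fintype.card_subtype_eq]

theorem card_elGroup_sigma (l : L) :
    Nat.card {x : elGroup G P l // x ≠ 1}
      = Nat.card (Σ c : {c : P // c ∈ l}, {x : elCentre G c.1 l // x ≠ 1}) := by
  refine (Nat.card_eq_of_bijective
    (fun y : (Σ c : {c : P // c ∈ l}, {x : elCentre G c.1 l // x ≠ 1}) =>
      (⟨⟨y.2.1.1, elCentre_le y.1.2 y.2.1.2⟩,
        fun e => y.2.2 (Subtype.ext (congrArg (fun z : elGroup G P l => (z : G)) e))⟩ :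
          {x : elGroup G P l // x ≠ 1})) ⟨?_, ?_⟩).symm
  · intro y y' e
    obtain ⟨⟨c, hc⟩, ⟨x, hx⟩, hx1⟩ := y
    obtain ⟨⟨c', hc'⟩, ⟨x', hx'⟩, hx1'⟩ := y'
    have e' : x = x' := congrArg (fun z : {x : elGroup G P l // x ≠ 1} => ((z.1 : elGroup G P l) : G)) e
    subst e'
    have hcc : c = c' := IsPersp.centre_unique (mem_elCentre.1 hx) (mem_elCentre.1 hx')
      (fun h => hx1 (Subtype.ext h))
    subst hcc
    rfl
  · rintro ⟨⟨x, hx'⟩, hx1⟩
    obtain ⟨c, hc, hx⟩ := mem_elGroup.1 hx'
    exact ⟨⟨⟨c, hc⟩, ⟨x, hx⟩, fun e => hx1 (Subtype.ext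
      (congrArg (fun z : elCentre G c l => (z : G)) e))⟩, rfl⟩

variable (G P L) in
/-- The elations with any axis act transitively off it. -/
def Moufang : Prop :=
  ∀ (l : L) (a b : P), a ∉ l → b ∉ l → ∃ g ∈ elGroup G P l, g • a = b

section TwoTransitive

variable (h2 : TwoTrans G P)

include h2

theorem flag_transitive {c c' : P} {l l' : L} (hc : c ∈ l) (hc' : c' ∈ l') :
    ∃ g : G, g • c = c' ∧ g • l = l' := by
  obtain ⟨a, ha, hac, -⟩ := exists_third_point l c c
  obtain ⟨a', ha', hac', -⟩ := exists_third_point l' c' c'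
  obtain ⟨g, hg1, hg2⟩ := h2 c a c' a' hac.symm hac'.symm
  refine ⟨g, hg1, line_unique hac'.symm ?_ ?_ hc' ha'⟩
  · rw [← hg1]; exact (smul_mem_smul g c l).2 hc
  · rw [← hg2]; exact (smul_mem_smul g a l).2 ha

/-- A perspective involution gives an elation. -/
theorem exists_elation {t : G} {c : P} {l : L} (h : IsPersp t c l) (ht : t * t = 1) (h1 : t ≠ 1) :
    ∃ (g : G) (d : P) (m : L), IsElation g d m ∧ g ≠ 1 := by
  by_cases hcl : c ∈ l
  · exact ⟨t, c, l, ⟨hcl, h⟩, h1⟩
  obtain ⟨x, hxl, -, -⟩ := exists_third_point l c c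
  obtain ⟨y, hy, hyc⟩ : ∃ y : P, y ∉ l ∧ y ≠ c := by
    obtain ⟨m, hm, -, -⟩ := exists_third_line c l l
    obtain ⟨z, hz1, hz2⟩ := exists_point_on P m l
    obtain ⟨y, hy, hyc, hyz⟩ := exists_third_point m c z
    exact ⟨y, fun e => hyz (point_unique (fun e' => hcl (by rw [← e']; exact hm)) hy e hz1 hz2), hyc⟩
  obtain ⟨k, hkc, hkx⟩ := h2 c x c y (fun e => hcl (by rw [e]; exact hxl)) hyc.symm
  have h' := h.conj k
  rw [hkc] at h'
  set h₀ := k * t * k⁻¹
  have hne : k • l ≠ l := by
    intro e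
    apply hy
    rw [← hkx, ← e]
    exact (smul_mem_smul k x l).2 hxl
  have h₀2 : h₀ * h₀ = 1 := by
    show k * t * k⁻¹ * (k * t * k⁻¹) = 1
    rw [show k * t * k⁻¹ * (k * t * k⁻¹) = k * (t * t) * k⁻¹ by group, ht]
    group
  have h₀1 : h₀ ≠ 1 := fun e => h1 (conj_eq_one_iff.1 e)
  set d := t * h₀
  have hd1 : d ≠ 1 := by
    intro e
    have he : h₀ = t := (mul_left_cancel (e.trans ht.symm))
    rw [he] at h'
    exact hne (h'.axis_unique h h1)
  obtain ⟨m, hm⟩ := exists_axis (P := P) (L := L) (g := d) (c := c) fun z hz => by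
    rw [mul_smul, h'.2 z hz, h.2 z hz]
  by_cases hcm : c ∈ m
  · exact ⟨d, c, m, ⟨hcm, hm⟩, hd1⟩
  exfalso
  have hti : t⁻¹ = t := inv_eq_of_mul_eq_one_right ht
  have hconj : t * d * t⁻¹ = d⁻¹ := by
    rw [hti]
    show t * (t * h₀) * t = (t * h₀)⁻¹
    rw [← mul_assoc t t h₀, ht, one_mul, mul_inv_rev, hti,
      inv_eq_of_mul_eq_one_right h₀2]
  have hdm := hm.conj t
  rw [hconj, h.smul_centre] at hdm
  have htm : t • m = m := hdm.axis_unique hm.inv (inv_ne_one.2 hd1)
  have hml : m = l := by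
    by_contra hml
    obtain ⟨z, hz1, hz2⟩ := exists_point_on P m l
    obtain ⟨w, hw, hwz, -⟩ := exists_third_point m z z
    obtain ⟨n, hn1, hn2⟩ := exists_line_through L w c
    have hnm : n ≠ m := fun e => hcm (e ▸ hn2)
    have hwl : w ∉ l := fun e => hwz (point_unique hml hw e hz1 hz2)
    exact h1 (h.eq_one hwl (fun e => hcm (e ▸ hw))
      (fixed_point_of_lines hnm hn1 hw (h.2 n hn2) htm))
  subst hml
  have h₀ax : ∀ p : P, p ∈ m → h₀ • p = p := by
    intro p hp
    have : h₀ = t⁻¹ * d := by show h₀ = t⁻¹ * (t * h₀); group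
    rw [this, mul_smul, hm.1 p hp, inv_smul_eq_iff, h.1 p hp]
  obtain ⟨e, he⟩ := exists_centre h₀ax
  exact hne (h'.axis_unique he h₀1)

/-- One elation gives the whole translation group of every line. -/
theorem moufang_of_elation [Finite G] {g : G} {d : P} {m : L} (hg : IsElation g d m) (hg1 : g ≠ 1) :
    Moufang G P L := by
  classical
  intro l a b ha hb
  set n := ord P L with hn
  set T := elGroup G P l with hT
  set h := Nat.card (elCentre G d m) with hh
  have hconst : ∀ c : P, c ∈ l → Nat.card (elCentre G c l) = h := by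
    intro c hc
    obtain ⟨k, hk1, hk2⟩ := flag_transitive h2 hg.1 hc
    have e : (elCentre G d m).map (MulAut.conj k).toMonoidHom = elCentre G c l := by
      ext x
      constructor
      · rintro ⟨y, hy, rfl⟩
        have := IsPersp.conj (mem_elCentre.1 hy) k
        rw [hk1, hk2] at this
        exact this
      · intro hx
        refine ⟨k⁻¹ * x * k, ?_, by simp [mul_assoc]⟩
        have := IsPersp.conj (mem_elCentre.1 hx) k⁻¹
        rw [inv_inv, ← hk1, ← hk2, inv_smul_smul, inv_smul_smul] at this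
        exact this
    rw [← e, Subgroup.card_map_of_injective (MulAut.conj k).injective]
  have h2le : 2 ≤ h := by
    have : Nontrivial (elCentre G d m) :=
      ⟨⟨⟨g, hg.2⟩, 1, fun e => hg1 (congrArg Subtype.val e)⟩⟩
    exact Finite.one_lt_card
  have hdvd : Nat.card T ∣ n ^ 2 := by
    rw [hn, ← card_off_line (P := P) l]
    exact card_dvd_of_free T {p | p ∉ l} (fun x hx p hp => elGroup_off hx hp)
      (fun x hx p hp => elGroup_free hx hp)
  have hhn : h ∣ n := by
    obtain ⟨c, hc, -⟩ := exists_point_on P l l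
    obtain ⟨k, hck, hkl, -⟩ := exists_third_line c l l
    rw [← hconst c hc]
    have hcard : Nat.card {p : P // p ∈ k ∧ p ≠ c} = n := by
      have h1 := card_on_line (P := P) k
      rw [← Nat.card_congr (Equiv.subtypeSubtypeEquivSubtypeInter (fun p : P => p ∈ k) (fun p => p ≠ c))]
      have := Fintype.ofFinite P
      rw [Nat.card_eq_fintype_card] at h1 ⊢
      rw [Fintype.card_subtype_compl, h1]
      have : Fintype.card {x : {p : P // p ∈ k} // x.1 = c} = 1 :=
        Fintype.card_eq_one_iff.2 ⟨⟨⟨c, hck⟩, rfl⟩, fun x => Subtype.ext (Subtype.ext x.2)⟩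
      omega
    rw [← hcard]
    refine card_dvd_of_free (elCentre G c l) {p : P | p ∈ k ∧ p ≠ c} ?_ ?_
    · rintro x hx p ⟨hp, hpc⟩
      have hx' := mem_elCentre.1 hx
      refine ⟨hx'.smul_mem hp hck, fun e => hpc ?_⟩
      rw [← hx'.smul_centre] at e
      exact MulAction.injective x e
    · rintro x hx p ⟨hp, hpc⟩ hfix
      exact (mem_elCentre.1 hx).eq_one (fun e => hpc (point_unique hkl hp e hck hc)) hpc hfix
  have hcount : Nat.card T = (n + 1) * (h - 1) + 1 := by
    have e1 := card_elGroup_sigma (G := G) (P := P) l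
    have hsub : ∀ (H : Subgroup G), Nat.card {x : H // x ≠ 1} = Nat.card H - 1 := fun H =>
      card_ne_one H
    have hsum : Nat.card (Σ c : {c : P // c ∈ l}, {x : elCentre G c.1 l // x ≠ 1})
        = (n + 1) * (h - 1) := by
      haveI : Fintype {c : P // c ∈ l} := Fintype.ofFinite _
      rw [Nat.card_sigma]
      have hall : ∀ c : {c : P // c ∈ l}, Nat.card {x : elCentre G c.1 l // x ≠ 1} = h - 1 :=
        fun c => (hsub (elCentre G c.1 l)).trans (congrArg (fun z => z - 1) (hconst c.1 c.2))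
      simp only [hall, Finset.sum_const, smul_eq_mul, Finset.card_univ]
      rw [← Nat.card_eq_fintype_card, card_on_line l]
    have h0 : Nat.card T - 1 = (n + 1) * (h - 1) := (hsub T).symm.trans (e1.trans hsum)
    have : 0 < Nat.card T := Nat.card_pos
    omega
  -- arithmetic: the group has order `n ^ 2`
  have hT2 : Nat.card T = n ^ 2 := by
    obtain ⟨k, hk⟩ := hhn
    obtain ⟨u, hu⟩ : ∃ u, h = u + 1 := ⟨h - 1, by omega⟩
    have hf : Nat.card T = h * (k * u + 1) := by
      rw [hcount, hk, hu]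
      simp only [Nat.add_sub_cancel]
      ring
    rw [hf] at hdvd
    have h3 : k * u + 1 ∣ h * k ^ 2 := by
      rw [hk, show (h * k) ^ 2 = h * (h * k ^ 2) by ring] at hdvd
      exact Nat.dvd_of_mul_dvd_mul_left (by omega) hdvd
    have h4 : k * u + 1 ∣ h := by
      refine (Nat.Coprime.dvd_of_dvd_mul_right ?_ h3)
      refine Nat.Coprime.pow_right 2 ?_
      rw [Nat.coprime_comm, Nat.coprime_mul_left_add_right]
      exact Nat.coprime_one_right k
    have h5 := Nat.le_of_dvd (by omega) h4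
    have hk1 : k = 1 := by
      rcases k with _ | _ | k
      · rw [mul_zero] at hk
        have := two_le_ord P L
        omega
      · rfl
      · have : 1 ≤ u := by omega
        nlinarith
    rw [hf, hk, hk1, hu]
    ring
  let f : T → {p : P // p ∉ l} := fun x => ⟨(x : G) • a, elGroup_off x.2 ha⟩
  have hinj : Function.Injective f := by
    intro x y e
    have e' : (x : G) • a = (y : G) • a := congrArg Subtype.val e
    have h1 := elGroup_free (T.mul_mem (T.inv_mem y.2) x.2) ha
      (by rw [mul_smul, e', inv_smul_smul])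
    exact Subtype.ext (inv_mul_eq_one.1 h1).symm
  have hbij := hinj.bijective_of_nat_card_le (by rw [hT2, card_off_line])
  obtain ⟨x, hx⟩ := hbij.2 ⟨b, hb⟩
  exact ⟨x, x.2, congrArg Subtype.val hx⟩

end TwoTransitive

/-- In the Moufang case every prime divisor of the order is the order of an elation. -/
theorem Moufang.exists_elation_order [Finite G] (hM : Moufang G P L) {q : ℕ} (hq : q.Prime)
    (hdvd : q ∣ ord P L) : ∃ (g : G) (c : P) (l : L), IsElation g c l ∧ orderOf g = q := by
  haveI : Fact q.Prime := ⟨hq⟩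
  obtain ⟨p₁, p₂, p₃, l, l₂, l₃, h₁₂, h₁₃, h₂₁, h₂₂, h₂₃, h₃₁, h₃₂, h₃₃⟩ :=
    @ProjectivePlane.exists_config P L _ _
  let f : elGroup G P l → {p : P // p ∉ l} := fun x => ⟨(x : G) • p₂, elGroup_off x.2 h₂₁⟩
  have hf : Function.Surjective f := fun y => by
    obtain ⟨g, hg, e⟩ := hM l p₂ y.1 h₂₁ y.2
    exact ⟨⟨g, hg⟩, Subtype.ext e⟩
  have hf' : Function.Injective f := by
    intro x y e
    have e' : (x : G) • p₂ = (y : G) • p₂ := congrArg Subtype.val e
    have h1 := elGroup_free ((elGroup G P l).mul_mem ((elGroup G P l).inv_mem y.2) x.2) h₂₁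
      (by rw [mul_smul, e', inv_smul_smul])
    exact Subtype.ext (inv_mul_eq_one.1 h1).symm
  have hcard : Nat.card (elGroup G P l) = ord P L ^ 2 := by
    rw [Nat.card_congr (Equiv.ofBijective f ⟨hf', hf⟩), card_off_line]
  obtain ⟨x, hx⟩ := exists_prime_orderOf_dvd_card' q (G := elGroup G P l)
    (by rw [hcard, sq]; exact dvd_mul_of_dvd_left hdvd _)
  obtain ⟨c, hc, h⟩ := x.2
  exact ⟨(x : G), c, l, ⟨hc, h⟩, by rw [Subgroup.orderOf_coe, hx]⟩

end CfsgLib.OstromWagner
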