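import Cfsg.Agent.Lib.OstromWagner.Moufang
import Mathlib.GroupTheory.GroupAction.Quotient
import Mathlib.SetTheory.Cardinal.Finite

/-!
# Consequences of two-transitivity on points: antiflags and pairs of lines
-/

set_option autoImplicit false
set_option linter.unusedSectionVars false

namespace CfsgLib.OstromWagner

open Configuration

variable {G P L : Type*} [Group G] [MulAction G P] [MulAction G L] [Membership P L]
  [IsCollAction G P L] [ProjectivePlane P L] [Finite P] [Finite L] [FaithfulSMul G P] [Finite G]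

variable (L) in
/-- A group of collineations has as many point orbits as line orbits. -/
theorem card_orbits (H : Subgroup G) :
    Nat.card (MulAction.orbitRel.Quotient H P) = Nat.card (MulAction.orbitRel.Quotient H L) := by
  classical
  have := Fintype.ofFinite H
  have := Fintype.ofFinite P
  have := Fintype.ofFinite L
  have hp := MulAction.sum_card_fixedBy_eq_card_orbits_mul_card_group H P
  have hl := MulAction.sum_card_fixedBy_eq_card_orbits_mul_card_group H L
  have e : ∀ h : H, Fintype.card (MulAction.fixedBy P h) = Fintype.card (MulAction.fixedBy L h) := by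
    intro h
    rw [← Nat.card_eq_fintype_card, ← Nat.card_eq_fintype_card]
    exact parker L (h : G)
  rw [Finset.sum_congr rfl (fun h _ => e h), hl] at hp
  rw [Nat.card_eq_fintype_card, Nat.card_eq_fintype_card]
  exact (Nat.eq_of_mul_eq_mul_right Fintype.card_pos hp).symm

variable (h2 : TwoTrans G P)

include h2

/-- Transitivity on antiflags. -/
theorem antiflag_transitive {x y : P} {l m : L} (hx : x ∉ l) (hy : y ∉ m) :
    ∃ g : G, g • x = y ∧ g • l = m := by
  classical
  obtain ⟨g₀, hg₀⟩ : ∃ g : G, g • x = y := by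
    rcases eq_or_ne x y with rfl | h
    · exact ⟨1, one_smul _ _⟩
    · obtain ⟨g, hg, -⟩ := h2 x y y x h h.symm
      exact ⟨g, hg⟩
  set H := MulAction.stabilizer G y
  have hfix : ∀ h : H, h • y = y := fun h => h.2
  -- two orbits of points
  have hP : Nat.card (MulAction.orbitRel.Quotient H P) = 2 := by
    obtain ⟨z, hz, -, -⟩ := exists_third_point (P := P) m y y
    have hzy : z ≠ y := fun e => hy (e ▸ hz)
    rw [Nat.card_eq_two_iff]
    refine ⟨Quotient.mk'' y, Quotient.mk'' z, fun e => ?_, ?_⟩
    · obtain ⟨h, hh⟩ := MulAction.orbitRel_apply.1 (Quotient.eq''.1 e)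
      have hh' : h • z = y := hh
      exact hzy (MulAction.injective h (hh'.trans (hfix h).symm))
    · refine Set.eq_univ_of_forall fun q => ?_
      induction q using Quotient.inductionOn' with
      | h w =>
        rcases eq_or_ne w y with rfl | hwy
        · exact Or.inl rfl
        · obtain ⟨g, hga, hgb⟩ := h2 y z y w hzy.symm hwy.symm
          exact Or.inr (Quotient.sound'
            (MulAction.orbitRel_apply.2 ⟨⟨g, hga⟩, hgb⟩))
  obtain ⟨m₀, hm₀, -⟩ := exists_line_through L y y
  have hl' : y ∉ g₀ • l := by rw [← hg₀, smul_mem_smul]; exact hx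
  have hne : ∀ k : L, y ∉ k →
      (Quotient.mk'' m₀ : MulAction.orbitRel.Quotient H L) ≠ Quotient.mk'' k := by
    intro k hk e
    obtain ⟨h, hh⟩ := MulAction.orbitRel_apply.1 (Quotient.eq''.1 e)
    have hh' : (h : G) • k = m₀ := hh
    apply hk
    rw [← hh', ← h.2, smul_mem_smul] at hm₀
    exact hm₀
  rw [card_orbits L H, Nat.card_eq_two_iff' (Quotient.mk'' m₀)] at hP
  obtain ⟨q, -, hq⟩ := hP
  have e : (Quotient.mk'' m : MulAction.orbitRel.Quotient H L) = Quotient.mk'' (g₀ • l) :=
    (hq _ (hne m hy).symm).trans (hq _ (hne _ hl').symm).symm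
  obtain ⟨h, hh⟩ := MulAction.orbitRel_apply.1 (Quotient.eq''.1 e)
  refine ⟨(h : G) * g₀, ?_, ?_⟩
  · rw [mul_smul, hg₀]; exact h.2
  · rw [mul_smul]; exact hh

/-- Two-transitivity on lines. -/
theorem twoTrans_lines : TwoTrans G (Configuration.Dual L) := by
  classical
  intro a b c d hab hcd
  show ∃ g : G, (g • (show L from a)) = c ∧ (g • (show L from b)) = d
  set a' : L := a
  set b' : L := b
  set c' : L := c
  set d' : L := d
  obtain ⟨x, hxa, -, -⟩ := exists_third_point a' (Classical.choose (exists_point_on P a' a'))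
    (Classical.choose (exists_point_on P a' a'))
  obtain ⟨y, hyc, -, -⟩ := exists_third_point c' x x
  obtain ⟨g₀, -, hg₀⟩ := flag_transitive h2 hxa hyc
  set H := MulAction.stabilizer G c'
  have hfix : ∀ h : H, h • c' = c' := fun h => h.2
  have hLc : Nat.card (MulAction.orbitRel.Quotient H L) = 2 := by
    rw [← card_orbits L H]
    obtain ⟨w, hw⟩ := Nondegenerate.exists_point (P := P) c'
    rw [Nat.card_eq_two_iff]
    refine ⟨Quotient.mk'' y, Quotient.mk'' w, fun e => ?_, ?_⟩
    · obtain ⟨h, hh⟩ := MulAction.orbitRel_apply.1 (Quotient.eq''.1 e)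
      have hh' : (h : G) • w = y := hh
      apply hw
      rw [← hh', ← h.2, smul_mem_smul] at hyc
      exact hyc
    · refine Set.eq_univ_of_forall fun q => ?_
      induction q using Quotient.inductionOn' with
      | h z =>
        by_cases hz : z ∈ c'
        · obtain ⟨g, hg1, hg2⟩ := flag_transitive h2 hyc hz
          exact Or.inl (Quotient.sound' (MulAction.orbitRel_apply.2 ⟨⟨g, hg2⟩, hg1⟩))
        · obtain ⟨g, hg1, hg2⟩ := antiflag_transitive h2 hw hz
          exact Or.inr (Quotient.sound' (MulAction.orbitRel_apply.2 ⟨⟨g, hg2⟩, hg1⟩))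
  have hne : ∀ k : L, k ≠ c' →
      (Quotient.mk'' c' : MulAction.orbitRel.Quotient H L) ≠ Quotient.mk'' k := by
    intro k hk e
    obtain ⟨h, hh⟩ := MulAction.orbitRel_apply.1 (Quotient.eq''.1 e)
    have hh' : h • k = c' := hh
    exact hk (MulAction.injective h (hh'.trans (hfix h).symm))
  have hb : g₀ • b' ≠ c' := by
    rw [← hg₀]
    exact fun h => hab (MulAction.injective g₀ h).symm
  rw [Nat.card_eq_two_iff' (Quotient.mk'' c')] at hLc
  obtain ⟨q, -, hq⟩ := hLc
  have e : (Quotient.mk'' d' : MulAction.orbitRel.Quotient H L) = Quotient.mk'' (g₀ • b') :=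
    (hq _ (hne d' (Ne.symm hcd)).symm).trans (hq _ (hne _ hb).symm).symm
  obtain ⟨h, hh⟩ := MulAction.orbitRel_apply.1 (Quotient.eq''.1 e)
  refine ⟨(h : G) * g₀, ?_, ?_⟩
  · rw [mul_smul, hg₀]; exact h.2
  · rw [mul_smul]; exact hh

end CfsgLib.OstromWagner
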