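import Mathlib

/-!
# Parker's lemma: a collineation of a finite projective plane fixes as many points as lines
-/

namespace CfsgLib.OW
open Configuration

variable {P L : Type*} [Membership P L] [Fintype P] [Fintype L] [ProjectivePlane P L]

/-- Parker: a collineation fixes as many points as lines. -/
theorem card_fixed_points_eq_card_fixed_lines (σ : Equiv.Perm P) (τ : Equiv.Perm L)
    (h : ∀ p l, σ p ∈ τ l ↔ p ∈ l) :
    Nat.card {p : P // σ p = p} = Nat.card {l : L // τ l = l} := by
  classical
  set n := ProjectivePlane.order P L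
  have hτ : ∀ p l, (σ p ∈ l) ↔ p ∈ τ.symm l := fun p l => by
    rw [← h p (τ.symm l), Equiv.apply_symm_apply]
  have hline : ∀ p, (Finset.univ.filter (fun l : L => p ∈ l ∧ σ p ∈ l)).card
      = 1 + n * (if σ p = p then 1 else 0) := by
    intro p
    by_cases hp : σ p = p
    · have h1 := ProjectivePlane.lineCount_eq L p
      simp only [lineCount, Nat.card_eq_fintype_card, Fintype.card_subtype] at h1
      simp [hp, h1]; omega
    · obtain ⟨l₀, hl₀, huniq⟩ := HasLines.existsUnique_line P L p (σ p) (Ne.symm hp)
      rw [if_neg hp, mul_zero, add_zero, Finset.card_eq_one]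
      exact ⟨l₀, by ext l; simp only [Finset.mem_filter, Finset.mem_univ, true_and,
        Finset.mem_singleton]; exact ⟨fun hl => huniq l hl, fun hl => hl ▸ hl₀⟩⟩
  have hpoint : ∀ l, (Finset.univ.filter (fun p : P => p ∈ l ∧ σ p ∈ l)).card
      = 1 + n * (if τ l = l then 1 else 0) := by
    intro l
    have hiff : ∀ p, (p ∈ l ∧ σ p ∈ l) ↔ (p ∈ l ∧ p ∈ τ.symm l) := fun p => by rw [hτ]
    rw [Finset.filter_congr (fun p _ => hiff p)]
    by_cases hl : τ l = l
    · have hl' : τ.symm l = l := by rw [Equiv.symm_apply_eq, hl]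
      have h1 := ProjectivePlane.pointCount_eq P l
      simp only [pointCount, Nat.card_eq_fintype_card, Fintype.card_subtype] at h1
      simp [hl, hl', h1]; omega
    · have hne : l ≠ τ.symm l := fun he => hl (by rw [← Equiv.eq_symm_apply]; exact he)
      obtain ⟨p₀, hp₀, huniq⟩ := HasPoints.existsUnique_point P L l (τ.symm l) hne
      rw [if_neg hl, mul_zero, add_zero, Finset.card_eq_one]
      exact ⟨p₀, by ext p; simp only [Finset.mem_filter, Finset.mem_univ, true_and,
        Finset.mem_singleton]; exact ⟨fun hp => huniq p hp, fun hp => hp ▸ hp₀⟩⟩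
  have key := Finset.sum_card_bipartiteAbove_eq_sum_card_bipartiteBelow
    (s := (Finset.univ : Finset P)) (t := (Finset.univ : Finset L))
    (fun p l => p ∈ l ∧ σ p ∈ l)
  simp only [Finset.bipartiteAbove, Finset.bipartiteBelow] at key
  rw [Finset.sum_congr rfl (fun p _ => hline p), Finset.sum_congr rfl (fun l _ => hpoint l),
    Finset.sum_add_distrib, Finset.sum_add_distrib, ← Finset.mul_sum, ← Finset.mul_sum,
    Finset.sum_boole, Finset.sum_boole] at key
  simp only [Finset.sum_const, Finset.card_univ, smul_eq_mul, mul_one,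
    ProjectivePlane.card_points_eq_card_lines P L, add_right_inj, Nat.cast_id] at key
  have hn : 0 < n := lt_trans Nat.zero_lt_one (ProjectivePlane.one_lt_order P L)
  rw [Nat.card_eq_fintype_card, Nat.card_eq_fintype_card, Fintype.card_subtype,
    Fintype.card_subtype]
  exact Nat.eq_of_mul_eq_mul_left hn key

end CfsgLib.OW
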