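import Mathlib.Combinatorics.Configuration

/-!
# Finite projective planes: basic incidence facts
-/

set_option autoImplicit false
set_option linter.unusedSectionVars false

namespace CfsgLib.OstromWagner

open Configuration

variable {P L : Type*} [Membership P L] [ProjectivePlane P L]

/-- Three points are not collinear. -/
def NonColl (L : Type*) {P : Type*} [Membership P L] (a b c : P) : Prop :=
  ∀ l : L, ¬(a ∈ l ∧ b ∈ l ∧ c ∈ l)

/-- A quadrangle: no three of the four points are collinear. -/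
def Quad (L : Type*) {P : Type*} [Membership P L] (a b c d : P) : Prop :=
  NonColl L a b c ∧ NonColl L a b d ∧ NonColl L a c d ∧ NonColl L b c d

theorem line_unique {a b : P} {l m : L} (h : a ≠ b) (hal : a ∈ l) (hbl : b ∈ l) (ham : a ∈ m)
    (hbm : b ∈ m) : l = m :=
  (Nondegenerate.eq_or_eq hal hbl ham hbm).resolve_left h

theorem point_unique {a b : P} {l m : L} (h : l ≠ m) (hal : a ∈ l) (ham : a ∈ m) (hbl : b ∈ l)
    (hbm : b ∈ m) : a = b :=
  (Nondegenerate.eq_or_eq hal hbl ham hbm).resolve_right h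

variable (L) in
theorem exists_line_through (a b : P) : ∃ l : L, a ∈ l ∧ b ∈ l := by
  classical
  rcases eq_or_ne a b with rfl | h
  · obtain ⟨q, hq⟩ : ∃ q : P, q ≠ a := by
      obtain ⟨l, hl⟩ := Nondegenerate.exists_line (L := L) a
      obtain ⟨p₁, p₂, p₃, l₁, l₂, l₃, h₁₂, h₁₃, h₂₁, h₂₂, h₂₃, h₃₁, h₃₂, h₃₃⟩ :=
        @ProjectivePlane.exists_config P L _ _
      by_contra hcon
      push Not at hcon
      exact h₁₂ ((hcon p₁).trans (hcon p₂).symm ▸ h₂₂)
    exact ⟨_, (HasLines.mkLine_ax (L := L) hq.symm).1, (HasLines.mkLine_ax (L := L) hq.symm).1⟩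
  · exact ⟨_, HasLines.mkLine_ax h⟩

variable (P) in
theorem exists_point_on (l m : L) : ∃ a : P, a ∈ l ∧ a ∈ m :=
  exists_line_through (P := Dual L) (Dual P) l m

variable [Finite P] [Finite L]

variable (P L) in
/-- The order of the plane. -/
noncomputable abbrev ord : ℕ := ProjectivePlane.order P L

variable (P L) in
theorem two_le_ord : 2 ≤ ord P L := ProjectivePlane.one_lt_order P L

theorem card_on_line (l : L) : Nat.card {p : P // p ∈ l} = ord P L + 1 :=
  ProjectivePlane.pointCount_eq P l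

theorem card_through (p : P) : Nat.card {l : L // p ∈ l} = ord P L + 1 :=
  ProjectivePlane.lineCount_eq L p

variable (P L) in
theorem card_all_points : Nat.card P = ord P L ^ 2 + ord P L + 1 := by
  have := Fintype.ofFinite P
  rw [Nat.card_eq_fintype_card, ProjectivePlane.card_points P L]

variable (P L) in
theorem card_all_lines : Nat.card L = ord P L ^ 2 + ord P L + 1 := by
  have := Fintype.ofFinite L
  rw [Nat.card_eq_fintype_card, ProjectivePlane.card_lines P L]

theorem card_off_line (l : L) : Nat.card {p : P // p ∉ l} = ord P L ^ 2 := by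
  classical
  have := Fintype.ofFinite P
  have h1 := card_on_line (P := P) l
  have h2 := card_all_points P L
  rw [Nat.card_eq_fintype_card] at h1 h2 ⊢
  rw [Fintype.card_subtype_compl]
  omega

/-- Every line has a point off any two given points. -/
theorem exists_third_point (l : L) (a b : P) : ∃ c : P, c ∈ l ∧ c ≠ a ∧ c ≠ b := by
  classical
  by_contra h
  push Not at h
  have hc := card_on_line (P := P) l
  have hle : Nat.card {p : P // p ∈ l} ≤ Nat.card (Fin 2) := by
    refine Nat.card_le_card_of_injective (fun x => if x.1 = a then 0 else 1) ?_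
    intro x y hxy
    apply Subtype.ext
    by_cases hx : x.1 = a <;> by_cases hy : y.1 = a
    · rw [hx, hy]
    · simp [hx, hy] at hxy
    · simp [hx, hy] at hxy
    · rw [h _ x.2 hx, h _ y.2 hy]
  rw [Nat.card_fin, hc] at hle
  have := two_le_ord P L
  omega

theorem exists_third_line (p : P) (a b : L) : ∃ c : L, p ∈ c ∧ c ≠ a ∧ c ≠ b :=
  exists_third_point (P := Dual L) (L := Dual P) p a b

theorem exists_off_two_lines (l m : L) : ∃ p : P, p ∉ l ∧ p ∉ m := by
  obtain ⟨a, hal⟩ : ∃ a : P, a ∈ l ∧ (a ∉ m ∨ l = m) := by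
    rcases eq_or_ne l m with rfl | h
    · obtain ⟨a, ha⟩ := exists_point_on P l l
      exact ⟨a, ha.1, Or.inr rfl⟩
    · obtain ⟨z, hz⟩ := exists_point_on P l m
      obtain ⟨a, ha, haz, -⟩ := exists_third_point l z z
      exact ⟨a, ha, Or.inl fun ham => haz (point_unique h ha ham hz.1 hz.2)⟩
  obtain ⟨k, hak, hkl, hkm⟩ := exists_third_line a l m
  obtain ⟨z, hz⟩ := exists_point_on P k m
  obtain ⟨p, hp, hpa, hpz⟩ := exists_third_point k a z
  exact ⟨p, fun h => hpa (point_unique hkl hp h hak hal.1),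
    fun h => hpz (point_unique hkm hp h hz.1 hz.2)⟩

theorem NonColl.perm₁ {a b c : P} (h : NonColl L a b c) : NonColl L b a c :=
  fun l hl => h l ⟨hl.2.1, hl.1, hl.2.2⟩

theorem NonColl.perm₂ {a b c : P} (h : NonColl L a b c) : NonColl L a c b :=
  fun l hl => h l ⟨hl.1, hl.2.2, hl.2.1⟩

theorem NonColl.ne₁₂ {a b c : P} (h : NonColl L a b c) : a ≠ b := by
  rintro rfl
  obtain ⟨l, hl⟩ := exists_line_through L a c
  exact h l ⟨hl.1, hl.1, hl.2⟩

theorem NonColl.ne₁₃ {a b c : P} (h : NonColl L a b c) : a ≠ c := h.perm₂.ne₁₂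

theorem NonColl.ne₂₃ {a b c : P} (h : NonColl L a b c) : b ≠ c := h.perm₁.perm₂.ne₁₂

theorem nonColl_of {a b c : P} {l : L} (hab : a ≠ b) (ha : a ∈ l) (hb : b ∈ l) (hc : c ∉ l) :
    NonColl L a b c :=
  fun _ hm => hc (line_unique hab hm.1 hm.2.1 ha hb ▸ hm.2.2)

variable (L) in
/-- A set of points either contains a quadrangle or lies in a line and one further point. -/
theorem quad_or_degenerate (F : Set P) :
    (∃ a b c d, a ∈ F ∧ b ∈ F ∧ c ∈ F ∧ d ∈ F ∧ Quad L a b c d) ∨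
      ∃ (l : L) (a : P), ∀ x ∈ F, x ∈ l ∨ x = a := by
  classical
  obtain ⟨p₁, p₂, p₃, l₁, l₂, l₃, h₁₂, h₁₃, h₂₁, h₂₂, h₂₃, h₃₁, h₃₂, h₃₃⟩ :=
    @ProjectivePlane.exists_config P L _ _
  by_cases hq : ∃ a b c d, a ∈ F ∧ b ∈ F ∧ c ∈ F ∧ d ∈ F ∧ Quad L a b c d
  · exact Or.inl hq
  refine Or.inr ?_
  by_cases hcol : ∃ a b c, a ∈ F ∧ b ∈ F ∧ c ∈ F ∧ NonColl L a b c
  · obtain ⟨a, b, c, ha, hb, hc, habc⟩ := hcol
    obtain ⟨lab, hab⟩ := exists_line_through L a b
    obtain ⟨lbc, hbc⟩ := exists_line_through L b c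
    obtain ⟨lca, hca⟩ := exists_line_through L c a
    have hside : ∀ x ∈ F, x ∈ lab ∨ x ∈ lbc ∨ x ∈ lca := by
      intro x hx
      by_contra h
      push Not at h
      exact hq ⟨a, b, c, x, ha, hb, hc, hx, habc, nonColl_of habc.ne₁₂ hab.1 hab.2 h.1,
        nonColl_of habc.ne₁₃ hca.2 hca.1 h.2.2, nonColl_of habc.ne₂₃ hbc.1 hbc.2 h.2.1⟩
    -- two sides cannot both carry further points
    have key : ∀ a b c d e : P, ∀ lab lbc : L, a ∈ F → c ∈ F → d ∈ F → e ∈ F → NonColl L a b c →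
        a ∈ lab → b ∈ lab → b ∈ lbc → c ∈ lbc → d ∈ lab → d ≠ a → d ≠ b → e ∈ lbc → e ≠ b →
        e ≠ c → False := by
      intro a b c d e lab lbc ha hc hd he h hal hbl hbm hcm hdl hda hdb hem heb hec
      have hne : lab ≠ lbc := fun hh => h lab ⟨hal, hbl, hh ▸ hcm⟩
      have hcl : c ∉ lab := fun hh => h lab ⟨hal, hbl, hh⟩
      have ham : a ∉ lbc := fun hh => h lbc ⟨hh, hbm, hcm⟩
      have hel : e ∉ lab := fun hh => heb (point_unique hne hh hem hbl hbm)
      have hdm : d ∉ lbc := fun hh => hdb (point_unique hne hdl hh hbl hbm)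
      exact hq ⟨a, d, c, e, ha, hd, hc, he, nonColl_of hda.symm hal hdl hcl,
        nonColl_of hda.symm hal hdl hel,
        (nonColl_of hec.symm hcm hem ham).perm₂.perm₁,
        (nonColl_of hec.symm hcm hem hdm).perm₂.perm₁⟩
    by_cases h1 : ∀ x ∈ F, x ∈ lbc ∨ x = a
    · exact ⟨lbc, a, h1⟩
    by_cases h2 : ∀ x ∈ F, x ∈ lca ∨ x = b
    · exact ⟨lca, b, h2⟩
    by_cases h3 : ∀ x ∈ F, x ∈ lab ∨ x = c
    · exact ⟨lab, c, h3⟩
    push Not at h1 h2 h3
    obtain ⟨x, hx, hx1, hxa⟩ := h1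
    obtain ⟨y, hy, hy1, hyb⟩ := h2
    obtain ⟨z, hz, hz1, hzc⟩ := h3
    exfalso
    have hxb : x ≠ b := fun h => hx1 (h ▸ hbc.1)
    have hxc : x ≠ c := fun h => hx1 (h ▸ hbc.2)
    have hyc : y ≠ c := fun h => hy1 (h ▸ hca.1)
    have hya : y ≠ a := fun h => hy1 (h ▸ hca.2)
    have hza : z ≠ a := fun h => hz1 (h ▸ hab.1)
    have hzb : z ≠ b := fun h => hz1 (h ▸ hab.2)
    rcases (hside x hx) with hxs | hxs | hxs
    · -- `x` on `ab`, `z` off `ab`
      rcases (hside z hz) with hzs | hzs | hzs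
      · exact hz1 hzs
      · exact key a b c x z lab lbc ha hc hx hz habc hab.1 hab.2 hbc.1 hbc.2 hxs hxa hxb hzs hzb hzc
      · exact key b a c x z lab lca hb hc hx hz habc.perm₁ hab.2 hab.1 hca.2 hca.1 hxs hxb hxa hzs
          hza hzc
    · exact hx1 hxs
    · -- `x` on `ca`, `y` off `ca`
      rcases (hside y hy) with hys | hys | hys
      · exact key c a b x y lca lab hc hb hx hy habc.perm₂.perm₁ hca.1 hca.2 hab.1 hab.2 hxs hxc hxa
          hys hya hyb
      · exact key a c b x y lca lbc ha hb hx hy habc.perm₂ hca.2 hca.1 hbc.2 hbc.1 hxs hxa hxc hys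
          hyc hyb
      · exact hy1 hys
  · push Not at hcol
    by_cases htwo : ∃ a b, a ∈ F ∧ b ∈ F ∧ a ≠ b
    · obtain ⟨a, b, ha, hb, hab⟩ := htwo
      obtain ⟨l, hl⟩ := exists_line_through L a b
      refine ⟨l, a, fun x hx => Or.inl ?_⟩
      by_contra hxl
      exact hcol a b x ha hb hx (nonColl_of hab hl.1 hl.2 hxl)
    · push Not at htwo
      rcases F.eq_empty_or_nonempty with hF | ⟨a, ha⟩
      · exact ⟨l₁, p₁, fun x hx => absurd hx (by simp [hF])⟩
      · exact ⟨l₁, a, fun x hx => Or.inr (htwo x a hx ha)⟩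

/-- The dual of a quadrangle is a quadrilateral; in particular a quadrangle misses a line. -/
theorem Quad.exists_off {a b c d : P} (h : Quad L a b c d) (l : L) :
    a ∉ l ∨ b ∉ l ∨ c ∉ l := by
  by_contra hc
  push Not at hc
  exact h.1 l ⟨hc.1, hc.2.1, hc.2.2⟩

end CfsgLib.OstromWagner
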