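import Cfsg.Agent.Lib.OstromWagner.SpreadField
import Mathlib.Algebra.CharP.Lemmas
import Mathlib.Algebra.CharP.Frobenius

/-!
# The irreducible case, and the conclusion: a spread set closed under `a b a` is a field
-/

set_option autoImplicit false
set_option linter.unusedSectionVars false

namespace CfsgLib.OstromWagner

open Finset Function

variable {A : Type*} [Ring A] [Finite A] [Nontrivial A]
  {p : ℕ} [hp : Fact p.Prime] {K : Type*} [Field K] [Finite K] [Algebra (ZMod p) K]
  {ι : K →+* A} {S : AddSubgroup A}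
  (hS : SpreadSet S) (hK : ∀ k, ι k ∈ S)
  (hC : ∀ x ∈ S, InC ι (1 : K ≃ₐ[ZMod p] K) x → ∃ k, ι k = x)

include hS hK hC

/-- The case without a fixed root, of odd order. -/
theorem odd_case {σ : K ≃ₐ[ZMod p] K} (hσ : σ ≠ 1) {P Q : A} (hP : InC ι σ P) (hQ : InC ι σ⁻¹ Q)
    (hX : P + Q ∈ S) (hP0 : P ≠ 0) {α t : K} (hα : P * Q = ι α) (hσt : σ t = t)
    (ht : P ^ orderOf σ + Q ^ orderOf σ = ι t)
    (hc1 : P ^ orderOf σ * Q ^ orderOf σ = ι (nm (rh σ) (orderOf σ) α))
    (hc : Q ^ orderOf σ * P ^ orderOf σ = ι (nm (rh σ) (orderOf σ) α))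
    (hodd : Odd (orderOf σ))
    (hnr : ∀ ρ : K, σ ρ = ρ → ρ * (t - ρ) ≠ nm (rh σ) (orderOf σ) α) : False := by
  set d := orderOf σ with hdd
  have hd : 0 < d := orderOf_pos σ
  set c := nm (rh σ) d α with hcdef
  have hσc : σ c = c := map_nm (rh σ) d hd (rh_period σ) α
  have hc0 : c ≠ 0 := fun h => hnr 0 (map_zero _) (by rw [zero_mul, h])
  have hα0 : α ≠ 0 := by
    rintro rfl
    refine hc0 (prod_eq_zero (mem_range.2 hd) ?_)
    simp
  have h2 : σ ≠ σ⁻¹ := by
    intro h
    have h' : σ ^ 2 = 1 := by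
      rw [sq]
      nth_rw 2 [h]
      exact mul_inv_cancel σ
    have hdvd : d ∣ 2 := orderOf_dvd_of_pow_eq_one h'
    rcases (Nat.dvd_prime Nat.prime_two).1 hdvd with h1 | h1
    · exact hσ (orderOf_eq_one_iff.1 h1)
    · obtain ⟨e, he⟩ := hodd; omega
  set π := P ^ d with hπdef
  have hπ : InC ι (1 : K ≃ₐ[ZMod p] K) π := by
    have := hP.pow d
    rwa [pow_orderOf_eq_one] at this
  have hπk : ∀ k, π * ι k = ι k * π := fun k => by rw [hπ, AlgEquiv.one_apply]
  have hquad : π * π = ι t * π - ι c := by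
    rw [← ht, add_mul, ← hc]; abel
  have hQd : Q ^ d = ι t - π := by rw [← ht]; abel
  -- the elements `a + b π`
  have hmul : ∀ a b a' b' : K, (ι a + ι b * π) * (ι a' + ι b' * π)
      = ι (a * a' - b * b' * c) + ι (a * b' + b * a' + b * b' * t) * π := by
    intro a b a' b'
    calc (ι a + ι b * π) * (ι a' + ι b' * π)
        = ι a * ι a' + ι a * ι b' * π + ι b * (π * ι a') + ι b * (π * ι b') * π := by noncomm_ring
      _ = ι a * ι a' + ι a * ι b' * π + ι b * ι a' * π + ι b * ι b' * (π * π) := by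
          rw [hπk, hπk]; noncomm_ring
      _ = _ := by
          rw [hquad]
          simp only [map_add, map_sub, map_mul]
          noncomm_ring
  let R : Subring A :=
    { carrier := {x | ∃ a b, x = ι a + ι b * π}
      one_mem' := ⟨1, 0, by simp⟩
      zero_mem' := ⟨0, 0, by simp⟩
      mul_mem' := by
        rintro _ _ ⟨a, b, rfl⟩ ⟨a', b', rfl⟩
        exact ⟨_, _, hmul a b a' b'⟩
      add_mem' := by
        rintro _ _ ⟨a, b, rfl⟩ ⟨a', b', rfl⟩
        exact ⟨a + a', b + b', by simp only [map_add, add_mul]; abel⟩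
      neg_mem' := by
        rintro _ ⟨a, b, rfl⟩
        exact ⟨-a, -b, by simp only [map_neg, neg_mul]; abel⟩ }
  letI : CommRing R :=
    { (inferInstance : Ring R) with
      mul_comm := by
        rintro ⟨_, a, b, rfl⟩ ⟨_, a', b', rfl⟩
        apply Subtype.ext
        show (ι a + ι b * π) * (ι a' + ι b' * π) = (ι a' + ι b' * π) * (ι a + ι b * π)
        rw [hmul, hmul]
        rw [show a * a' - b * b' * c = a' * a - b' * b * c by ring,
          show a * b' + b * a' + b * b' * t = a' * b + b' * a + b' * b * t by ring] }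
  have hnorm : ∀ a b : K, (a ≠ 0 ∨ b ≠ 0) → a * a + a * b * t + b * b * c ≠ 0 := by
    intro a b hab h
    rcases eq_or_ne b 0 with rfl | hb
    · simp at h
      exact hab.elim (fun ha => ha h) (fun hb => hb rfl)
    · set ρ := -a / b with hρ
      have hr : ρ * (t - ρ) = c := by
        rw [hρ]; field_simp; linear_combination -h
      have hfix : σ ρ = ρ := by
        have h1 : σ ρ * (t - σ ρ) = ρ * (t - ρ) := by
          conv_lhs => rw [← hσt, ← map_sub, ← map_mul, hr, hσc]
          exact hr.symm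
        have h2' : (σ ρ - ρ) * (σ ρ - (t - ρ)) = 0 := by linear_combination -h1
        rcases mul_eq_zero.1 h2' with h3 | h3
        · exact sub_eq_zero.1 h3
        · have hs : σ ρ = t - ρ := sub_eq_zero.1 h3
          have heven : ∀ i, (rh σ)^[2 * i] ρ = ρ := by
            intro i
            induction i with
            | zero => rfl
            | succ i ih =>
              rw [show 2 * (i + 1) = (2 * i + 1) + 1 by ring, iterate_succ_apply',
                iterate_succ_apply', ih]
              show σ (σ ρ) = ρ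
              rw [hs, map_sub, hσt, hs]; ring
          obtain ⟨e, he⟩ := hodd
          have h5 := rh_period σ ρ
          rw [← hdd, he] at h5
          exact (congrArg (rh σ) (heven e)).symm.trans ((iterate_succ_apply' _ _ _).symm.trans h5)
      exact hnr ρ hfix hr
  have hunitR : ∀ a b : K, (a ≠ 0 ∨ b ≠ 0) → IsUnit (ι a + ι b * π) := by
    intro a b hab
    have h : (ι a + ι b * π) * (ι (a + b * t) + ι (-b) * π)
        = ι (a * a + a * b * t + b * b * c) := by
      rw [hmul]
      have e0 : a * -b + b * (a + b * t) + b * -b * t = 0 := by ring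
      rw [e0, map_zero, zero_mul, add_zero]
      congr 1; ring
    obtain ⟨u, hu⟩ := coe_isUnit (ι := ι) (hnorm a b hab)
    refine IsUnit.of_mul_eq_one ((ι (a + b * t) + ι (-b) * π) * ↑u⁻¹) ?_
    rw [← mul_assoc, h, ← hu, Units.mul_inv]
  have hzero : ∀ a b : K, ι a + ι b * π = 0 → a = 0 ∧ b = 0 := by
    intro a b h
    by_contra hab
    rw [not_and_or] at hab
    have := hunitR a b hab
    rw [h] at this
    exact not_isUnit_zero this
  have hne : (1 : R) ≠ 0 := fun h => one_ne_zero (congrArg Subtype.val h)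
  haveI : Nontrivial R := ⟨⟨1, 0, hne⟩⟩
  haveI : NoZeroDivisors R := ⟨fun {x y} hxy => by
    obtain ⟨_, a, b, rfl⟩ := x
    by_cases hab : a = 0 ∧ b = 0
    · left; apply Subtype.ext; show ι a + ι b * π = 0
      rw [hab.1, hab.2]; simp
    · right; apply Subtype.ext
      exact (hunitR a b (not_and_or.1 hab)).mul_right_eq_zero.1 (congrArg Subtype.val hxy)⟩
  haveI : IsDomain R := NoZeroDivisors.to_isDomain R
  letI : Field R := (Finite.isField_of_domain R).toField
  let f : R →+* A := R.subtype
  let jK : K →+* R := ι.codRestrict R fun k => ⟨k, 0, by simp⟩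
  let πR : R := ⟨π, 0, 1, by simp⟩
  have hform : ∀ x : R, ∃ a b, x = jK a + jK b * πR := by
    rintro ⟨_, a, b, rfl⟩
    exact ⟨a, b, Subtype.ext rfl⟩
  have hfj : ∀ k, f (jK k) = ι k := fun k => rfl
  have hfπ : f πR = π := rfl
  have hπ0 : πR ≠ 0 := by
    intro h
    exact one_ne_zero (hzero 0 1 (by
      have := congrArg f h
      rw [hfπ, map_zero] at this
      simp [this])).2
  -- conjugation by `P`
  have hPu : IsUnit P := by
    have h1 : IsUnit π := by
      have := hunitR 0 1 (Or.inr one_ne_zero)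
      simpa using this
    exact (isUnit_pow_iff hd.ne').1 h1
  obtain ⟨Pu, hPuv⟩ := hPu
  have hconj : ∀ a b : K, P * (ι a + ι b * π) = (ι (σ a) + ι (σ b) * π) * P := by
    intro a b
    rw [mul_add, add_mul, hP, ← mul_assoc, hP, mul_assoc, mul_assoc, hπdef, ← pow_succ', pow_succ]
  have hconj' : ∀ a b : K, P * (ι a + ι b * π) * ↑Pu⁻¹ = ι (σ a) + ι (σ b) * π := by
    intro a b
    rw [hconj, ← hPuv, mul_assoc, Units.mul_inv, mul_one]
  let s : R →+* R :=
    { toFun := fun x => ⟨P * (x : A) * ↑Pu⁻¹, by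
        obtain ⟨_, a, b, rfl⟩ := x
        exact ⟨σ a, σ b, hconj' a b⟩⟩
      map_one' := Subtype.ext (by simp [← hPuv])
      map_mul' := fun x y => Subtype.ext (by simp [← hPuv, mul_assoc])
      map_zero' := Subtype.ext (by simp)
      map_add' := fun x y => Subtype.ext (by simp [mul_add, add_mul]) }
  have hPf : ∀ x, P * f x = f (s x) * P := by
    intro x
    show P * (x : A) = P * (x : A) * ↑Pu⁻¹ * P
    rw [← hPuv, mul_assoc (_ * _), Units.inv_mul, mul_one]
  have hsj : ∀ k, s (jK k) = jK (σ k) := fun k => Subtype.ext (by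
    show P * ι k * ↑Pu⁻¹ = ι (σ k)
    simpa using hconj' k 0)
  have hsπ : s πR = πR := Subtype.ext (by
    show P * π * ↑Pu⁻¹ = π
    simpa using hconj' 0 1)
  have hsjit : ∀ i k, s^[i] (jK k) = jK ((rh σ)^[i] k) := by
    intro i
    induction i with
    | zero => exact fun k => rfl
    | succ i ih =>
      intro k
      rw [iterate_succ_apply', iterate_succ_apply', ih, hsj, rh_apply]
  have hnmj : ∀ k, nm s d (jK k) = jK (nm (rh σ) d k) := by
    intro k
    simp only [nm, map_prod, hsjit]
  have hperiod : ∀ x : R, s^[d] x = x := by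
    intro x
    obtain ⟨a, b, rfl⟩ := hform x
    rw [iterate_map_add, iterate_map_mul, iterate_fixed hsπ, hsjit, hsjit, rh_period, rh_period]
  have hdist : ∀ i, 0 < i → i < d → ∃ x : R, s^[i] x ≠ x := by
    intro i hi hid
    obtain ⟨k, hk⟩ := rh_dist σ i hi hid
    refine ⟨jK k, fun h => hk ?_⟩
    rw [hsjit] at h
    exact jK.injective h
  -- the second root is a Frobenius power of the first
  have := Fintype.ofFinite K
  have := Fintype.ofFinite R
  obtain ⟨q, hq⟩ : ∃ q, CharP K q := ⟨ringChar K, ringChar.charP K⟩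
  obtain ⟨⟨nn, hnn⟩, hqp, hcard⟩ := FiniteField.card K q
  haveI : Fact q.Prime := ⟨hqp⟩
  haveI : CharP R q := charP_of_injective_ringHom jK.injective q
  haveI : ExpChar R q := ExpChar.prime hqp
  let F : R →+* R := iterateFrobenius R q nn
  have hF : ∀ x, F x = x ^ Fintype.card K := fun x => by
    rw [hcard]; exact iterateFrobenius_def q nn x
  have hFj : ∀ k, F (jK k) = jK k := fun k => by
    rw [hF, ← map_pow, FiniteField.pow_card]
  have hFπ : F πR = jK t - πR := by
    have hqR : πR * πR = jK t * πR - jK c := Subtype.ext hquad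
    have h1 : (F πR - πR) * (F πR - (jK t - πR)) = 0 := by
      have h := congrArg F hqR
      rw [map_mul, map_sub, map_mul, hFj, hFj] at h
      linear_combination h - hqR
    rcases mul_eq_zero.1 h1 with h2' | h2'
    · exfalso
      have hall : ∀ x : R, x ^ Fintype.card K = x := by
        intro x
        obtain ⟨a, b, rfl⟩ := hform x
        rw [← hF, map_add, map_mul, hFj, hFj, sub_eq_zero.1 h2']
      have hle : Fintype.card R ≤ Fintype.card K := by
        classical
        have hne0 : (Polynomial.X ^ Fintype.card K - Polynomial.X : Polynomial R) ≠ 0 :=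
          FiniteField.X_pow_card_sub_X_ne_zero R Fintype.one_lt_card
        have h := Polynomial.card_le_degree_of_subset_roots
          (Z := (univ : Finset R)) (p := Polynomial.X ^ Fintype.card K - Polynomial.X)
          (fun x _ => by
            rw [Polynomial.mem_roots hne0]
            simp [hall x])
        rwa [FiniteField.X_pow_card_sub_X_natDegree_eq R Fintype.one_lt_card, Finset.card_univ] at h
      have hlt : Fintype.card K < Fintype.card R := by
        refine Fintype.card_lt_of_injective_of_notMem jK jK.injective (b := πR) ?_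
        rintro ⟨k, hk⟩
        have h := congrArg f hk
        rw [hfj, hfπ] at h
        exact one_ne_zero (neg_eq_zero.1 (hzero k (-1) (by rw [map_neg, map_one, h]; simp)).2)
      omega
    · exact sub_eq_zero.1 h2'
  -- a preimage under the norm
  obtain ⟨n, hn⟩ := nm_surjective s d hd hperiod hdist (y := -πR⁻¹)
    (neg_ne_zero.2 (inv_ne_zero hπ0)) (by rw [map_neg, map_inv₀, hsπ])
  have hn0 : n ≠ 0 := by
    rintro rfl
    refine neg_ne_zero.2 (inv_ne_zero hπ0) ?_
    rw [← hn]
    exact prod_eq_zero (mem_range.2 hd) (by simp)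
  obtain ⟨a, b, hab⟩ := hform n
  set ν0 := a * a + a * b * t + b * b * c with hν0def
  have hqR : πR * πR = jK t * πR - jK c := Subtype.ext hquad
  have hFn : F n = jK (a + b * t) - jK b * πR := by
    rw [hab, map_add, map_mul, hFj, hFj, hFπ, map_add, map_mul]; ring
  have hnν : n * F n = jK ν0 := by
    rw [hFn, hab, hν0def]
    simp only [map_add, map_mul]
    linear_combination -(jK b * jK b) * hqR
  have hν0 : ν0 ≠ 0 := by
    intro h
    rw [h, map_zero, mul_eq_zero] at hnν
    rcases hnν with h' | h'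
    · exact hn0 h'
    · exact hn0 (F.injective (h'.trans (map_zero F).symm))
  have hnmF : nm s d (F n) = F (nm s d n) := by
    simp only [nm, map_prod]
    refine prod_congr rfl fun i _ => ?_
    rw [hF, hF, iterate_map_pow]
  have hnmν : nm (rh σ) d ν0 = c⁻¹ := by
    apply jK.injective
    rw [← hnmj, ← hnν, nm_mul, hnmF, hn, map_neg, map_inv₀, hFπ, neg_mul_neg, ← mul_inv,
      map_inv₀]
    congr 1
    rw [mul_sub, hqR]; ring
  -- the twist
  obtain ⟨m, hm0, hm⟩ : ∃ m : K, m ≠ 0 ∧ ν0 * σ b * α * σ m = m * b := by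
    rcases eq_or_ne b 0 with hb | hb
    · exact ⟨1, one_ne_zero, by simp [hb]⟩
    · have hr : nm (rh σ) d (ν0 * σ b * α / b) = 1 := by
        rw [div_eq_mul_inv, nm_mul, nm_mul, nm_mul, hnmν, nm_inv, ← rh_apply,
          nm_map (rh σ) d hd (rh_period σ), ← hcdef]
        have hb' := nm_ne_zero (rh σ) d hb
        field_simp
      obtain ⟨m, hm0, hm⟩ := hilbert90 (rh σ) d hd (rh_period σ) (rh_dist σ) hr
      refine ⟨m, hm0, ?_⟩
      rw [rh_apply, div_mul_eq_mul_div, div_eq_iff hb] at hm
      exact hm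
  set ν := s n with hν
  set c' := jK m * n⁻¹ with hc'
  set m1 := σ m with hm1
  set u := f ν * P with hu
  set jv := m * (a + b * t) / ν0 + σ a * α * m1 with hjv
  have hsplit : c' + ν * jK α * jK m1 = jK jv := by
    have hinv : n⁻¹ = F n * (jK ν0)⁻¹ := by
      rw [← hnν, mul_inv, mul_comm n⁻¹, ← mul_assoc,
        mul_inv_cancel₀ (fun h => hn0 (F.injective (h.trans (map_zero F).symm))), one_mul]
    have hν' : ν = jK (σ a) + jK (σ b) * πR := by rw [hν, hab, map_add, map_mul, hsj, hsj, hsπ]
    have hbz : jK (σ b) * jK α * jK m1 = jK m * jK b * (jK ν0)⁻¹ := by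
      rw [← map_inv₀, ← map_mul, ← map_mul, ← map_mul, ← map_mul]
      congr 1
      rw [eq_mul_inv_iff_mul_eq₀ hν0, ← hm, hm1]; ring
    rw [hc', hinv, hν', hFn, hjv]
    simp only [map_add, map_mul, map_div₀, div_eq_mul_inv, map_inv₀]
    linear_combination πR * hbz
  have hZ : (1 + u) * (f c' + Q * ι m1) = ι jv + (ι m1 * P + Q * ι m1) := by
    have h1 : ν * s c' = jK m1 := by
      rw [hν, hc', map_mul, map_inv₀, hsj, ← hm1, mul_comm, mul_assoc,
        inv_mul_cancel₀ (fun h => hn0 (s.injective (h.trans (map_zero s).symm))), mul_one]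
    have h2' := congrArg f hsplit
    rw [map_add, map_mul, map_mul, hfj, hfj, hfj] at h2'
    rw [← h2', add_mul, one_mul, mul_add, hu, mul_assoc (f ν) P, hPf, ← mul_assoc, ← map_mul, h1,
      hfj, ← mul_assoc, mul_assoc (f ν) P Q, hα]
    rw [hc', map_mul f (jK m), hfj, map_mul f ν, hfj]
    abel
  have hmem : ι jv + (ι m1 * P + Q * ι m1) ∈ S :=
    S.add_mem (hK _) (twist_mem hS hK hC hP hQ hX hodd m1)
  have hZ0 : ι jv + (ι m1 * P + Q * ι m1) ≠ 0 := by
    intro h
    have h1 := congrArg (pr ι σ) h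
    rw [pr_add, pr_add, (InC.coe (ι := ι) (p := p) _).pr_ne hσ, (hP.coe_mul m1).pr_self,
      (hQ.mul_coe m1).pr_ne h2, zero_add, add_zero, pr_zero] at h1
    have hm10 : m1 ≠ 0 := by rw [hm1]; simpa using hm0
    exact hP0 ((coe_isUnit hm10).mul_right_eq_zero.1 h1)
  have hunit := hS.unit _ hmem hZ0
  rw [← hZ] at hunit
  have hfν : InC ι (1 : K ≃ₐ[ZMod p] K) (f ν) := by
    intro k
    rw [AlgEquiv.one_apply, ← hfj, ← map_mul, ← map_mul, mul_comm]
  have huC : InC ι σ u := by simpa using hfν.mul hP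
  refine singular huC InC.one one_ne_zero ?_ (IsUnit.of_mul_eq_one
    ((f c' + Q * ι m1) * ↑hunit.unit⁻¹) (by rw [← mul_assoc]; exact hunit.mul_val_inv))
  rw [mul_one, neg_pow, hu, semi_pow f s P hPf ν d]
  show (-1) ^ d * (f (nm s d ν) * π) = 1
  rw [hν, nm_map s d hd hperiod, hn, map_neg, ← hfπ, neg_mul, ← map_mul, inv_mul_cancel₀ hπ0,
    map_one, hodd.neg_one_pow, neg_mul_neg, one_mul]

/-- No pair of components meets the set off `K`. -/
theorem pair_false {σ : K ≃ₐ[ZMod p] K} (hσ : σ ≠ 1) {P Q : A} (hP : InC ι σ P) (hQ : InC ι σ⁻¹ Q)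
    (hQ0 : σ⁻¹ = σ → Q = 0) (hX : P + Q ∈ S) (hP0 : P ≠ 0) : False := by
  obtain ⟨α, t, hα, hβ, hσt, ht, hc1, hc⟩ := setup hS hK hC hσ hP hQ hQ0 hX hP0
  set d := orderOf σ with hdd
  by_cases hroot : ∃ ρ : K, σ ρ = ρ ∧ ρ * (t - ρ) = nm (rh σ) d α
  · obtain ⟨ρ, h1, h2⟩ := hroot
    exact no_root hS hK hC hσ hP hQ hQ0 hX hP0 hα hβ hσt ht hc h1 h2
  push Not at hroot
  rcases Nat.even_or_odd d with ⟨h, hh⟩ | hodd
  · have hd : 0 < d := orderOf_pos σ
    have hpos : 0 < h := by omega
    have hne : σ ^ h ≠ 1 := pow_ne_one_of_lt_orderOf hpos.ne' (by omega)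
    have hinv : (σ ^ h)⁻¹ = σ ^ h :=
      inv_eq_of_mul_eq_one_right (by rw [← pow_add, ← hh, hdd, pow_orderOf_eq_one])
    have hQh : InC ι (σ ^ h) (Q ^ h) := by
      have := hQ.pow h
      rwa [inv_pow, hinv] at this
    have hlow : ∀ y ∈ lowTerms ι P Q h, pr ι (σ ^ h) y = 0 := by
      intro y hy
      induction hy using AddSubgroup.closure_induction with
      | mem y hy =>
        obtain ⟨i, k, hi, rfl | rfl⟩ := hy
        · refine ((hP.pow i).coe_mul k).pr_ne ?_
          intro e
          have := pow_injOn_Iio_orderOf (show h < orderOf σ by omega) (show i < orderOf σ by omega) e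
          omega
        · refine ((hQ.pow i).coe_mul k).pr_ne ?_
          intro e
          rw [inv_pow, eq_inv_iff_mul_eq_one, ← pow_add] at e
          exact pow_ne_one_of_lt_orderOf (by omega) (by omega) e
      | zero => exact pr_zero _
      | add a b _ _ ha hb => rw [pr_add, ha, hb, add_zero]
      | neg a _ ha => rw [← zero_sub a, pr_sub, pr_zero, ha, sub_zero]
    have hmem := pr_mem hS hK hinv (hS.pow_mem hX h)
    have hX' : pr ι (σ ^ h) ((P + Q) ^ h) = P ^ h + Q ^ h := by
      have := hlow _ (pow_sub_low hP hQ hα hβ h hpos)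
      rw [pr_sub, pr_sub, (hP.pow h).pr_self, hQh.pr_self, sub_sub, sub_eq_zero] at this
      exact this
    rw [hX'] at hmem
    by_cases h0 : P ^ h + Q ^ h = 0
    · have hπ : P ^ d = ι (-(∏ i ∈ range h, (rh σ)^[i] α)) := by
        have h1 := eq_neg_of_add_eq_zero_left h0
        rw [hh, pow_add]
        nth_rw 2 [h1]
        rw [mul_neg, semi_pq ι (rh σ) P Q hP hα h, map_neg]
      set ρ := -(∏ i ∈ range h, (rh σ)^[i] α)
      have hfix : σ ρ = ρ := by
        refine coe_cancel (ι := ι) hP0 ?_
        rw [← hP, ← hπ, ← pow_succ', pow_succ]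
      apply hroot ρ hfix
      apply ι.injective
      rw [← hc1, hπ, map_mul, map_sub, ← ht, hπ]
      noncomm_ring
    · have hX2 : (P ^ h + Q ^ h) + 0 ∈ S := by rw [add_zero]; exact hmem
      have hP2 : InC ι (σ ^ h) (P ^ h + Q ^ h) := (hP.pow h).add hQh
      have hQ2 : InC ι (σ ^ h)⁻¹ (0 : A) := InC.zero _
      obtain ⟨α', t', hα', hβ', hσt', ht', -, hc'⟩ :=
        setup hS hK hC hne hP2 hQ2 (fun _ => rfl) hX2 h0
      have hα0 : α' = 0 := by
        rw [mul_zero] at hα'
        exact ι.injective (hα'.symm.trans (map_zero ι).symm)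
      refine no_root hS hK hC hne hP2 hQ2 (fun _ => rfl) hX2 h0 hα' hβ' hσt' ht' hc' (ρ := 0)
        (map_zero _) ?_
      rw [zero_mul, hα0]
      exact (prod_eq_zero (mem_range.2 (orderOf_pos _)) (by simp)).symm
  · exact odd_case hS hK hC hσ hP hQ hX hP0 hα hσt ht hc1 hc hodd hroot

/-- Everything in the set lies in `K`. -/
theorem mem_range_of_max {x : A} (hx : x ∈ S) : ∃ k, ι k = x := by
  classical
  by_contra hno
  obtain ⟨σ, hσ1, hσ⟩ : ∃ σ : K ≃ₐ[ZMod p] K, σ ≠ 1 ∧ pr ι σ x ≠ 0 := by
    by_contra h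
    push Not at h
    apply hno
    obtain ⟨k, hk⟩ := hC _ (pr_mem hS hK inv_one hx) (pr_inC _ _)
    refine ⟨k, ?_⟩
    rw [hk]
    conv_rhs => rw [← sum_pr (ι := ι) (p := p) x]
    exact (sum_eq_single_of_mem 1 (mem_univ _) fun σ _ hσ => h σ hσ).symm
  by_cases h2 : σ⁻¹ = σ
  · refine pair_false hS hK hC hσ1 (pr_inC σ x) (InC.zero σ⁻¹) (fun _ => rfl) ?_ hσ
    rw [add_zero]
    exact pr_mem hS hK h2 hx
  · exact pair_false hS hK hC hσ1 (pr_inC σ x) (pr_inC σ⁻¹ x) (fun h => absurd h h2)
      (prPair_mem hS hK σ hx) hσ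

omit hS hK hC

/-- **A finite spread set closed under `a b a` is commutative and closed under multiplication.** -/
theorem SpreadSet.field {A : Type*} [Ring A] [Finite A] [Nontrivial A] {S : AddSubgroup A}
    (hS : SpreadSet S) : ∃ R : Subring A, (R : Set A) = S ∧ ∀ a ∈ R, ∀ b ∈ R, a * b = b * a := by
  classical
  have : Finite (Subring A) := Finite.of_injective (fun R => (R : Set A)) SetLike.coe_injective
  let good : Set (Subring A) := {R | (R : Set A) ⊆ S ∧ ∀ a ∈ R, ∀ b ∈ R, a * b = b * a}
  have hbot : (⊥ : Subring A) ∈ good := by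
    constructor
    · intro a ha
      obtain ⟨n, rfl⟩ := Subring.mem_bot.1 ha
      rw [← zsmul_one]
      exact S.zsmul_mem hS.one_mem n
    · intro a ha b _
      obtain ⟨n, rfl⟩ := Subring.mem_bot.1 ha
      exact (Int.cast_commute n b).eq
  obtain ⟨R, hR⟩ := (Set.toFinite good).exists_maximal ⟨⊥, hbot⟩
  obtain ⟨hRS, hRc⟩ := hR.1
  refine ⟨R, Set.Subset.antisymm hRS ?_, hRc⟩
  letI : CommRing R :=
    { (inferInstance : Ring R) with mul_comm := fun a b => Subtype.ext (hRc _ a.2 _ b.2) }
  have hne : (1 : R) ≠ 0 := fun h => one_ne_zero (congrArg Subtype.val h)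
  haveI : Nontrivial R := ⟨⟨1, 0, hne⟩⟩
  haveI : NoZeroDivisors R := ⟨fun {a b} hab => by
    by_cases ha : (a : A) = 0
    · exact Or.inl (Subtype.ext ha)
    · exact Or.inr (Subtype.ext ((hS.unit _ (hRS a.2) ha).mul_right_eq_zero.1
        (congrArg Subtype.val hab)))⟩
  haveI : IsDomain R := NoZeroDivisors.to_isDomain R
  letI : Field R := (Finite.isField_of_domain R).toField
  obtain ⟨q, hq⟩ : ∃ q, CharP R q := ⟨ringChar R, ringChar.charP R⟩
  haveI : Fact q.Prime := ⟨CharP.char_is_prime R q⟩
  letI : Algebra (ZMod q) R := ZMod.algebra R q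
  intro x hx
  obtain ⟨k, hk⟩ := mem_range_of_max (p := q) (K := R) (ι := R.subtype) hS (fun k => hRS k.2)
    (fun y hy hyc => by
      refine ⟨⟨y, ?_⟩, rfl⟩
      have hyc' : ∀ k ∈ R, Commute y k := fun k hk => by
        have := hyc ⟨k, hk⟩
        simpa [Commute, SemiconjBy] using this
      -- the products `k * y ^ n`
      let T : AddSubgroup A := AddSubgroup.closure {z | ∃ k ∈ R, ∃ n : ℕ, z = k * y ^ n}
      have hT : T ≤ S := by
        refine (AddSubgroup.closure_le _).2 ?_
        rintro _ ⟨k, hk, n, rfl⟩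
        exact coe_mul_mem (K := R) (ι := R.subtype) hS (fun k => hRS k.2) (k := ⟨k, hk⟩)
          (hS.pow_mem hy n) ((hyc' k hk).pow_left n).eq
      have hTmul : ∀ a ∈ T, ∀ b ∈ T, a * b ∈ T := by
        intro a ha b hb
        induction ha using AddSubgroup.closure_induction with
        | mem a ha =>
          obtain ⟨k, hk, n, rfl⟩ := ha
          induction hb using AddSubgroup.closure_induction with
          | mem b hb =>
            obtain ⟨k', hk', n', rfl⟩ := hb
            refine AddSubgroup.subset_closure ⟨k * k', R.mul_mem hk hk', n + n', ?_⟩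
            rw [mul_assoc, ← mul_assoc (y ^ n), ((hyc' k' hk').pow_left n).eq, mul_assoc, ← pow_add,
              ← mul_assoc]
          | zero => simp
          | add u v _ _ hu hv => rw [mul_add]; exact T.add_mem hu hv
          | neg u _ hu => rw [mul_neg]; exact T.neg_mem hu
        | zero => simp
        | add u v _ _ hu hv => rw [add_mul]; exact T.add_mem hu hv
        | neg u _ hu => rw [neg_mul]; exact T.neg_mem hu
      let R' : Subring A :=
        { T with
          mul_mem' := fun {a b} ha hb => hTmul a ha b hb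
          one_mem' := AddSubgroup.subset_closure ⟨1, R.one_mem, 0, by simp⟩ }
      have hgen : ∀ z ∈ T, ∀ w ∈ T, z * w = w * z := by
        intro z hz w hw
        induction hz using AddSubgroup.closure_induction with
        | mem z hz =>
          obtain ⟨k, hk, n, rfl⟩ := hz
          induction hw using AddSubgroup.closure_induction with
          | mem w hw =>
            obtain ⟨k', hk', n', rfl⟩ := hw
            exact (((show Commute k k' from hRc k hk k' hk').mul_right
              (((hyc' k hk).symm).pow_right n')).mul_left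
                ((((hyc' k' hk').pow_left n)).mul_right ((Commute.refl y).pow_pow n n'))).eq
          | zero => simp
          | add u v _ _ hu hv => rw [mul_add, add_mul, hu, hv]
          | neg u _ hu => rw [mul_neg, neg_mul, hu]
        | zero => simp
        | add u v _ _ hu hv => rw [mul_add, add_mul, hu, hv]
        | neg u _ hu => rw [mul_neg, neg_mul, hu]
      have hR' : R' ∈ good := ⟨hT, hgen⟩
      have hle : R ≤ R' := fun k hk => AddSubgroup.subset_closure ⟨k, hk, 0, by simp⟩
      exact hR.2 hR' hle (AddSubgroup.subset_closure ⟨1, R.one_mem, 1, by simp⟩)) hx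
  rw [← hk]
  exact k.2

end CfsgLib.OstromWagner
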