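import Cfsg.Agent.Lib.OstromWagner.Translations
import Cfsg.Agent.Lib.OstromWagner.SpreadFieldMain
import Mathlib.Algebra.Group.TypeTags.Finite

/-!
# The slopes of the components form a field
-/

set_option autoImplicit false
set_option linter.unusedSectionVars false

namespace CfsgLib.OstromWagner

open Configuration

universe u v w

variable {G : Type u} {P : Type v} {L : Type w} [Group G] [MulAction G P] [MulAction G L]
  [Membership P L] [IsCollAction G P L] [ProjectivePlane P L] [Finite P] [Finite L]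
  [FaithfulSMul G P]

/-- Translations of a Moufang plane as pairs over a field, with the components as lines. -/
theorem exists_slopes [Finite G] (hM : Moufang G P L) {l : L} {a b e : P} (ha : a ∈ l) (hb : b ∈ l)
    (he : e ∈ l) (hab : a ≠ b) (hea : e ≠ a) (heb : e ≠ b) :
    ∃ (K : Type u) (_ : Field K) (_ : Finite K) (τ : K → K → G)
      (R : {c : P // c ∈ l ∧ c ≠ b} → K),
      (∀ x y x' y', τ (x + x') (y + y') = τ x y * τ x' y') ∧
      (∀ x y, τ x y ∈ elGroup G P l) ∧
      (∀ g ∈ elGroup G P l, ∃ x y, τ x y = g) ∧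
      (∀ x y, τ x y = 1 → x = 0 ∧ y = 0) ∧ Function.Bijective R ∧
      (∀ x y (c : {c : P // c ∈ l ∧ c ≠ b}), τ x y ∈ elCentre G c.1 l ↔ y = R c * x) ∧
      (∀ x y, τ x y ∈ elCentre G b l ↔ x = 0) := by
  classical
  set T := elGroup G P l with hTdef
  set A := elCentre G a l with hAdef
  have hAT : ∀ {g : G}, g ∈ A → g ∈ T := fun h => elCentre_le ha h
  have hBT : ∀ {g : G}, g ∈ elCentre G b l → g ∈ T := fun h => elCentre_le hb h
  have hcomm : ∀ {g k : G}, g ∈ T → k ∈ T → g * k = k * g := fun hg hk => elGroup_comm hM hg hk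
  letI : CommGroup A :=
    { (inferInstance : Group A) with
      mul_comm := fun x y => Subtype.ext (hcomm (hAT x.2) (hAT y.2)) }
  let ψ : Additive A → G := fun v => ((Additive.toMul v : A) : G)
  have hψmem : ∀ v, ψ v ∈ A := fun v => (Additive.toMul v).2
  have hψadd : ∀ v w, ψ (v + w) = ψ v * ψ w := fun v w => rfl
  have hψinj : ∀ v, ψ v = 1 → v = 0 := fun v h => by
    apply Additive.toMul.injective
    exact Subtype.ext h
  -- the unique second coordinate of a component
  have huniq : ∀ {c : P}, c ∈ l → c ≠ b → ∀ {v u u' : G}, u ∈ elCentre G b l →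
      u' ∈ elCentre G b l → v * u ∈ elCentre G c l → v * u' ∈ elCentre G c l → u = u' := by
    intro c hc hcb v u u' hu hu' h h'
    have h1 : u⁻¹ * u' = 1 := by
      refine tc_inter hcb ?_ ((elCentre G b l).mul_mem ((elCentre G b l).inv_mem hu) hu')
      have := (elCentre G c l).mul_mem ((elCentre G c l).inv_mem h) h'
      rwa [mul_inv_rev, mul_assoc, inv_mul_cancel_left] at this
    exact inv_mul_eq_one.1 h1
  have hex : ∀ {c : P}, c ∈ l → c ≠ b → ∀ v ∈ A, ∃ u ∈ elCentre G b l, v * u ∈ elCentre G c l := by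
    intro c hc hcb v hv
    obtain ⟨w, hw, u, hu, hvw⟩ := decompose hM hc hb hcb (hAT hv)
    exact ⟨u⁻¹, (elCentre G b l).inv_mem hu, by rw [hvw, mul_inv_cancel_right]; exact hw⟩
  choose φ' hφ'b hφ'e using fun v : Additive A => hex he heb (ψ v) (hψmem v)
  have hφadd : ∀ v w, φ' (v + w) = φ' v * φ' w := by
    intro v w
    refine huniq he heb (v := ψ (v + w)) (hφ'b _) ((elCentre G b l).mul_mem (hφ'b v) (hφ'b w))
      (hφ'e _) ?_
    have := (elCentre G e l).mul_mem (hφ'e v) (hφ'e w)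
    rw [show ψ v * φ' v * (ψ w * φ' w) = ψ v * (φ' v * ψ w) * φ' w by simp only [mul_assoc],
      hcomm (hBT (hφ'b v)) (hAT (hψmem w))] at this
    rw [hψadd]
    simpa only [mul_assoc] using this
  have hφzero : φ' 0 = 1 := by
    have := hφadd 0 0
    rw [add_zero] at this
    exact left_eq_mul.1 this
  have hφinj : ∀ v, φ' v = 1 → v = 0 := by
    intro v h
    apply hψinj
    have := hφ'e v
    rw [h, mul_one] at this
    exact tc_inter hea.symm (hψmem v) this
  have hφsurj : ∀ u ∈ elCentre G b l, ∃ v, φ' v = u := by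
    intro u hu
    obtain ⟨w, hw, v, hv, huv⟩ := decompose hM he ha hea (hBT hu)
    refine ⟨Additive.ofMul ⟨v⁻¹, A.inv_mem hv⟩, huniq he heb (hφ'b _) hu (hφ'e _) ?_⟩
    show v⁻¹ * u ∈ _
    rw [huv, hcomm (elCentre_le he hw) (hAT hv), inv_mul_cancel_left]
    exact hw
  have hφ0 : ∀ {v w}, φ' v = φ' w → v = w := by
    intro v w h
    have h1 := hφadd (v - w) w
    rw [sub_add_cancel, h] at h1
    exact sub_eq_zero.1 (hφinj _ (right_eq_mul.1 h1))
  -- the slope maps
  have hslope : ∀ c : {c : P // c ∈ l ∧ c ≠ b}, ∃ M : AddMonoid.End (Additive A),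
      ∀ v, ψ v * φ' (M v) ∈ elCentre G c.1 l := by
    intro c
    choose u hu hu' using fun v : Additive A => hex c.2.1 c.2.2 (ψ v) (hψmem v)
    choose f hf using fun v => hφsurj (u v) (hu v)
    refine ⟨AddMonoidHom.mk' f fun v w => hφ0 ?_, fun v => ?_⟩
    · rw [hφadd, hf, hf, hf]
      refine huniq c.2.1 c.2.2 (v := ψ (v + w)) (hu _)
        ((elCentre G b l).mul_mem (hu v) (hu w)) (hu' _) ?_
      have := (elCentre G c.1 l).mul_mem (hu' v) (hu' w)
      rw [show ψ v * u v * (ψ w * u w) = ψ v * (u v * ψ w) * u w by simp only [mul_assoc],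
        hcomm (hBT (hu v)) (hAT (hψmem w))] at this
      rw [hψadd]
      simpa only [mul_assoc] using this
    · show ψ v * φ' (f v) ∈ _
      rw [hf]; exact hu' v
  choose Mc hMc using hslope
  have hMuniq : ∀ (c : {c : P // c ∈ l ∧ c ≠ b}) (v w : Additive A),
      ψ v * φ' w ∈ elCentre G c.1 l → Mc c v = w := fun c v w h =>
    hφ0 (huniq c.2.1 c.2.2 (hφ'b _) (hφ'b _) (hMc c v) h)
  have hMa : Mc ⟨a, ha, hab⟩ = 0 := by
    refine AddMonoidHom.ext fun v => hMuniq _ v 0 ?_
    rw [hφzero, mul_one]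
    exact hψmem v
  have hMe : Mc ⟨e, he, heb⟩ = 1 := AddMonoidHom.ext fun v => hMuniq _ v v (hφ'e v)
  have hMadd : ∀ c d : {c : P // c ∈ l ∧ c ≠ b}, ∃ k, Mc c + Mc d = Mc k := by
    intro c d
    obtain ⟨k, hk, hkb, hsh⟩ := shear hM ha hb c.2.1 d.2.1 hab c.2.2 d.2.2
    refine ⟨⟨k, hk, hkb⟩, AddMonoidHom.ext fun v => (hMuniq _ v _ ?_).symm⟩
    show ψ v * φ' (Mc c v + Mc d v) ∈ elCentre G k l
    rw [hφadd, ← mul_assoc]
    exact hsh _ (hψmem v) _ (hφ'b _) _ (hφ'b _) (hMc c v) (hMc d v)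
  haveI : Finite (AddMonoid.End (Additive A)) :=
    Finite.of_injective (fun M => (M : Additive A → Additive A)) DFunLike.coe_injective
  obtain ⟨v₀, hv₀⟩ : ∃ v : Additive A, v ≠ 0 := by
    obtain ⟨g, hg, hg1⟩ := exists_ne_one hM ha
    exact ⟨Additive.ofMul ⟨g, hg⟩, fun h => hg1 (congrArg (fun z : Additive A => ψ z) h)⟩
  haveI : Nontrivial (AddMonoid.End (Additive A)) :=
    ⟨⟨1, 0, fun h => hv₀ (DFunLike.congr_fun h v₀)⟩⟩
  let S : AddSubgroup (AddMonoid.End (Additive A)) :=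
    { carrier := Set.range Mc
      zero_mem' := ⟨_, hMa⟩
      add_mem' := by
        rintro _ _ ⟨c, rfl⟩ ⟨d, rfl⟩
        obtain ⟨k, hk⟩ := hMadd c d
        exact ⟨k, hk.symm⟩
      neg_mem' := by
        intro M hM'
        obtain ⟨j, hj⟩ : ∃ j, addOrderOf M = j + 1 :=
          ⟨addOrderOf M - 1, by have := addOrderOf_pos M; omega⟩
        have h0 := addOrderOf_nsmul_eq_zero M
        rw [hj, succ_nsmul] at h0
        rw [← eq_neg_of_add_eq_zero_left h0]
        clear hj h0
        induction j with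
        | zero => rw [zero_nsmul]; exact ⟨_, hMa⟩
        | succ j ih =>
          obtain ⟨c, hc⟩ := ih
          obtain ⟨d, hd⟩ := hM'
          obtain ⟨k, hk⟩ := hMadd c d
          exact ⟨k, by rw [succ_nsmul, ← hk, hc, hd]⟩ }
  have hker : ∀ (c : {c : P // c ∈ l ∧ c ≠ b}) (v : Additive A), v ≠ 0 → Mc c v = 0 → c.1 = a := by
    intro c v hv h
    by_contra hca
    apply hv
    apply hψinj
    have := hMc c v
    rw [h, hφzero, mul_one] at this
    exact tc_inter (Ne.symm hca) (hψmem v) this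
  have hinjM : ∀ M ∈ S, M ≠ 0 → ∀ v, M v = 0 → v = 0 := by
    rintro _ ⟨c, rfl⟩ h0 v hv
    by_contra hne
    apply h0
    have hc := hker c v hne hv
    rw [← hMa]
    exact congrArg Mc (Subtype.ext hc)
  have hunit : ∀ M ∈ S, M ≠ 0 → IsUnit M := by
    intro M hMS h0
    have hinj : Function.Injective (M : Additive A → Additive A) := fun v w h =>
      sub_eq_zero.1 (hinjM M hMS h0 _ (by rw [map_sub, h, sub_self]))
    let ev := AddEquiv.ofBijective (M : Additive A →+ Additive A) (Finite.injective_iff_bijective.1 hinj)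
    exact ⟨⟨M, ev.symm.toAddMonoidHom, AddMonoidHom.ext fun v => ev.apply_symm_apply v,
      AddMonoidHom.ext fun v => ev.symm_apply_apply v⟩, rfl⟩
  -- sums of inverses
  have hinv : ∀ M N : (AddMonoid.End (Additive A))ˣ, (M : AddMonoid.End (Additive A)) ∈ S →
      (N : AddMonoid.End (Additive A)) ∈ S →
      (↑M⁻¹ : AddMonoid.End (Additive A)) + ↑N⁻¹ = 0 ∨
        ∃ R ∈ S, R * ((↑M⁻¹ : AddMonoid.End (Additive A)) + ↑N⁻¹) = 1 := by
    rintro M N ⟨c, hc⟩ ⟨d, hd⟩
    have hne : ∀ (c : {c : P // c ∈ l ∧ c ≠ b}), IsUnit (Mc c) → c.1 ≠ a := by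
      intro c hu hca
      rw [show c = ⟨a, ha, hab⟩ from Subtype.ext hca, hMa] at hu
      exact not_isUnit_zero hu
    obtain ⟨k, hk, hka, hsh⟩ := shear hM hb ha c.2.1 d.2.1 hab.symm (hne c (hc ▸ M.isUnit))
      (hne d (hd ▸ N.isUnit))
    set Ks := (↑M⁻¹ : AddMonoid.End (Additive A)) + ↑N⁻¹
    have hmem : ∀ w, ψ (Ks w) * φ' w ∈ elCentre G k l := by
      intro w
      have hm : ∀ (M : (AddMonoid.End (Additive A))ˣ) (c : {c : P // c ∈ l ∧ c ≠ b}), Mc c = ↑M →
          φ' w * ψ ((↑M⁻¹ : AddMonoid.End (Additive A)) w) ∈ elCentre G c.1 l := by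
        intro M c hc
        have h := hMc c ((↑M⁻¹ : AddMonoid.End (Additive A)) w)
        rw [hc] at h
        have hw : (M : AddMonoid.End (Additive A)) ((↑M⁻¹ : AddMonoid.End (Additive A)) w) = w :=
          DFunLike.congr_fun M.mul_inv w
        rwa [hw, hcomm (hAT (hψmem _)) (hBT (hφ'b _))] at h
      have h := hsh _ (hφ'b w) _ (hψmem _) _ (hψmem _) (hm M c hc) (hm N d hd)
      rw [hcomm (hAT (hψmem _)) (hBT (hφ'b _))]
      show φ' w * ψ ((↑M⁻¹ : AddMonoid.End (Additive A)) w + (↑N⁻¹ : AddMonoid.End (Additive A)) w) ∈ _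
      rw [hψadd, ← mul_assoc]
      exact h
    by_cases hkb : k = b
    · left
      refine AddMonoidHom.ext fun w => hψinj _ (tc_inter hab (hψmem _) ?_)
      have h := hmem w
      rw [hkb] at h
      have := (elCentre G b l).mul_mem h ((elCentre G b l).inv_mem (hφ'b w))
      rwa [mul_inv_cancel_right] at this
    · right
      exact ⟨Mc ⟨k, hk, hkb⟩, ⟨_, rfl⟩, AddMonoidHom.ext fun w => hMuniq _ _ _ (hmem w)⟩
  have hSS : SpreadSet S := by
    have hmix : ∀ M N : (AddMonoid.End (Additive A))ˣ, (M : AddMonoid.End (Additive A)) ∈ S →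
        (N : AddMonoid.End (Additive A)) ∈ S →
        (M : AddMonoid.End (Additive A)) * ↑N⁻¹ * ↑M ∈ S := by
      intro M N hM' hN
      by_cases hMN : (M : AddMonoid.End (Additive A)) = N
      · rw [Units.ext hMN, Units.mul_inv, one_mul]
        exact hN
      obtain ⟨D, hD⟩ := hunit _ (S.sub_mem hN hM') (sub_ne_zero.2 (Ne.symm hMN))
      have hsum : (↑M⁻¹ : AddMonoid.End (Additive A)) + ↑D⁻¹ = ↑(M⁻¹ * N * D⁻¹) := by
        have : (N : AddMonoid.End (Additive A)) = ↑D + ↑M := by rw [hD, sub_add_cancel]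
        rw [Units.val_mul, Units.val_mul, this, mul_add, add_mul, mul_assoc, Units.mul_inv, mul_one,
          Units.inv_mul, one_mul]
      rcases hinv M D hM' (hD ▸ S.sub_mem hN hM') with h0 | ⟨R, hR, hR1⟩
      · rw [hsum] at h0
        exact absurd h0 (Units.ne_zero _)
      · rw [hsum] at hR1
        have hR' : R = ↑(M⁻¹ * N * D⁻¹)⁻¹ := Units.eq_inv_of_mul_eq_one_right hR1
        rw [mul_inv_rev, mul_inv_rev, inv_inv, inv_inv, ← mul_assoc, Units.val_mul, Units.val_mul,
          hD, sub_mul, Units.mul_inv, sub_mul, one_mul] at hR'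
        have : (M : AddMonoid.End (Additive A)) * ↑N⁻¹ * ↑M = ↑M - R := by rw [hR']; abel
        rw [this]
        exact S.sub_mem hM' hR
    refine ⟨⟨_, hMe⟩, fun x hx y hy => ?_, hunit⟩
    rcases eq_or_ne x 0 with rfl | hx0
    · simp [S.zero_mem]
    rcases eq_or_ne y 0 with rfl | hy0
    · simp [S.zero_mem]
    obtain ⟨X, rfl⟩ := hunit x hx hx0
    obtain ⟨Y, rfl⟩ := hunit y hy hy0
    have hYi : (↑Y⁻¹ : AddMonoid.End (Additive A)) ∈ S := by
      simpa using hmix 1 Y (by simpa using ⟨_, hMe⟩) hy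
    simpa using hmix X Y⁻¹ hx hYi
  obtain ⟨K, hKS, hKc⟩ := hSS.field
  have hKmem : ∀ x : AddMonoid.End (Additive A), x ∈ K ↔ x ∈ S := fun x =>
    Set.ext_iff.1 hKS x
  letI : CommRing K :=
    { (inferInstance : Ring K) with mul_comm := fun x y => Subtype.ext (hKc _ x.2 _ y.2) }
  have hne : (1 : K) ≠ 0 := fun h => one_ne_zero (congrArg Subtype.val h)
  haveI : Nontrivial K := ⟨⟨1, 0, hne⟩⟩
  haveI : NoZeroDivisors K := ⟨fun {x y} hxy => by
    by_cases hx : (x : AddMonoid.End (Additive A)) = 0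
    · exact Or.inl (Subtype.ext hx)
    · exact Or.inr (Subtype.ext ((hunit _ ((hKmem _).1 x.2) hx).mul_right_eq_zero.1
        (congrArg Subtype.val hxy)))⟩
  haveI : IsDomain K := NoZeroDivisors.to_isDomain K
  letI : Field K := (Finite.isField_of_domain K).toField
  let R : {c : P // c ∈ l ∧ c ≠ b} → K := fun c => ⟨Mc c, (hKmem _).2 ⟨c, rfl⟩⟩
  let ev : K → Additive A := fun x => (x : AddMonoid.End (Additive A)) v₀
  have hevadd : ∀ x y, ev (x + y) = ev x + ev y := fun _ _ => rfl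
  have hevsub : ∀ x y, ev (x - y) = ev x - ev y := fun _ _ => rfl
  have hevinj : Function.Injective ev := by
    intro x y h
    by_contra hxy
    exact hv₀ (hinjM _ ((hKmem _).1 (x - y).2) (fun h' => hxy (sub_eq_zero.1 (Subtype.ext h'))) v₀
      (show ev (x - y) = 0 by rw [hevsub, h, sub_self]))
  have hevzero : ∀ {x}, ev x = 0 → x = 0 := fun h => hevinj h
  -- every vector is the value of some slope
  have hcov : ∀ w, ∃ c, Mc c v₀ = w := by
    intro w
    obtain ⟨c, hc, hg⟩ := mem_elGroup.1 (T.mul_mem (hAT (hψmem v₀)) (hBT (hφ'b w)))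
    have hcb : c ≠ b := by
      intro h
      subst h
      have h := (elCentre G c l).mul_mem (mem_elCentre.2 hg) ((elCentre G c l).inv_mem (hφ'b w))
      rw [mul_inv_cancel_right] at h
      exact hv₀ (hψinj _ (tc_inter hab (hψmem v₀) h))
    exact ⟨⟨c, hc, hcb⟩, hMuniq _ _ _ hg⟩
  have hevsurj : Function.Surjective ev := fun w => by
    obtain ⟨c, hc⟩ := hcov w
    exact ⟨R c, hc⟩
  have hevmul : ∀ x y : K, ev (x * y) = (x : AddMonoid.End (Additive A)) (ev y) := fun _ _ => rfl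
  refine ⟨K, inferInstance, inferInstance, fun x y => ψ (ev x) * φ' (ev y), R, ?_, ?_, ?_, ?_,
    ⟨?_, ?_⟩, ?_, ?_⟩
  · intro x y x' y'
    show ψ (ev (x + x')) * φ' (ev (y + y')) = _
    rw [hevadd, hevadd, hψadd, hφadd]
    have := hcomm (hBT (hφ'b (ev y))) (hAT (hψmem (ev x')))
    simp only [mul_assoc]
    rw [← mul_assoc (φ' (ev y)) (ψ (ev x')), this, mul_assoc]
  · exact fun x y => T.mul_mem (hAT (hψmem _)) (hBT (hφ'b _))
  · intro g hg
    obtain ⟨u, hu, w, hw, huw⟩ := decompose hM ha hb hab hg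
    obtain ⟨w', hw'⟩ := hφsurj w hw
    obtain ⟨x, hx⟩ := hevsurj (Additive.ofMul ⟨u, hu⟩)
    obtain ⟨y, hy⟩ := hevsurj w'
    refine ⟨x, y, ?_⟩
    show ψ (ev x) * φ' (ev y) = g
    rw [hx, hy, hw', huw]
    rfl
  · intro x y h
    have h' : ψ (ev x) = (φ' (ev y))⁻¹ := eq_inv_of_mul_eq_one_left h
    have hx : x = 0 := hevzero (hψinj _ (tc_inter hab (hψmem _)
      (h' ▸ (elCentre G b l).inv_mem (hφ'b _))))
    have hy : y = 0 := by
      refine hevzero (hφinj _ ?_)
      subst hx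
      have : ψ (ev 0) = 1 := rfl
      rw [this] at h'
      exact inv_eq_one.1 h'.symm
    exact ⟨hx, hy⟩
  · intro c d h
    have h1 := hMc c v₀
    have h2 := hMc d v₀
    rw [← show Mc c = Mc d from congrArg Subtype.val h] at h2
    refine Subtype.ext (IsPersp.centre_unique (mem_elCentre.1 h1) (mem_elCentre.1 h2) fun h0 => ?_)
    exact hv₀ (hψinj _ (tc_inter hab (hψmem v₀)
      (eq_inv_of_mul_eq_one_left h0 ▸ (elCentre G b l).inv_mem (hφ'b _))))
  · intro x
    obtain ⟨c, hc⟩ := (hKmem _).1 x.2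
    exact ⟨c, Subtype.ext hc⟩
  · intro x y c
    show ψ (ev x) * φ' (ev y) ∈ _ ↔ _
    constructor
    · intro h
      apply hevinj
      rw [hevmul]
      exact (hMuniq _ _ _ h).symm
    · intro h
      rw [h, hevmul]
      exact hMc c (ev x)
  · intro x y
    show ψ (ev x) * φ' (ev y) ∈ _ ↔ _
    constructor
    · intro h
      refine hevzero (hψinj _ (tc_inter hab (hψmem _) ?_))
      have := (elCentre G b l).mul_mem h ((elCentre G b l).inv_mem (hφ'b (ev y)))
      rwa [mul_inv_cancel_right] at this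
    · rintro rfl
      rw [show ψ (ev 0) = 1 from rfl, one_mul]
      exact hφ'b _

end CfsgLib.OstromWagner
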