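import Cfsg.Agent.Lib.OstromWagner.Jordan
import Cfsg.Agent.Lib.OstromWagner.Hilbert90
import Mathlib.Algebra.Ring.GeomSum
import Mathlib.Algebra.Polynomial.Roots
import Mathlib.Algebra.Field.IsField

/-!
# A finite spread set closed under `a b a` is a field

The key step: an element `P + Q` of the set, with `P`, `Q` semilinear over the maximal field `K` for
an automorphism and its inverse, produces a nonzero singular element of the set.
-/

set_option autoImplicit false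
set_option linter.unusedSectionVars false

namespace CfsgLib.OstromWagner

open Finset Function

theorem semi_pow {L A : Type*} [CommRing L] [Ring A] (f : L →+* A) (s : L →+* L) (P : A)
    (hP : ∀ x, P * f x = f (s x) * P) (ν : L) (i : ℕ) :
    (f ν * P) ^ i = f (∏ j ∈ range i, s^[j] ν) * P ^ i := by
  induction i with
  | zero => simp
  | succ i ih =>
    have e : ∏ j ∈ range (i + 1), s^[j] ν = ν * s (∏ j ∈ range i, s^[j] ν) := by
      rw [prod_range_succ', map_prod, mul_comm]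
      simp only [iterate_zero_apply, ← iterate_succ_apply' s]
    rw [pow_succ', ih, e, map_mul, pow_succ' P, mul_assoc, ← mul_assoc P, hP]
    simp only [mul_assoc]

theorem semi_pq {L A : Type*} [CommRing L] [Ring A] (f : L →+* A) (s : L →+* L) (P Q : A)
    (hP : ∀ x, P * f x = f (s x) * P) {α : L} (hα : P * Q = f α) (j : ℕ) :
    P ^ j * Q ^ j = f (∏ i ∈ range j, s^[i] α) := by
  induction j with
  | zero => simp
  | succ j ih =>
    have e : ∏ i ∈ range (j + 1), s^[i] α = s (∏ i ∈ range j, s^[i] α) * α := by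
      rw [prod_range_succ', map_prod]
      simp only [iterate_zero_apply, ← iterate_succ_apply' s]
    rw [pow_succ' P, pow_succ Q, mul_assoc, ← mul_assoc (P ^ j), ih, ← mul_assoc, hP, mul_assoc, hα,
      e, map_mul]

variable {A : Type*} [Ring A] [Finite A] [Nontrivial A]
  {p : ℕ} [hp : Fact p.Prime] {K : Type*} [Field K] [Finite K] [Algebra (ZMod p) K]
  {ι : K →+* A} {S : AddSubgroup A}

/-- An automorphism as a ring endomorphism. -/
def rh (σ : K ≃ₐ[ZMod p] K) : K →+* K := σ.toRingEquiv.toRingHom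

theorem rh_apply (σ : K ≃ₐ[ZMod p] K) (k : K) : rh σ k = σ k := rfl

theorem rh_iterate (σ : K ≃ₐ[ZMod p] K) (i : ℕ) (k : K) : (rh σ)^[i] k = (σ ^ i) k := by
  induction i generalizing k with
  | zero => simp
  | succ i ih => rw [iterate_succ_apply, ih, pow_succ, AlgEquiv.mul_apply, rh_apply]

theorem rh_period (σ : K ≃ₐ[ZMod p] K) (k : K) : (rh σ)^[orderOf σ] k = k := by
  rw [rh_iterate, pow_orderOf_eq_one, AlgEquiv.one_apply]

theorem rh_dist (σ : K ≃ₐ[ZMod p] K) (i : ℕ) (hi : 0 < i) (hid : i < orderOf σ) :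
    ∃ k, (rh σ)^[i] k ≠ k := by
  by_contra h
  push Not at h
  refine pow_ne_one_of_lt_orderOf hi.ne' hid (AlgEquiv.ext fun k => ?_)
  rw [AlgEquiv.one_apply, ← rh_iterate, h]

theorem coe_ne_zero {k : K} (hk : k ≠ 0) : ι k ≠ 0 :=
  fun h => hk (ι.injective (h.trans (map_zero ι).symm))

theorem coe_isUnit {k : K} (hk : k ≠ 0) : IsUnit (ι k) := (isUnit_iff_ne_zero.2 hk).map ι

theorem coe_cancel {a b : K} {P : A} (hP : P ≠ 0) (h : ι a * P = ι b * P) : a = b := by
  by_contra hne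
  have h0 : ι (a - b) * P = 0 := by rw [map_sub, sub_mul, h, sub_self]
  exact hP ((coe_isUnit (sub_ne_zero.2 hne)).mul_right_eq_zero.1 h0)

/-- A semilinear element `u` with `(-u)^d w = w` makes `1 + u` singular. -/
theorem singular {σ : K ≃ₐ[ZMod p] K} {u w : A} (hu : InC ι σ u)
    (hw : InC ι (1 : K ≃ₐ[ZMod p] K) w) (hw0 : w ≠ 0) (h : (-u) ^ orderOf σ * w = w) :
    ¬ IsUnit (1 + u) := by
  intro hunit
  set d := orderOf σ
  have hd : 0 < d := orderOf_pos σ
  have hgeom : (1 + u) * ∑ i ∈ range d, (-u) ^ i = 1 - (-u) ^ d := by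
    have := mul_neg_geom_sum (-u) d
    rwa [sub_neg_eq_add] at this
  have h0 : (∑ i ∈ range d, (-u) ^ i) * w = 0 := by
    apply hunit.mul_right_eq_zero.1
    rw [← mul_assoc, hgeom, sub_mul, one_mul, h, sub_self]
  have h1 := congrArg (pr ι (1 : K ≃ₐ[ZMod p] K)) h0
  rw [sum_mul, pr_sum, pr_zero] at h1
  rw [sum_eq_single_of_mem 0 (mem_range.2 hd) ?_] at h1
  · rw [pow_zero, one_mul, hw.pr_self] at h1
    exact hw0 h1
  · intro i hi hi0
    have hc : InC ι (σ ^ i) ((-u) ^ i * w) := by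
      have := (hu.neg.pow i).mul hw
      rwa [mul_one] at this
    exact hc.pr_ne (Ne.symm (pow_ne_one_of_lt_orderOf hi0 (mem_range.1 hi)))

/-- Sums of terms `k P^i`, `k Q^i` with `i + 2 ≤ j`. -/
def lowTerms (ι : K →+* A) (P Q : A) (j : ℕ) : AddSubgroup A :=
  AddSubgroup.closure {y | ∃ i k, i + 2 ≤ j ∧ (y = ι k * P ^ i ∨ y = ι k * Q ^ i)}

theorem low_gen_left {P Q : A} {i j : ℕ} (k : K) (h : i + 2 ≤ j) :
    ι k * P ^ i ∈ lowTerms ι P Q j :=
  AddSubgroup.subset_closure ⟨i, k, h, Or.inl rfl⟩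

theorem low_gen_right {P Q : A} {i j : ℕ} (k : K) (h : i + 2 ≤ j) :
    ι k * Q ^ i ∈ lowTerms ι P Q j :=
  AddSubgroup.subset_closure ⟨i, k, h, Or.inr rfl⟩

theorem pow_sub_low {σ : K ≃ₐ[ZMod p] K} {P Q : A} (hP : InC ι σ P) (hQ : InC ι σ⁻¹ Q) {α β : K}
    (hα : P * Q = ι α) (hβ : Q * P = ι β) :
    ∀ j, 1 ≤ j → (P + Q) ^ j - P ^ j - Q ^ j ∈ lowTerms ι P Q j := by
  intro j hj
  induction j, hj using Nat.le_induction with
  | base => simp
  | succ j hj ih =>
    have hmap : ∀ y ∈ lowTerms ι P Q j, (P + Q) * y ∈ lowTerms ι P Q (j + 1) := by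
      intro y hy
      induction hy using AddSubgroup.closure_induction with
      | mem y hy =>
        obtain ⟨i, k, hi, rfl | rfl⟩ := hy
        · rw [add_mul, ← mul_assoc, ← mul_assoc, hP, hQ, mul_assoc, mul_assoc, ← pow_succ']
          refine AddSubgroup.add_mem _ (low_gen_left _ (by omega)) ?_
          rcases i with _ | i
          · rw [pow_zero, mul_one]
            simpa using low_gen_right (ι := ι) (P := P) (Q := Q) (i := 1) (j := j + 1) (σ⁻¹ k) (by omega)
          · rw [pow_succ' P i, ← mul_assoc Q, hβ, ← mul_assoc, ← map_mul]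
            exact low_gen_left _ (by omega)
        · rw [add_mul, ← mul_assoc, ← mul_assoc, hP, hQ, mul_assoc, mul_assoc, ← pow_succ']
          refine AddSubgroup.add_mem _ ?_ (low_gen_right _ (by omega))
          rcases i with _ | i
          · rw [pow_zero, mul_one]
            simpa using low_gen_left (ι := ι) (P := P) (Q := Q) (i := 1) (j := j + 1) (σ k) (by omega)
          · rw [pow_succ' Q i, ← mul_assoc P, hα, ← mul_assoc, ← map_mul]
            exact low_gen_right _ (by omega)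
      | zero => simp
      | add a b _ _ ha hb => rw [mul_add]; exact AddSubgroup.add_mem _ ha hb
      | neg a _ ha => rw [mul_neg]; exact AddSubgroup.neg_mem _ ha
    obtain ⟨i, rfl⟩ : ∃ i, j = i + 1 := ⟨j - 1, by omega⟩
    have e : (P + Q) ^ (i + 1 + 1) - P ^ (i + 1 + 1) - Q ^ (i + 1 + 1)
        = (P + Q) * ((P + Q) ^ (i + 1) - P ^ (i + 1) - Q ^ (i + 1))
          + (ι α * Q ^ i + ι β * P ^ i) := by
      rw [← hα, ← hβ, mul_assoc, mul_assoc, ← pow_succ', ← pow_succ', pow_succ' (P + Q) (i + 1),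
        pow_succ' P (i + 1), pow_succ' Q (i + 1)]
      noncomm_ring
    rw [e]
    exact AddSubgroup.add_mem _ (hmap _ ih)
      (AddSubgroup.add_mem _ (low_gen_right _ (by omega)) (low_gen_left _ (by omega)))

variable (hS : SpreadSet S) (hK : ∀ k, ι k ∈ S)
  (hC : ∀ x ∈ S, InC ι (1 : K ≃ₐ[ZMod p] K) x → ∃ k, ι k = x)

include hS hK

/-- A scalar root gives a singular element of the set. -/
theorem caseA {σ : K ≃ₐ[ZMod p] K} (hσ : σ ≠ 1) {P Q : A} (hP : InC ι σ P) (hQ : InC ι σ⁻¹ Q)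
    (hQ0 : σ⁻¹ = σ → Q = 0) (hX : P + Q ∈ S) (hP0 : P ≠ 0) {α : K} (hα : P * Q = ι α) {ρ : K}
    (hρ : σ ρ = ρ) (hρ0 : ρ ≠ 0) {w : A} (hw : InC ι (1 : K ≃ₐ[ZMod p] K) w) (hw0 : w ≠ 0)
    (hroot : P ^ orderOf σ * w = ι ρ * w) : False := by
  set d := orderOf σ
  have hd : 0 < d := orderOf_pos σ
  obtain ⟨ν, hν⟩ := nm_surjective (rh σ) d hd (rh_period σ) (rh_dist σ)
    (y := (-1) ^ d / ρ) (div_ne_zero (pow_ne_zero _ (neg_ne_zero.2 one_ne_zero)) hρ0)
    (by rw [map_div₀, map_pow, map_neg, map_one, rh_apply, hρ])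
  have hν0 : ν ≠ 0 := by
    intro h
    have : nm (rh σ) d ν = 0 := by
      refine prod_eq_zero (mem_range.2 hd) ?_
      simpa using h
    rw [this] at hν
    exact div_ne_zero (pow_ne_zero _ (neg_ne_zero.2 one_ne_zero)) hρ0 hν.symm
  set c := σ.symm ν⁻¹ with hc
  set u := ι ν * P with hu
  have hνc : ν * σ c = 1 := by rw [hc, AlgEquiv.apply_symm_apply, mul_inv_cancel₀ hν0]
  have hZ : (1 + u) * (ι c + Q) = ι (c + ν * α) + (P + Q) := by
    rw [add_mul, one_mul, mul_add, hu, mul_assoc (ι ν) P (ι c), hP, mul_assoc (ι ν) P Q, hα,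
      ← mul_assoc, ← map_mul, ← map_mul, hνc, map_one, one_mul, map_add]
    abel
  have hZmem : ι (c + ν * α) + (P + Q) ∈ S := S.add_mem (hK _) hX
  have hprσ : pr ι σ (ι (c + ν * α) + (P + Q)) = P := by
    rw [pr_add, pr_add, (InC.coe (ι := ι) (p := p) _).pr_ne hσ, hP.pr_self, zero_add]
    by_cases h2 : σ⁻¹ = σ
    · rw [hQ0 h2, pr_zero, add_zero]
    · rw [hQ.pr_ne (Ne.symm h2), add_zero]
  have hZ0 : ι (c + ν * α) + (P + Q) ≠ 0 := by
    intro h
    rw [h, pr_zero] at hprσ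
    exact hP0 hprσ.symm
  have hunit := hS.unit _ hZmem hZ0
  rw [← hZ] at hunit
  refine singular (σ := σ) (u := u) (hP.coe_mul ν) hw hw0 ?_ (IsUnit.of_mul_eq_one
    ((ι c + Q) * ↑hunit.unit⁻¹) (by rw [← mul_assoc]; exact hunit.mul_val_inv))
  rw [neg_pow, hu, semi_pow ι (rh σ) P hP ν d]
  show (-1) ^ d * (ι (nm (rh σ) d ν) * P ^ d) * w = w
  rw [hν, mul_assoc, mul_assoc, hroot, ← mul_assoc (ι _) (ι ρ), ← map_mul, div_mul_cancel₀ _ hρ0,
    map_pow, map_neg, map_one, ← mul_assoc, ← (Commute.refl (-1 : A)).mul_pow, neg_mul_neg, one_mul,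
    one_pow, one_mul]

include hC

theorem cross_scalar {σ : K ≃ₐ[ZMod p] K} {P Q : A} (hP : InC ι σ P) (hQ : InC ι σ⁻¹ Q)
    (hQ0 : σ⁻¹ = σ → Q = 0) (hX : P + Q ∈ S) (hP0 : P ≠ 0) :
    ∃ α : K, P * Q = ι α ∧ Q * P = ι (σ.symm α) := by
  by_cases h2 : σ⁻¹ = σ
  · exact ⟨0, by simp [hQ0 h2], by simp [hQ0 h2]⟩
  have hs2 : σ * σ ≠ 1 := fun h => h2 (inv_eq_of_mul_eq_one_right h)
  have hs2' : σ⁻¹ * σ⁻¹ ≠ 1 := fun h => hs2 (inv_eq_one.1 (by rw [mul_inv_rev]; exact h))
  have hτσ : ∀ l, σ⁻¹ (σ l) = l := fun l => by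
    rw [← AlgEquiv.mul_apply, inv_mul_cancel, AlgEquiv.one_apply]
  have hστ : ∀ l, σ (σ⁻¹ l) = l := fun l => by
    rw [← AlgEquiv.mul_apply, mul_inv_cancel, AlgEquiv.one_apply]
  have key : ∀ k : K, ∃ e : K,
      ι ((k * σ k) ^ 2) * (P * Q) + ι ((k * σ⁻¹ k) ^ 2) * (Q * P) = ι e := by
    intro k
    have hYmem : ι k * (P + Q) * ι k ∈ S := hS.aba _ (hK k) _ hX
    have hY : ι k * (P + Q) * ι k = ι (k * σ k) * P + ι (k * σ⁻¹ k) * Q := by
      rw [mul_add, add_mul, mul_assoc, mul_assoc, hP, hQ, ← mul_assoc, ← mul_assoc, map_mul,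
        map_mul]
    rw [hY] at hYmem
    have hsq := hS.sq_mem hYmem
    obtain ⟨e, he⟩ := hC _ (pr_mem hS hK (inv_one) hsq) (pr_inC _ _)
    refine ⟨e, ?_⟩
    rw [he]
    have e1 : ι (k * σ k) * P * (ι (k * σ⁻¹ k) * Q) = ι ((k * σ k) ^ 2) * (P * Q) := by
      rw [mul_assoc, ← mul_assoc P, hP, ← mul_assoc, ← mul_assoc, ← map_mul, mul_assoc _ P Q,
        map_mul σ, hστ]
      congr 2
      ring
    have e2 : ι (k * σ⁻¹ k) * Q * (ι (k * σ k) * P) = ι ((k * σ⁻¹ k) ^ 2) * (Q * P) := by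
      rw [mul_assoc, ← mul_assoc Q, hQ, ← mul_assoc, ← mul_assoc, ← map_mul, mul_assoc _ Q P,
        map_mul σ⁻¹, hτσ]
      congr 2
      ring
    rw [mul_add, add_mul, add_mul, pr_add, pr_add, pr_add, e1, e2,
      ((hP.coe_mul _).mul (hP.coe_mul _)).pr_ne (Ne.symm hs2),
      ((hQ.coe_mul _).mul (hQ.coe_mul _)).pr_ne (Ne.symm hs2')]
    have i1 : InC ι (1 : K ≃ₐ[ZMod p] K) (ι ((k * σ k) ^ 2) * (P * Q)) := by
      have := (hP.mul hQ).coe_mul ((k * σ k) ^ 2)
      rwa [mul_inv_cancel] at this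
    have i2 : InC ι (1 : K ≃ₐ[ZMod p] K) (ι ((k * σ⁻¹ k) ^ 2) * (Q * P)) := by
      have := (hQ.mul hP).coe_mul ((k * σ⁻¹ k) ^ 2)
      rwa [inv_mul_cancel] at this
    rw [i1.pr_self, i2.pr_self]
    abel
  obtain ⟨e1, he1⟩ := key 1
  simp only [map_one, one_mul, one_pow] at he1
  obtain ⟨k, hk⟩ : ∃ k : K, (k * σ k) ^ 2 ≠ (k * σ⁻¹ k) ^ 2 := by
    by_contra h
    push Not at h
    apply h2
    have hsq : ∀ k : K, σ⁻¹ (k ^ 2) = σ (k ^ 2) := by
      intro k
      rcases eq_or_ne k 0 with rfl | hk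
      · simp
      rw [map_pow, map_pow]
      have := h k
      rw [mul_pow, mul_pow] at this
      exact (mul_left_cancel₀ (pow_ne_zero 2 hk) this).symm
    refine AlgEquiv.ext fun k => ?_
    by_cases hch : ringChar K = 2
    · obtain ⟨c, rfl⟩ := FiniteField.isSquare_of_char_two hch k
      rw [← sq]; exact hsq c
    · have hk2 : k = ((k + 1) ^ 2 - k ^ 2 - 1) / 2 := by
        field_simp [Ring.two_ne_zero hch]
        ring
      rw [hk2, map_div₀, map_div₀, map_sub, map_sub, map_sub, map_sub, hsq, hsq, map_one, map_one,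
        map_ofNat, map_ofNat]
  obtain ⟨e, he⟩ := key k
  set a := (k * σ k) ^ 2
  set b := (k * σ⁻¹ k) ^ 2
  set α := (e - b * e1) / (a - b)
  have hPQ : P * Q = ι α := by
    apply (coe_isUnit (ι := ι) (sub_ne_zero.2 hk)).mul_left_cancel
    rw [← map_mul, mul_div_cancel₀ _ (sub_ne_zero.2 hk), map_sub, map_sub, map_mul, ← he, ← he1,
      sub_mul, mul_add]
    abel
  have hQP : Q * P = ι (e1 - α) := by rw [map_sub, ← he1, hPQ]; abel
  refine ⟨α, hPQ, ?_⟩
  rw [hQP]
  congr 1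
  have h : ι (σ (e1 - α)) * P = ι α * P := by rw [← hP, ← hQP, ← mul_assoc, hPQ]
  have h' := congrArg σ.symm (coe_cancel hP0 h)
  rwa [AlgEquiv.symm_apply_apply] at h'

/-- The data attached to a pair. -/
theorem setup {σ : K ≃ₐ[ZMod p] K} (hσ : σ ≠ 1) {P Q : A} (hP : InC ι σ P) (hQ : InC ι σ⁻¹ Q)
    (hQ0 : σ⁻¹ = σ → Q = 0) (hX : P + Q ∈ S) (hP0 : P ≠ 0) :
    ∃ α t : K, P * Q = ι α ∧ Q * P = ι (σ.symm α) ∧ σ t = t ∧
      P ^ orderOf σ + Q ^ orderOf σ = ι t ∧
      P ^ orderOf σ * Q ^ orderOf σ = ι (nm (rh σ) (orderOf σ) α) ∧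
      Q ^ orderOf σ * P ^ orderOf σ = ι (nm (rh σ) (orderOf σ) α) := by
  set d := orderOf σ with hdd
  have hd : 0 < d := orderOf_pos σ
  have hd2 : 2 ≤ d := by
    have : d ≠ 1 := fun h => hσ (orderOf_eq_one_iff.1 h)
    omega
  obtain ⟨α, hα, hβ⟩ := cross_scalar hS hK hC hP hQ hQ0 hX hP0
  have hπ : InC ι (1 : K ≃ₐ[ZMod p] K) (P ^ d) := by
    have := hP.pow d
    rwa [pow_orderOf_eq_one] at this
  have hπ' : InC ι (1 : K ≃ₐ[ZMod p] K) (Q ^ d) := by
    have := hQ.pow d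
    rwa [inv_pow, pow_orderOf_eq_one, inv_one] at this
  have hlow : ∀ y ∈ lowTerms ι P Q d, ∃ k, pr ι (1 : K ≃ₐ[ZMod p] K) y = ι k := by
    intro y hy
    induction hy using AddSubgroup.closure_induction with
    | mem y hy =>
      obtain ⟨i, k, hi, rfl | rfl⟩ := hy
      · rcases eq_or_ne i 0 with rfl | hi0
        · refine ⟨k, ?_⟩
          rw [pow_zero, mul_one, (InC.coe (ι := ι) (p := p) k).pr_self]
        · refine ⟨0, ?_⟩
          rw [map_zero, ((hP.pow i).coe_mul k).pr_ne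
            (Ne.symm (pow_ne_one_of_lt_orderOf hi0 (by omega)))]
      · rcases eq_or_ne i 0 with rfl | hi0
        · refine ⟨k, ?_⟩
          rw [pow_zero, mul_one, (InC.coe (ι := ι) (p := p) k).pr_self]
        · refine ⟨0, ?_⟩
          rw [map_zero, ((hQ.pow i).coe_mul k).pr_ne]
          intro h
          rw [inv_pow, eq_comm, inv_eq_one] at h
          exact pow_ne_one_of_lt_orderOf hi0 (show i < orderOf σ by omega) h
    | zero => exact ⟨0, by rw [map_zero, pr_zero]⟩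
    | add a b _ _ ha hb =>
      obtain ⟨⟨u, hu⟩, ⟨v, hv⟩⟩ := And.intro ha hb
      exact ⟨u + v, by rw [pr_add, hu, hv, map_add]⟩
    | neg a _ ha =>
      obtain ⟨u, hu⟩ := ha
      refine ⟨-u, ?_⟩
      have := pr_sub (ι := ι) (1 : K ≃ₐ[ZMod p] K) 0 a
      rw [zero_sub, pr_zero, zero_sub] at this
      rw [this, hu, map_neg]
  obtain ⟨k, hk⟩ := hlow _ (pow_sub_low hP hQ hα hβ d hd)
  obtain ⟨e, he⟩ := hC _ (pr_mem hS hK inv_one (hS.pow_mem hX d)) (pr_inC _ _)
  have ht : P ^ d + Q ^ d = ι (e - k) := by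
    rw [map_sub, he, ← hk, pr_sub, pr_sub, hπ.pr_self, hπ'.pr_self]
    abel
  set t := e - k
  have hcomm : Q ^ d * P = P * Q ^ d := by
    obtain ⟨i, hi⟩ : ∃ i, d = i + 1 := ⟨d - 1, by omega⟩
    rw [hi, pow_succ, mul_assoc, hβ, (hQ.pow i), ← pow_succ, pow_succ', ← mul_assoc P, hα]
    congr 2
    have h2 : (σ⁻¹ ^ i * σ⁻¹) α = α := by
      rw [← pow_succ, ← hi, inv_pow, pow_orderOf_eq_one, inv_one, AlgEquiv.one_apply]
    rw [AlgEquiv.mul_apply] at h2
    exact h2
  have hσt : σ t = t := by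
    refine coe_cancel (ι := ι) hP0 ?_
    rw [← hP, ← ht, mul_add, add_mul, hcomm, (pow_mul_comm' P d).symm]
  have hππ : P ^ d * Q ^ d = ι (nm (rh σ) d α) := semi_pq ι (rh σ) P Q hP hα d
  refine ⟨α, t, hα, hβ, hσt, ht, hππ, ?_⟩
  rw [← hππ]
  exact ((show Commute (Q ^ d) P from hcomm).pow_right d).eq

/-- A root in the fixed field of the quadratic of a pair is impossible. -/
theorem no_root {σ : K ≃ₐ[ZMod p] K} (hσ : σ ≠ 1) {P Q : A} (hP : InC ι σ P) (hQ : InC ι σ⁻¹ Q)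
    (hQ0 : σ⁻¹ = σ → Q = 0) (hX : P + Q ∈ S) (hP0 : P ≠ 0) {α t : K} (hα : P * Q = ι α)
    (hβ : Q * P = ι (σ.symm α)) (hσt : σ t = t)
    (ht : P ^ orderOf σ + Q ^ orderOf σ = ι t)
    (hc : Q ^ orderOf σ * P ^ orderOf σ = ι (nm (rh σ) (orderOf σ) α))
    {ρ : K} (hρ : σ ρ = ρ) (hroot : ρ * (t - ρ) = nm (rh σ) (orderOf σ) α) : False := by
  set d := orderOf σ with hdd
  have hd : 0 < d := orderOf_pos σ
  have hπ : InC ι (1 : K ≃ₐ[ZMod p] K) (P ^ d) := by
    have := hP.pow d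
    rwa [pow_orderOf_eq_one] at this
  have hquad : P ^ d * P ^ d = ι t * P ^ d - ι (nm (rh σ) d α) := by
    rw [← ht, add_mul, ← hc]; abel
  by_cases hc0 : nm (rh σ) d α = 0
  · have hα0 : α = 0 := by
      by_contra h
      exact nm_ne_zero (rh σ) d h hc0
    have hlowpow : ∀ j, 1 ≤ j → (P + Q) ^ j = P ^ j + Q ^ j := by
      intro j hj
      induction j, hj using Nat.le_induction with
      | base => simp
      | succ j hj ih =>
        obtain ⟨i, rfl⟩ : ∃ i, j = i + 1 := ⟨j - 1, by omega⟩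
        rw [pow_succ', ih, add_mul, mul_add, mul_add, ← pow_succ', ← pow_succ', pow_succ' Q i,
          pow_succ' P i, ← mul_assoc P, hα, ← mul_assoc Q, hβ, hα0, map_zero, map_zero]
        simp [pow_succ']
    have hX0 : P + Q ≠ 0 := by
      intro h
      have h1 := congrArg (pr ι σ) h
      rw [pr_add, hP.pr_self, pr_zero] at h1
      by_cases h2 : σ⁻¹ = σ
      · rw [hQ0 h2, pr_zero, add_zero] at h1; exact hP0 h1
      · rw [hQ.pr_ne (Ne.symm h2), add_zero] at h1; exact hP0 h1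
    have htu : IsUnit (ι t) := by
      rw [← ht, ← hlowpow d hd]
      exact (hS.unit _ hX hX0).pow d
    have ht0 : t ≠ 0 := by
      rintro rfl
      rw [map_zero] at htu
      exact not_isUnit_zero htu
    have hπ0 : P ^ d ≠ 0 := by
      intro h
      rw [h, zero_add] at ht
      rw [← ht] at htu
      have hQu : IsUnit Q := (isUnit_pow_iff hd.ne').1 htu
      rw [hα0, map_zero] at hα
      exact hP0 (hQu.mul_left_eq_zero.1 hα)
    refine caseA hS hK hσ hP hQ hQ0 hX hP0 hα hσt ht0 hπ hπ0 ?_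
    rw [hquad, hc0, map_zero, sub_zero]
  · have hρ0 : ρ ≠ 0 := by rintro rfl; rw [zero_mul] at hroot; exact hc0 hroot.symm
    have hρ0' : t - ρ ≠ 0 := by intro h; rw [h, mul_zero] at hroot; exact hc0 hroot.symm
    by_cases hw : P ^ d - ι (t - ρ) = 0
    · refine caseA hS hK hσ hP hQ hQ0 hX hP0 hα (ρ := t - ρ) (by rw [map_sub, hσt, hρ]) hρ0'
        InC.one one_ne_zero ?_
      rw [sub_eq_zero.1 hw]
    · refine caseA hS hK hσ hP hQ hQ0 hX hP0 hα hρ hρ0 (hπ.sub (InC.coe _)) hw ?_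
      rw [mul_sub, mul_sub, hquad, ← map_mul, hroot, hπ, AlgEquiv.one_apply, map_sub, sub_mul]
      abel

theorem twist_mem {σ : K ≃ₐ[ZMod p] K} {P Q : A} (hP : InC ι σ P) (hQ : InC ι σ⁻¹ Q)
    (hX : P + Q ∈ S) (hodd : Odd (orderOf σ)) (k : K) : ι k * P + Q * ι k ∈ S := by
  obtain ⟨e, he⟩ := hodd
  let T : Subring K :=
    { carrier := {r | ∀ k, ι k * P + Q * ι k ∈ S → ι (r * k) * P + Q * ι (r * k) ∈ S}
      one_mem' := fun k hk => by simpa using hk
      mul_mem' := fun {a b} ha hb k hk => by rw [mul_assoc]; exact ha _ (hb k hk)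
      zero_mem' := fun k _ => by simp [S.zero_mem]
      add_mem' := fun {a b} ha hb k hk => by
        have := S.add_mem (ha k hk) (hb k hk)
        rw [add_mul, map_add, add_mul, mul_add]
        convert this using 1
        abel
      neg_mem' := fun {a} ha k hk => by
        have := S.neg_mem (ha k hk)
        rw [neg_mul, map_neg, neg_mul, mul_neg]
        convert this using 1
        abel }
  let R0 : Subring K := Subring.closure (Set.range fun l : K => l * σ l)
  have hR0T : R0 ≤ T := by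
    refine Subring.closure_le.2 ?_
    rintro _ ⟨l, rfl⟩ k hk
    have h := hS.aba _ (hK l) _ hk
    have hl : ι l * Q = Q * ι (σ l) := by
      rw [hQ, ← AlgEquiv.mul_apply, inv_mul_cancel, AlgEquiv.one_apply]
    have e : ι l * (ι k * P + Q * ι k) * ι l
        = ι (l * σ l * k) * P + Q * ι (l * σ l * k) := by
      rw [mul_add, add_mul]
      congr 1
      · rw [mul_assoc, mul_assoc, hP, ← mul_assoc, ← mul_assoc, ← map_mul, ← map_mul]
        congr 2; ring
      · rw [← mul_assoc, hl, mul_assoc, mul_assoc, ← map_mul, ← map_mul]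
        congr 2; ring
    rwa [e] at h
  have hR0σ : ∀ r ∈ R0, σ r ∈ R0 := by
    intro r hr
    have : R0 ≤ R0.comap (rh σ) := by
      refine Subring.closure_le.2 ?_
      rintro _ ⟨l, rfl⟩
      exact Subring.subset_closure ⟨σ l, by simp [rh_apply]⟩
    exact this hr
  have hR0it : ∀ i, ∀ r ∈ R0, (rh σ)^[i] r ∈ R0 := by
    intro i
    induction i with
    | zero => exact fun r hr => hr
    | succ i ih => exact fun r hr => by rw [iterate_succ_apply]; exact ih _ (hR0σ r hr)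
  have hinv : ∀ r ∈ R0, r⁻¹ ∈ R0 := by
    intro r hr
    rcases eq_or_ne r 0 with rfl | h0
    · simp [R0.zero_mem]
    · have := Fintype.ofFinite K
      have h1 : r ^ (Fintype.card K - 1) = 1 := FiniteField.pow_card_sub_one_eq_one r h0
      obtain ⟨m, hm⟩ : ∃ m, Fintype.card K - 1 = m + 1 :=
        ⟨Fintype.card K - 2, by have := Fintype.one_lt_card (α := K); omega⟩
      rw [hm, pow_succ] at h1
      rw [← eq_inv_of_mul_eq_one_left h1]
      exact R0.pow_mem hr m
  have hsquare : ∀ k : K, k ^ 2 ∈ R0 := by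
    intro k
    rcases eq_or_ne k 0 with rfl | hk
    · simp [R0.zero_mem]
    have htel : ∀ i, ∏ j ∈ range i, (rh σ)^[2 * j] (k * σ k)
        = ∏ j ∈ range (2 * i), (rh σ)^[j] k := by
      intro i
      induction i with
      | zero => simp
      | succ i ih =>
        rw [prod_range_succ, ih, show 2 * (i + 1) = 2 * i + 1 + 1 by ring, prod_range_succ,
          prod_range_succ _ (2 * i), iterate_map_mul, mul_assoc, iterate_succ_apply (rh σ) (2 * i),
          rh_apply]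
    have h1 : nm (rh σ) (orderOf σ) k * k ∈ R0 := by
      have h2 := htel (e + 1)
      rw [show 2 * (e + 1) = orderOf σ + 1 by omega,
        prod_range_succ (fun j => (rh σ)^[j] k) (orderOf σ), rh_period] at h2
      show (∏ j ∈ range (orderOf σ), (rh σ)^[j] k) * k ∈ R0
      rw [← h2]
      exact R0.prod_mem fun j _ => hR0it _ _ (Subring.subset_closure ⟨k, rfl⟩)
    have h3 : nm (rh σ) (orderOf σ) (k * σ k) ∈ R0 :=
      R0.prod_mem fun j _ => hR0it _ _ (Subring.subset_closure ⟨k, rfl⟩)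
    have h4 := R0.mul_mem (R0.mul_mem h1 h1) (hinv _ h3)
    rw [nm_mul, ← rh_apply, nm_map (rh σ) _ (orderOf_pos σ) (rh_period σ)] at h4
    have hn := nm_ne_zero (rh σ) (orderOf σ) hk
    convert h4 using 1
    field_simp
  have hall : k ∈ T := by
    apply hR0T
    by_cases hch : ringChar K = 2
    · obtain ⟨c, rfl⟩ := FiniteField.isSquare_of_char_two hch k
      rw [← sq]; exact hsquare c
    · have h20 : (2 : K) ≠ 0 := Ring.two_ne_zero hch
      have h : ((k + 1) ^ 2 - k ^ 2 - 1) * (2 : K)⁻¹ = k := by field_simp; ring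
      rw [← h]
      refine R0.mul_mem (R0.sub_mem (R0.sub_mem (hsquare _) (hsquare _)) R0.one_mem) (hinv _ ?_)
      rw [← one_add_one_eq_two]
      exact R0.add_mem R0.one_mem R0.one_mem
  have := hall 1 (by simpa using hX)
  simpa using this

end CfsgLib.OstromWagner
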