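import Cfsg.Agent.Lib.OstromWagner.Fixed
import Mathlib.GroupTheory.IndexNormal

/-!
# Two-transitivity: Witt's argument and the order of a plane fixed by a `2`-group
-/

set_option autoImplicit false
set_option linter.unusedSectionVars false

namespace CfsgLib.OstromWagner

open Configuration

/-- Two-transitivity on the points. -/
def TwoTrans (G P : Type*) [Group G] [MulAction G P] : Prop :=
  ∀ a b c d : P, a ≠ b → c ≠ d → ∃ g : G, g • a = c ∧ g • b = d

variable {G P L : Type*} [Group G] [MulAction G P]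

/-- The stabiliser of two points. -/
def pairStab (a b : P) : Subgroup G := MulAction.stabilizer G a ⊓ MulAction.stabilizer G b

theorem mem_pairStab {a b : P} {g : G} : g ∈ pairStab a b ↔ g • a = a ∧ g • b = b := Iff.rfl

/-- A maximal `p`-subgroup of a two-point stabiliser. -/
def PairSylow (p : ℕ) (X : Subgroup G) (a b : P) : Prop :=
  X ≤ pairStab a b ∧ IsPGroup p X ∧
    ∀ Y : Subgroup G, IsPGroup p Y → Y ≤ pairStab a b → X ≤ Y → Y = X

theorem exists_pairSylow [Finite G] (p : ℕ) {W : Subgroup G} (hW : IsPGroup p W) {a b : P}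
    (h : W ≤ pairStab a b) : ∃ X, PairSylow p X a b ∧ W ≤ X := by
  have : Finite (Subgroup G) := Finite.of_injective (fun R => (R : Set G)) SetLike.coe_injective
  obtain ⟨X, hX⟩ := (Set.toFinite {Y : Subgroup G | IsPGroup p Y ∧ Y ≤ pairStab a b ∧ W ≤ Y})
    |>.exists_maximal ⟨W, hW, h, le_rfl⟩
  exact ⟨X, ⟨hX.1.2.1, hX.1.1, fun Y hY hYs hXY =>
    le_antisymm (hX.2 ⟨hY, hYs, hX.1.2.2.trans hXY⟩ hXY) hXY⟩, hX.1.2.2⟩

/-- Witt's lemma. -/
theorem witt [Finite G] (h2 : TwoTrans G P) {p : ℕ} [Fact p.Prime] {X : Subgroup G} {a b c d : P}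
    (hX : PairSylow p X a b) (hab : a ≠ b) (hcd : c ≠ d) (hc : ∀ x ∈ X, x • c = c)
    (hd : ∀ x ∈ X, x • d = d) :
    (∃ g ∈ Subgroup.normalizer (X : Set G), g • a = c ∧ g • b = d) ∧ PairSylow p X c d := by
  obtain ⟨g, hga, hgb⟩ := h2 a b c d hab hcd
  set H := pairStab (G := G) a b
  have hle' : ∀ x ∈ X.map (MulAut.conj g⁻¹).toMonoidHom, x ∈ H := by
    rintro _ ⟨x, hx, rfl⟩
    simp only [MulEquiv.coe_toMonoidHom, MulAut.conj_apply, inv_inv, H, mem_pairStab, mul_smul,
      hga, hgb, hc x hx, hd x hx]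
    exact ⟨by rw [← hga, inv_smul_smul], by rw [← hgb, inv_smul_smul]⟩
  let S : Sylow p H :=
    { toSubgroup := X.subgroupOf H
      isPGroup' := hX.2.1.comap_of_injective H.subtype Subtype.val_injective
      is_maximal' := fun {Q} hQ hle => by
        have hXQ : X ≤ Q.map H.subtype := fun x hx =>
          ⟨⟨x, hX.1 hx⟩, hle hx, rfl⟩
        have := hX.2.2 (Q.map H.subtype) (hQ.map _) (Subgroup.map_subtype_le Q) hXQ
        rw [← this, Subgroup.subgroupOf, Subgroup.comap_map_eq_self_of_injective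
          Subtype.val_injective] }
  set X' := X.map (MulAut.conj g⁻¹).toMonoidHom
  have hX'card : Nat.card X' = Nat.card X :=
    Subgroup.card_map_of_injective (MulAut.conj g⁻¹).injective
  let S' : Sylow p H := Sylow.ofCard (X'.subgroupOf H) (by
    have hS := S.card_eq_multiplicity
    rw [show Nat.card (S : Subgroup H) = Nat.card X from
      Nat.card_congr (Subgroup.subgroupOfEquivOfLe hX.1).toEquiv] at hS
    rw [Nat.card_congr (Subgroup.subgroupOfEquivOfLe hle').toEquiv, hX'card, hS])
  obtain ⟨k, hk⟩ := MulAction.exists_smul_eq H S S'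
  have hk' : X.map (MulAut.conj (k : G)).toMonoidHom = X' := by
    ext y
    constructor
    · rintro ⟨x, hx, rfl⟩
      have hmem : MulAut.conj k ⟨x, hX.1 hx⟩ ∈ (k • S : Sylow p H).toSubgroup := by
        rw [Sylow.coe_subgroup_smul]
        exact Subgroup.smul_mem_pointwise_smul _ _ _ (show x ∈ X from hx)
      rw [hk] at hmem
      exact hmem
    · intro hy
      have hmem : (⟨y, hle' y hy⟩ : H) ∈ (S' : Subgroup H) := hy
      rw [← hk, Sylow.coe_subgroup_smul] at hmem
      obtain ⟨x, hx, hxy⟩ := Subgroup.mem_map.1 hmem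
      exact ⟨(x : G), hx, congrArg Subtype.val hxy⟩
  have hn : g * (k : G) ∈ Subgroup.normalizer (X : Set G) := by
    rw [Subgroup.mem_normalizer_iff]
    intro x
    have hiff : ∀ y, y ∈ X' ↔ g * y * g⁻¹ ∈ X := by
      intro y
      constructor
      · rintro ⟨z, hz, rfl⟩
        simpa [mul_assoc] using hz
      · exact fun hy => ⟨_, hy, by simp [mul_assoc]⟩
    rw [show g * (k : G) * x * (g * (k : G))⁻¹ = g * ((k : G) * x * (k : G)⁻¹) * g⁻¹ by group,
      ← hiff, ← hk']
    constructor
    · exact fun hx => ⟨x, hx, by simp⟩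
    · rintro ⟨z, hz, hzx⟩
      have : z = x := by simpa using hzx
      exact this ▸ hz
  have hkab : (k : G) • a = a ∧ (k : G) • b = b := mem_pairStab.1 k.2
  have hna : (g * (k : G)) • a = c := by rw [mul_smul, hkab.1, hga]
  have hnb : (g * (k : G)) • b = d := by rw [mul_smul, hkab.2, hgb]
  refine ⟨⟨_, hn, hna, hnb⟩, fun x hx => mem_pairStab.2 ⟨hc x hx, hd x hx⟩, hX.2.1, ?_⟩
  intro Y hY hYs hXY
  set n := g * (k : G)
  have hYle : Y.map (MulAut.conj n⁻¹).toMonoidHom ≤ pairStab a b := by
    rintro _ ⟨y, hy, rfl⟩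
    obtain ⟨h1, h2'⟩ := mem_pairStab.1 (hYs hy)
    simp only [MulEquiv.coe_toMonoidHom, MulAut.conj_apply, inv_inv, mem_pairStab, mul_smul]
    constructor
    · rw [hna, h1, ← hna, inv_smul_smul]
    · rw [hnb, h2', ← hnb, inv_smul_smul]
  have hXle : X ≤ Y.map (MulAut.conj n⁻¹).toMonoidHom := by
    intro x hx
    refine ⟨n * x * n⁻¹, hXY ((Subgroup.mem_normalizer_iff.1 hn x).1 hx), ?_⟩
    simp [mul_assoc]
  have hcard : Nat.card (Y.map (MulAut.conj n⁻¹).toMonoidHom) = Nat.card Y :=
    Subgroup.card_map_of_injective (MulAut.conj n⁻¹).injective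
  rw [hX.2.2 _ (hY.map _) hYle hXle] at hcard
  exact (Subgroup.eq_of_le_of_card_ge hXY hcard.ge).symm

variable [Membership P L] [MulAction G L] [IsCollAction G P L] [ProjectivePlane P L]
  [Finite P] [Finite L]

variable (L) in
theorem ord_eq_of_card {P' L' : Type*} [Membership P' L'] [ProjectivePlane P' L'] [Finite P']
    [Finite L'] (h : Nat.card P = Nat.card P') : ord P L = ord P' L' := by
  rw [card_all_points P L, card_all_points P' L'] at h
  nlinarith [two_le_ord P L, two_le_ord P' L']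

variable [FaithfulSMul G P]

/-- The order of the plane is an iterated square of the order of a plane fixed by a `2`-group. -/
theorem two_group_order [Finite G] (W : Subgroup G) (hW : IsPGroup 2 W) (hQ : FixesQuad L W P) :
    ∃ e : ℕ, ord P L
      = (@ProjectivePlane.order (FixP W P) (FixL W L) _ (fixPlane hQ)) ^ (2 ^ e) := by
  induction h : Nat.card W using Nat.strong_induction_on generalizing W with
  | _ n ih =>
    subst h
    letI := fixPlane hQ
    by_cases hW1 : W = ⊥
    · refine ⟨0, ?_⟩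
      rw [pow_zero, pow_one]
      refine ord_eq_of_card L (L' := FixL W L) (Nat.card_congr (Equiv.subtypeUnivEquiv fun p => ?_).symm)
      intro g hg
      rw [hW1, Subgroup.mem_bot] at hg
      rw [hg, one_smul]
    obtain ⟨k, hk⟩ := IsPGroup.iff_card.1 hW
    obtain ⟨j, rfl⟩ : ∃ j, k = j + 1 := by
      rcases k with _ | j
      · exact absurd (Subgroup.card_eq_one.1 (by simpa using hk)) hW1
      · exact ⟨j, rfl⟩
    obtain ⟨M₀, hM₀⟩ := Sylow.exists_subgroup_card_pow_prime (G := W) 2
      (n := j) (by rw [hk]; exact pow_dvd_pow 2 (Nat.le_succ j))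
    set M := M₀.map W.subtype
    have hMW : M ≤ W := Subgroup.map_subtype_le M₀
    have hMc : Nat.card M = 2 ^ j := by
      rw [Subgroup.card_map_of_injective W.subtype_injective, hM₀]
    have hidx : M₀.index = 2 := by
      have := M₀.card_mul_index
      rw [hM₀, hk, pow_succ] at this
      exact Nat.eq_of_mul_eq_mul_left (pow_pos two_pos j) this
    have hnorm : M₀.Normal := Subgroup.normal_of_index_eq_two hidx
    obtain ⟨e, he⟩ := ih (Nat.card M) (by rw [hMc, hk]; exact Nat.pow_lt_pow_right one_lt_two (by omega))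
      M (hW.to_le hMW) (hQ.mono hMW) rfl
    obtain ⟨x, hxW, hxM⟩ : ∃ x ∈ W, x ∉ M := by
      by_contra hcon
      push Not at hcon
      have hle : Nat.card W ≤ Nat.card M := Subgroup.card_le_of_le hcon
      rw [hMc, hk] at hle
      exact absurd hle (not_le.2 (Nat.pow_lt_pow_right one_lt_two (by omega)))
    have hxn : x ∈ Subgroup.normalizer (M : Set G) := by
      rw [Subgroup.mem_normalizer_iff]
      intro h
      constructor
      · rintro ⟨m, hm, rfl⟩
        exact ⟨⟨x, hxW⟩ * m * ⟨x, hxW⟩⁻¹, hnorm.conj_mem m hm _, rfl⟩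
      · rintro ⟨m, hm, hmx⟩
        refine ⟨⟨x, hxW⟩⁻¹ * m * ⟨x, hxW⟩, ?_, ?_⟩
        · simpa using hnorm.conj_mem m hm ⟨x, hxW⟩⁻¹
        · simp only [Subgroup.coe_subtype, Subgroup.coe_mul, Subgroup.coe_inv]
          rw [show (m : G) = x * h * x⁻¹ from hmx]
          group
    have hx2 : x * x ∈ M :=
      ⟨⟨x, hxW⟩ * ⟨x, hxW⟩, Subgroup.mul_self_mem_of_index_two hidx _, rfl⟩
    letI := fixPlane (hQ.mono hMW)
    set t := toFixColl (P := P) (L := L) M ⟨x, hxn⟩ with ht
    have htt : t * t = 1 := by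
      rw [ht, ← map_mul]
      refine eq_one_of_points (P := FixP M P) fun p => ?_
      exact Subtype.ext (p.2 _ hx2)
    have hfix : ∀ p : FixP M P, t • p = p → ∀ h ∈ W, h • p.1 = p.1 := by
      intro p hp h hh
      have hxp : x • p.1 = p.1 := congrArg Subtype.val hp
      by_cases hhM : h ∈ M
      · exact p.2 h hhM
      · have hmul : h * x ∈ M := by
          refine ⟨⟨h, hh⟩ * ⟨x, hxW⟩, ?_, rfl⟩
          rw [SetLike.mem_coe, Subgroup.mul_mem_iff_of_index_two hidx]
          exact iff_of_false (fun hh' => hhM ⟨_, hh', rfl⟩) (fun hx' => hxM ⟨_, hx', rfl⟩)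
        have := p.2 _ hmul
        rwa [mul_smul, hxp] at this
    by_cases ht1 : t = 1
    · refine ⟨e, ?_⟩
      rw [he]
      congr 1
      refine ord_eq_of_card (L := FixL M L) (L' := FixL W L) (Nat.card_congr ?_)
      exact
        { toFun := fun p => ⟨p.1, hfix p (by rw [ht1, one_smul])⟩
          invFun := fun p => ⟨p.1, fun h hh => p.2 h (hMW hh)⟩
          left_inv := fun p => rfl
          right_inv := fun p => rfl }
    · obtain ⟨a, b, c, d, hq⟩ := hQ
      have lift : ∀ p : FixP W P, ∃ q : FixP (Subgroup.zpowers t) (FixP M P), q.1.1 = p.1 := by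
        intro p
        refine ⟨⟨⟨p.1, fun h hh => p.2 h (hMW hh)⟩, fun h hh =>
          (Subgroup.zpowers_le (H := MulAction.stabilizer _ _)).2 ?_ hh⟩, rfl⟩
        exact Subtype.ext (p.2 x hxW)
      have hQt : FixesQuad (FixL M L) (Subgroup.zpowers t) (FixP M P) := by
        obtain ⟨a', ha⟩ := lift a
        obtain ⟨b', hb⟩ := lift b
        obtain ⟨c', hc⟩ := lift c
        obtain ⟨d', hd⟩ := lift d
        rw [← ha, ← hb, ← hc, ← hd] at hq
        exact ⟨a', b', c', d', fun l hl => hq.1 l.1 hl, fun l hl => hq.2.1 l.1 hl,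
          fun l hl => hq.2.2.1 l.1 hl, fun l hl => hq.2.2.2 l.1 hl⟩
      letI := fixPlane hQt
      have hb := baer_order htt ht1 hQt
      refine ⟨e + 1, ?_⟩
      rw [he, pow_succ', pow_mul]
      congr 1
      rw [show @ProjectivePlane.order (FixP M P) (FixL M L) _ _ = ord (FixP M P) (FixL M L) from rfl,
        hb]
      congr 1
      refine ord_eq_of_card (L := FixL (Subgroup.zpowers t) (FixL M L)) (L' := FixL W L)
        (Nat.card_congr ?_)
      exact
        { toFun := fun p => ⟨p.1.1, hfix p.1 (p.2 t (Subgroup.mem_zpowers t))⟩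
          invFun := fun p => ⟨⟨p.1, fun h hh => p.2 h (hMW hh)⟩, fun h hh =>
            (Subgroup.zpowers_le (H := MulAction.stabilizer _ _)).2
              (show t • _ = _ from Subtype.ext (p.2 x hxW)) hh⟩
          left_inv := fun p => rfl
          right_inv := fun p => rfl }

end CfsgLib.OstromWagner
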