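import Cfsg.Agent.Lib.OstromWagner.Moufang

/-!
# The translation group of a line in a Moufang plane
-/

set_option autoImplicit false
set_option linter.unusedSectionVars false

namespace CfsgLib.OstromWagner

open Configuration

variable {G P L : Type*} [Group G] [MulAction G P] [MulAction G L] [Membership P L]
  [IsCollAction G P L] [ProjectivePlane P L] [Finite P] [Finite L] [FaithfulSMul G P]

theorem exists_off (l : L) : ∃ p : P, p ∉ l := Nondegenerate.exists_point l

/-- An elation lies in the centre subgroup of `c` iff it moves a point along its line to `c`. -/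
theorem tc_iff {l m : L} {c x : P} {g : G} (hg : g ∈ elGroup G P l) (hc : c ∈ l) (hx : x ∉ l)
    (hxm : x ∈ m) (hcm : c ∈ m) : g ∈ elCentre G c l ↔ g • x ∈ m := by
  constructor
  · exact fun h => (mem_elCentre.1 h).smul_mem hxm hcm
  · intro h
    by_cases hg1 : g = 1
    · exact hg1 ▸ IsPersp.one c l
    obtain ⟨d, hd, hgd⟩ := mem_elGroup.1 hg
    rw [mem_elCentre, ← elation_centre hgd hd hg1 hx hxm h hcm hc]
    exact hgd

theorem tc_inter {l : L} {c d : P} (hcd : c ≠ d) {g : G} (h : g ∈ elCentre G c l)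
    (h' : g ∈ elCentre G d l) : g = 1 := by
  by_contra hg
  exact hcd (IsPersp.centre_unique (mem_elCentre.1 h) (mem_elCentre.1 h') hg)

theorem conj_mem_tc {l : L} {c : P} (hc : c ∈ l) {g k : G} (hg : g ∈ elCentre G c l)
    (hk : k ∈ elGroup G P l) : k * g * k⁻¹ ∈ elCentre G c l := by
  have h := (mem_elCentre.1 hg).conj k
  obtain ⟨e, -, he⟩ := mem_elGroup.1 hk
  rw [elGroup_axial (P := P) hk hc, he.smul_axis] at h
  exact h

theorem comm_of_centre_ne {l : L} {c d : P} (hc : c ∈ l) (hd : d ∈ l) (hcd : c ≠ d) {g k : G}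
    (hg : g ∈ elCentre G c l) (hk : k ∈ elCentre G d l) : g * k = k * g := by
  have h : g * k * g⁻¹ * k⁻¹ = 1 := by
    refine tc_inter (l := l) hcd ?_ ?_
    · rw [show g * k * g⁻¹ * k⁻¹ = g * (k * g⁻¹ * k⁻¹) by group]
      exact (elCentre G c l).mul_mem hg
        (conj_mem_tc hc ((elCentre G c l).inv_mem hg) (elCentre_le hd hk))
    · exact (elCentre G d l).mul_mem (conj_mem_tc hd hk (elCentre_le hc hg))
        ((elCentre G d l).inv_mem hk)
  rw [mul_inv_eq_one, mul_inv_eq_iff_eq_mul] at h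
  exact h

variable (hM : Moufang G P L)

include hM

theorem exists_translation {l : L} {x y : P} (hx : x ∉ l) (hy : y ∉ l) {m : L} (hxm : x ∈ m)
    (hym : y ∈ m) {c : P} (hcm : c ∈ m) (hc : c ∈ l) : ∃ g ∈ elCentre G c l, g • x = y := by
  obtain ⟨g, hg, hgx⟩ := hM l x y hx hy
  exact ⟨g, (tc_iff hg hc hx hxm hcm).2 (hgx ▸ hym), hgx⟩

theorem exists_ne_one {l : L} {c : P} (hc : c ∈ l) : ∃ g ∈ elCentre G c l, g ≠ 1 := by
  obtain ⟨x, hx⟩ := exists_off (P := P) l
  obtain ⟨m, hxm, hcm⟩ := exists_line_through L x c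
  obtain ⟨y, hy, hyx, hyc⟩ := exists_third_point m x c
  have hml : m ≠ l := fun e => hx (e ▸ hxm)
  obtain ⟨g, hg, hgx⟩ := exists_translation hM hx (fun e => hyc (point_unique hml hy e hcm hc))
    hxm hy hcm hc
  refine ⟨g, hg, fun e => hyx ?_⟩
  rw [← hgx, e, one_smul]

/-- The translation group is commutative. -/
theorem elGroup_comm {l : L} {g k : G} (hg : g ∈ elGroup G P l) (hk : k ∈ elGroup G P l) :
    g * k = k * g := by
  obtain ⟨c, hc, hg'⟩ := mem_elGroup.1 hg
  obtain ⟨d, hd, hk'⟩ := mem_elGroup.1 hk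
  by_cases hcd : c = d
  · subst hcd
    obtain ⟨e, he, hec, -⟩ := exists_third_point l c c
    obtain ⟨τ, hτ, hτ1⟩ := exists_ne_one hM he
    obtain ⟨f, hf, hkτ⟩ := mem_elGroup.1 ((elGroup G P l).mul_mem hk (elCentre_le he hτ))
    have hfc : f ≠ c := by
      intro e'
      subst e'
      refine hτ1 (tc_inter hec hτ ?_)
      have := (elCentre G f l).mul_mem ((elCentre G f l).inv_mem hk') hkτ
      rwa [inv_mul_cancel_left] at this
    have h1 := comm_of_centre_ne hc hf hfc.symm hg' hkτ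
    have h2 := comm_of_centre_ne hc he hec.symm hg' hτ
    rw [← mul_assoc, mul_assoc k τ g, ← h2, ← mul_assoc] at h1
    exact mul_right_cancel h1
  · exact comm_of_centre_ne hc hd hcd hg' hk'

/-- The translation group is the product of any two centre subgroups. -/
theorem decompose {l : L} {c d : P} (hc : c ∈ l) (hd : d ∈ l) (hcd : c ≠ d) {g : G}
    (hg : g ∈ elGroup G P l) :
    ∃ u ∈ elCentre G c l, ∃ v ∈ elCentre G d l, g = u * v := by
  obtain ⟨o, ho⟩ := exists_off (P := P) l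
  obtain ⟨m₁, ho1, hd1⟩ := exists_line_through L o d
  obtain ⟨m₂, hg2, hc2⟩ := exists_line_through L (g • o) c
  obtain ⟨x, hx1, hx2⟩ := exists_point_on P m₁ m₂
  have hgo := elGroup_off hg ho
  have hx : x ∉ l := by
    intro e
    have hxd : x = d := point_unique (fun e' => ho (by rw [← e']; exact ho1)) hx1 e hd1 hd
    subst hxd
    exact hcd (point_unique (fun e' => hgo (by rw [← e']; exact hg2)) hc2 hc hx2 hd)
  obtain ⟨v, hv, hvo⟩ := exists_translation hM ho hx ho1 hx1 hd1 hd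
  obtain ⟨u, hu, hux⟩ := exists_translation hM hx hgo hx2 hg2 hc2 hc
  refine ⟨u, hu, v, hv, ?_⟩
  have hmem : (u * v)⁻¹ * g ∈ elGroup G P l := (elGroup G P l).mul_mem
    ((elGroup G P l).inv_mem ((elGroup G P l).mul_mem (elCentre_le hc hu) (elCentre_le hd hv))) hg
  have h := elGroup_free hmem ho (by rw [mul_smul, inv_smul_eq_iff, mul_smul, hvo, hux])
  exact (inv_mul_eq_one.1 h).symm

/-- Adding slopes: shears move components to components. -/
theorem shear {l : L} {a b c d : P} (ha : a ∈ l) (hb : b ∈ l) (hc : c ∈ l) (hd : d ∈ l)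
    (hab : a ≠ b) (hcb : c ≠ b) (hdb : d ≠ b) :
    ∃ k, k ∈ l ∧ k ≠ b ∧ ∀ v ∈ elCentre G a l, ∀ u₁ ∈ elCentre G b l, ∀ u₂ ∈ elCentre G b l,
      v * u₁ ∈ elCentre G c l → v * u₂ ∈ elCentre G d l → v * u₁ * u₂ ∈ elCentre G k l := by
  obtain ⟨o, ho⟩ := exists_off (P := P) l
  obtain ⟨m, hom, hbm⟩ := exists_line_through L o b
  have hml : m ≠ l := fun e => ho (e ▸ hom)
  have ham : a ∉ m := fun h => hab (point_unique hml h ha hbm hb)
  have hcm : c ∉ m := fun h => hcb (point_unique hml h hc hbm hb)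
  obtain ⟨σ, hσ, hσa⟩ := exists_translation hM ham hcm ha hc hb hbm
  have hσ' := mem_elCentre.1 hσ
  have hσl : σ • l = l := hσ'.2 l hb
  have hσb : σ • b = b := hσ'.1 b hbm
  have hσm : σ • o = o := hσ'.1 o hom
  have hconj : ∀ {x : P} {g : G}, g ∈ elCentre G x l → σ * g * σ⁻¹ ∈ elCentre G (σ • x) l := by
    intro x g hg
    have h := (mem_elCentre.1 hg).conj σ
    rwa [hσl] at h
  refine ⟨σ • d, smul_mem_of_fixed hσl hd,
    fun e => hdb (MulAction.injective σ (e.trans hσb.symm)),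
    fun v hv u₁ hu₁ u₂ hu₂ h1 h2 => ?_⟩
  have hfix : ∀ u ∈ elCentre G b l, σ * u * σ⁻¹ = u := by
    intro u hu
    have hu' := mem_elCentre.1 hu
    have hmem := hconj hu
    rw [hσb] at hmem
    have h : (u⁻¹ * (σ * u * σ⁻¹)) = 1 := elGroup_free
      (elCentre_le hb ((elCentre G b l).mul_mem ((elCentre G b l).inv_mem hu) hmem)) ho (by
        rw [mul_smul, mul_smul, mul_smul, inv_smul_eq_iff.2 hσm.symm,
          hσ'.1 _ (hu'.smul_mem hom hbm), inv_smul_smul])
    exact (inv_mul_eq_one.1 h).symm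
  have hv' := hconj hv
  rw [hσa] at hv'
  set δ := σ * v * σ⁻¹ * v⁻¹
  have hδ : δ ∈ elCentre G b l := by
    obtain ⟨n, hn1, hn2⟩ := exists_line_through L (v • o) b
    have hvo : v • o ∉ l := elGroup_off (elCentre_le ha hv) ho
    refine (tc_iff ((elGroup G P l).mul_mem (elCentre_le hc hv')
      ((elGroup G P l).inv_mem (elCentre_le ha hv))) hb hvo hn1 hn2).2 ?_
    rw [mul_smul, inv_smul_smul, mul_smul, mul_smul, inv_smul_eq_iff.2 hσm.symm]
    exact hσ'.smul_mem hn1 hn2
  have hδu : δ = u₁ := by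
    have hcomm : σ * v * σ⁻¹ = v * δ := by
      rw [elGroup_comm hM (elCentre_le ha hv) (elCentre_le hb hδ)]
      show σ * v * σ⁻¹ = σ * v * σ⁻¹ * v⁻¹ * v
      group
    rw [hcomm] at hv'
    have h : δ⁻¹ * u₁ = 1 := by
      refine tc_inter hcb.symm ((elCentre G b l).mul_mem ((elCentre G b l).inv_mem hδ) hu₁) ?_
      have := (elCentre G c l).mul_mem ((elCentre G c l).inv_mem hv') h1
      rwa [mul_inv_rev, mul_assoc, inv_mul_cancel_left] at this
    exact inv_mul_eq_one.1 h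
  have key := hconj h2
  rw [show σ * (v * u₂) * σ⁻¹ = σ * v * σ⁻¹ * (σ * u₂ * σ⁻¹) by group, hfix u₂ hu₂,
    show σ * v * σ⁻¹ = δ * v by show _ = σ * v * σ⁻¹ * v⁻¹ * v; group, hδu,
    elGroup_comm hM (elCentre_le hb hu₁) (elCentre_le ha hv)] at key
  exact key

end CfsgLib.OstromWagner
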